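import Groth.Agent.BCCx.Approx
import Groth.Agent.TFun.Bounded

/-!
# Truncating a complex of projectives to its amplitude
-/

set_option autoImplicit false
set_option linter.style.haveILetI false
set_option backward.isDefEq.respectTransparency false
universe u

open CategoryTheory CategoryTheory.Limits TensorProduct HomologicalComplex

namespace Groth.Agent.BCCx

variable {A : Type u} [CommRing A]

/-- A quasi-isomorphism of flat complexes bounded below is universal. -/
theorem nonempty_TFun_iso_of_qisAt {L K : ChainComplex (ModuleCat.{u} A) ℤ} (f : L ⟶ K)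
    (hL : ∀ i, Module.Flat A (L.X i)) (hK : ∀ i, Module.Flat A (K.X i))
    (hL0 : ∀ i < 0, Subsingleton (L.X i)) (hK0 : ∀ i < 0, Subsingleton (K.X i))
    (hq : ∀ n, QisAt f n) (n : ℤ) (M : ModuleCat.{u} A) :
    Nonempty ((CohIII.TFun L n).obj M ≅ (CohIII.TFun K n).obj M) := by
  obtain ⟨hs, hi⟩ := surjAt_injAt hL hK hq 0 (fun k hk N _ _ => by
    haveI := hL0 k hk
    haveI := hK0 k hk
    exact ⟨fun x _ => ⟨0, fun q => map_zero _, by
      rw [Subsingleton.elim x 0, map_zero, sub_zero]; exact zero_mem _⟩,
      fun y _ _ => by rw [Subsingleton.elim y 0]; exact zero_mem _⟩) n M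
  let φ : CohIII.tensorObj L M ⟶ CohIII.tensorObj K M :=
    ((MonoidalCategory.tensorRight M).mapHomologicalComplex _).map f
  suffices IsIso (homologyMap φ n) from ⟨asIso (homologyMap φ n)⟩
  rw [ConcreteCategory.isIso_iff_bijective]
  refine ⟨(TFun.injective_homologyMap_iff rfl (sub_add_cancel n 1) _).2 ?_,
    (TFun.surjective_homologyMap_iff rfl (sub_add_cancel n 1) _).2 ?_⟩
  · intro y hy hfy
    refine hi y (fun q => ?_) hfy
    by_cases hq' : q = n - 1
    · subst hq'; exact hy
    · rw [L.shape _ q (fun h => hq' (by simp only [ComplexShape.down_Rel] at h; omega))]; simp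
  · intro x hx
    obtain ⟨y, hy, hyx⟩ := hs x (fun q => by
      by_cases hq' : q = n - 1
      · subst hq'; exact hx
      · rw [K.shape _ q (fun h => hq' (by simp only [ComplexShape.down_Rel] at h; omega))]; simp)
    exact ⟨y, hy _, hyx⟩

section

variable (L : ChainComplex (ModuleCat.{u} A) ℤ)

/-- The quotient of `L` by a family of submodules. -/
noncomputable def quotCx (S : ∀ q, Submodule A (L.X q)) (h : ∀ i j, S i ≤ (S j).comap (L.d i j).hom) :
    ChainComplex (ModuleCat.{u} A) ℤ where
  X q := ModuleCat.of A (L.X q ⧸ S q)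
  d i j := ModuleCat.ofHom ((S i).mapQ (S j) (L.d i j).hom (h i j))
  shape i j hij := by
    ext x
    show (Submodule.Quotient.mk ((L.d i j).hom x) : L.X j ⧸ S j) = 0
    simp [L.shape i j hij]
  d_comp_d' i j k _ _ := by
    ext x
    show (Submodule.Quotient.mk ((L.d j k).hom ((L.d i j).hom x)) : L.X k ⧸ S k) = 0
    rw [← ConcreteCategory.comp_apply, L.d_comp_d]
    rfl

/-- The projection. -/
noncomputable def quotMk (S : ∀ q, Submodule A (L.X q)) (h : ∀ i j, S i ≤ (S j).comap (L.d i j).hom) :
    L ⟶ quotCx L S h where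
  f q := ModuleCat.ofHom (S q).mkQ

/-- The subcomplex given by a family of submodules. -/
noncomputable def subCx (Z : ∀ q, Submodule A (L.X q)) (h : ∀ i j, ∀ x ∈ Z i, (L.d i j).hom x ∈ Z j) :
    ChainComplex (ModuleCat.{u} A) ℤ where
  X q := ModuleCat.of A (Z q)
  d i j := ModuleCat.ofHom ((L.d i j).hom.restrict (h i j))
  shape i j hij := by
    ext x
    show (L.d i j).hom x.1 = 0
    simp [L.shape i j hij]
  d_comp_d' i j k _ _ := by
    ext x
    show (L.d j k).hom ((L.d i j).hom x.1) = 0
    rw [← ConcreteCategory.comp_apply, L.d_comp_d]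
    rfl

/-- The inclusion. -/
noncomputable def subIncl (Z : ∀ q, Submodule A (L.X q)) (h : ∀ i j, ∀ x ∈ Z i, (L.d i j).hom x ∈ Z j) :
    subCx L Z h ⟶ L where
  f q := ModuleCat.ofHom (Z q).subtype

end

/-- **Amplitude.** Cut a complex of finite projectives down to the degrees where it has homology. -/
theorem exists_amplitude [IsNoetherianRing A] (L : ChainComplex (ModuleCat.{u} A) ℤ)
    (hL : ∀ i, Module.Finite A (L.X i) ∧ Module.Projective A (L.X i)) (hL0 : ∀ i < 0, Subsingleton (L.X i))
    (a b : ℤ) (ha : 0 ≤ a) (hab : a ≤ b) (hlo : ∀ q < a, IsZero (L.homology q))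
    (hhi : ∀ q, b < q → ∀ M : ModuleCat.{u} A, IsZero ((CohIII.TFun L q).obj M)) :
    ∃ L' : ChainComplex (ModuleCat.{u} A) ℤ, (∀ i, Module.Finite A (L'.X i) ∧ Module.Projective A (L'.X i)) ∧
      (∀ i, i < a ∨ b < i → IsZero (L'.X i)) ∧
      ∀ q (M : ModuleCat.{u} A), Nonempty ((CohIII.TFun L' q).obj M ≅ (CohIII.TFun L q).obj M) := by
  have hP : ∀ i, Module.Flat A (L.X i) := fun i => by
    haveI := (hL i).2
    infer_instance
  let S : ∀ q, Submodule A (L.X q) := fun q =>
    if b < q then ⊤ else if q = b then LinearMap.range (L.d (q + 1) q).hom else ⊥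
  have hS1 : ∀ q, b < q → S q = ⊤ := fun q hq => if_pos hq
  have hS2 : S b = LinearMap.range (L.d (b + 1) b).hom := (if_neg (lt_irrefl b)).trans (if_pos rfl)
  have hS3 : ∀ q, q < b → S q = ⊥ := fun q hq => (if_neg (by omega)).trans (if_neg (by omega))
  have hS : ∀ i j, S i ≤ (S j).comap (L.d i j).hom := by
    intro i j
    by_cases hij : j + 1 = i
    · obtain hlt | rfl | hgt := lt_trichotomy b j
      · rw [hS1 j hlt]; simp
      · subst hij; rw [hS2]; exact fun x _ => ⟨x, rfl⟩
      · obtain hlt' | heq := lt_or_eq_of_le (show i ≤ b by omega)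
        · rw [hS3 i hlt']; simp
        · subst heq
          rw [hS2]
          rintro _ ⟨x, rfl⟩
          show (L.d i j).hom ((L.d (i + 1) i).hom x) ∈ S j
          rw [← ConcreteCategory.comp_apply, L.d_comp_d]
          exact zero_mem _
    · intro x _
      show (L.d i j).hom x ∈ S j
      rw [L.shape i j (fun h => hij (by simp only [ComplexShape.down_Rel] at h; omega))]
      exact zero_mem _
  let L1 := quotCx L S hS
  have hmk : ∀ q (x : L.X q), Submodule.Quotient.mk (p := S q) x = (quotMk L S hS).f q x := fun q x => rfl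
  have hq1 : ∀ n, QisAt (quotMk L S hS) n := by
    intro n
    refine ⟨fun x hx => ?_, fun y hy hfy => ?_⟩
    · obtain ⟨x, rfl⟩ := Submodule.mkQ_surjective (S n) x
      obtain hlt | hle := lt_or_ge b n
      · refine ⟨0, fun q => map_zero _, ?_⟩
        have h0 : ((S n).mkQ x : L.X n ⧸ S n) = 0 :=
          (Submodule.Quotient.mk_eq_zero _).2 (by rw [hS1 n hlt]; trivial)
        rw [map_zero, h0, sub_zero]
        exact zero_mem _
      · refine ⟨x, fun q => ?_, ?_⟩
        · by_cases hq' : q + 1 = n
          · have h := (Submodule.Quotient.mk_eq_zero (S q)).1 (hx q)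
            rwa [hS3 q (by omega), Submodule.mem_bot] at h
          · rw [L.shape n q (fun h => hq' (by simp only [ComplexShape.down_Rel] at h; omega))]; rfl
        · rw [show ((quotMk L S hS).f n).hom x = (S n).mkQ x from rfl, sub_self]
          exact zero_mem _
    · obtain hlt | hle := lt_or_ge b n
      · exact (TFun.isZero_homology_iff rfl (sub_add_cancel n 1)).1
          (IsZero.of_iso (hhi n hlt (ModuleCat.of A A)) (TFun.obj_self L).toModuleIso.symm) y (hy _)
      · obtain ⟨w, hw⟩ := hfy
        obtain ⟨w, rfl⟩ := Submodule.mkQ_surjective (S (n + 1)) w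
        have h : (L.d (n + 1) n).hom w - y ∈ S n := (Submodule.Quotient.eq (S n)).1 hw
        obtain hlt' | rfl := lt_or_eq_of_le hle
        · rw [hS3 n hlt', Submodule.mem_bot, sub_eq_zero] at h
          exact ⟨w, h⟩
        · rw [hS2] at h
          simpa using Submodule.sub_mem _ (LinearMap.mem_range_self (L.d (n + 1) n).hom w) h
  have hX1 : ∀ i, Module.Finite A (L1.X i) ∧ Module.Projective A (L1.X i) := by
    intro i
    haveI := (hL i).1
    refine ⟨Module.Finite.quotient A (S i), ?_⟩
    obtain hlt | rfl | hgt := lt_trichotomy b i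
    · haveI : Subsingleton (L.X i ⧸ S i) := Submodule.Quotient.subsingleton_iff.2 (hS1 i hlt)
      show Module.Projective A (L.X i ⧸ S i)
      infer_instance
    · haveI : Module.Flat A (TFun.coker L (b + 1) b) :=
        (TFun.preservesEpi_iff L hP (p := b + 1) rfl).1 ⟨fun {M N} g _ => (ModuleCat.epi_iff_surjective _).2
          fun c => ⟨0, @Subsingleton.elim _ (ModuleCat.isZero_iff_subsingleton.1 (hhi _ (by omega) N)) _ c⟩⟩
      haveI : Module.Finite A (TFun.coker L (b + 1) b) := Module.Finite.quotient A _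
      haveI : Module.FinitePresentation A (TFun.coker L (b + 1) b) := Module.finitePresentation_of_finite _ _
      haveI : Module.Projective A (TFun.coker L (b + 1) b) := Module.Flat.projective_of_finitePresentation
      exact Module.Projective.of_equiv (Submodule.quotEquivOfEq _ _ hS2.symm)
    · haveI := (hL i).2
      exact Module.Projective.of_equiv (Submodule.quotEquivOfEqBot _ (hS3 i hgt)).symm
  have hP1 : ∀ i, Module.Flat A (L1.X i) := fun i => by
    haveI := (hX1 i).2
    infer_instance
  have h10 : ∀ i < 0, Subsingleton (L1.X i) := fun i hi => by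
    haveI := hL0 i hi
    exact (Submodule.mkQ_surjective (S i)).subsingleton
  have hz1 : ∀ n < a, IsZero (L1.homology n) := fun n hn => by
    rw [TFun.isZero_homology_iff rfl (sub_add_cancel n 1)]
    intro x hx
    obtain ⟨y, hy, hyx⟩ := (hq1 n).1 x (fun q => by
      by_cases hq' : q = n - 1
      · subst hq'; exact hx
      · rw [L1.shape _ q (fun h => hq' (by simp only [ComplexShape.down_Rel] at h; omega))]; rfl)
    obtain ⟨w, rfl⟩ := (TFun.isZero_homology_iff rfl (sub_add_cancel n 1)).1 (hlo n hn) y (hy _)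
    have h1 : ((quotMk L S hS).f n).hom ((L.d (n + 1) n).hom w) ∈ LinearMap.range (L1.d (n + 1) n).hom :=
      ⟨Submodule.Quotient.mk w, rfl⟩
    simpa using Submodule.sub_mem _ h1 hyx
  let Z : ∀ q, Submodule A (L1.X q) := fun q =>
    if q < a then ⊥ else if q = a then LinearMap.ker (L1.d q (q - 1)).hom else ⊤
  have hZ1 : ∀ q, q < a → Z q = ⊥ := fun q hq => if_pos hq
  have hZ2 : Z a = LinearMap.ker (L1.d a (a - 1)).hom := (if_neg (lt_irrefl a)).trans (if_pos rfl)
  have hZ3 : ∀ q, a < q → Z q = ⊤ := fun q hq => (if_neg (by omega)).trans (if_neg (by omega))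
  have hmem : ∀ q (x : L1.X q), (∀ j, (L1.d q j).hom x = 0) → a ≤ q → x ∈ Z q := fun q x hx hq => by
    obtain hlt | rfl := lt_or_eq_of_le hq
    · rw [hZ3 q hlt]; trivial
    · rw [hZ2]; exact hx _
  have hd1 : ∀ i j k (x : L1.X i), (L1.d j k).hom ((L1.d i j).hom x) = 0 := fun i j k x => by
    rw [← ConcreteCategory.comp_apply, L1.d_comp_d]; rfl
  have hZ : ∀ i j, ∀ x ∈ Z i, (L1.d i j).hom x ∈ Z j := by
    intro i j x hx
    by_cases hij : j + 1 = i
    · obtain hlt | hle := lt_or_ge j a
      · obtain hlt' | heq := lt_or_eq_of_le (show i ≤ a by omega)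
        · rw [hZ1 i hlt', Submodule.mem_bot] at hx
          rw [hx, map_zero]; exact zero_mem _
        · subst heq
          rw [hZ2, LinearMap.mem_ker, show i - 1 = j by omega] at hx
          rw [hx]; exact zero_mem _
      · exact hmem j _ (fun k => hd1 i j k x) hle
    · rw [L1.shape i j (fun h => hij (by simp only [ComplexShape.down_Rel] at h; omega))]
      exact zero_mem _
  let L2 := subCx L1 Z hZ
  have hq2 : ∀ n, QisAt (subIncl L1 Z hZ) n := by
    intro n
    refine ⟨fun x hx => ?_, fun y hy hfy => ?_⟩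
    · obtain hlt | hle := lt_or_ge n a
      · refine ⟨0, fun q => map_zero _, ?_⟩
        rw [map_zero, zero_sub]
        exact neg_mem ((TFun.isZero_homology_iff rfl (sub_add_cancel n 1)).1 (hz1 n hlt) x (hx _))
      · refine ⟨⟨x, hmem n x hx hle⟩, fun q => Subtype.ext (hx q), ?_⟩
        show x - x ∈ _
        rw [sub_self]; exact zero_mem _
    · obtain hlt | hle := lt_or_ge n a
      · have h2 : y.1 ∈ (⊥ : Submodule A (L1.X n)) := hZ1 n hlt ▸ y.2
        rw [show y = 0 from Subtype.ext ((Submodule.mem_bot A).1 h2)]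
        exact zero_mem _
      · obtain ⟨w, hw⟩ := hfy
        exact ⟨⟨w, by rw [hZ3 (n + 1) (by omega)]; trivial⟩, Subtype.ext hw⟩
  have hX2 : ∀ i, Module.Finite A (L2.X i) ∧ Module.Projective A (L2.X i) := by
    intro i
    haveI := (hX1 i).1
    haveI : IsNoetherian A (L1.X i) := isNoetherian_of_isNoetherianRing_of_finite A _
    haveI : Module.Finite A (Z i) := Module.Finite.of_fg (IsNoetherian.noetherian _)
    refine ⟨inferInstanceAs (Module.Finite A (Z i)), ?_⟩
    show Module.Projective A (Z i)
    obtain hlt | rfl | hgt := lt_trichotomy i a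
    · haveI : Subsingleton (Z i) := by rw [hZ1 i hlt]; infer_instance
      infer_instance
    · haveI := hP1 i
      haveI := hP1 (i - 1)
      haveI : Module.Flat A (TFun.coker L1 i (i - 1)) := by
        have h := TFun.flat_coker_of_flat_homology L1 hP1 0 (fun k hk => haveI := h10 k hk
            ModuleCat.isZero_of_subsingleton _) (i - 1)
          (fun k hk => haveI := ModuleCat.isZero_iff_subsingleton.1 (hz1 k (by omega)); inferInstance)
          (n := i - 1) le_rfl
        rwa [sub_add_cancel] at h
      haveI : Module.Flat A (LinearMap.range (L1.d i (i - 1)).hom) :=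
        TFun.flat_left (g := (LinearMap.range (L1.d i (i - 1)).hom).subtype) Subtype.val_injective
          (LinearMap.exact_subtype_mkQ _) (Submodule.mkQ_surjective _)
      haveI : Module.Flat A (LinearMap.ker (L1.d i (i - 1)).hom) :=
        TFun.flat_left (g := (LinearMap.ker (L1.d i (i - 1)).hom).subtype)
          (f := (L1.d i (i - 1)).hom.rangeRestrict) Subtype.val_injective
          (LinearMap.exact_iff.2 (by rw [LinearMap.ker_rangeRestrict, Submodule.range_subtype]))
          (L1.d i (i - 1)).hom.surjective_rangeRestrict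
      haveI : Module.Finite A (LinearMap.ker (L1.d i (i - 1)).hom) :=
        Module.Finite.of_fg (IsNoetherian.noetherian _)
      haveI : Module.FinitePresentation A (LinearMap.ker (L1.d i (i - 1)).hom) :=
        Module.finitePresentation_of_finite _ _
      haveI : Module.Projective A (LinearMap.ker (L1.d i (i - 1)).hom) :=
        Module.Flat.projective_of_finitePresentation
      exact Module.Projective.of_equiv (LinearEquiv.ofEq _ _ hZ2.symm)
    · haveI := (hX1 i).2
      exact Module.Projective.of_equiv (LinearEquiv.ofTop _ (hZ3 i hgt)).symm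
  have hP2 : ∀ i, Module.Flat A (L2.X i) := fun i => by
    haveI := (hX2 i).2
    infer_instance
  refine ⟨L2, hX2, fun i hi => ?_, fun q M => ?_⟩
  · rw [ModuleCat.isZero_iff_subsingleton]
    show Subsingleton (Z i)
    obtain hlt | hgt := hi
    · rw [hZ1 i hlt]; infer_instance
    · haveI : Subsingleton (L1.X i) := Submodule.Quotient.subsingleton_iff.2 (hS1 i hgt)
      infer_instance
  · obtain ⟨i1⟩ := nonempty_TFun_iso_of_qisAt (quotMk L S hS) hP hP1 hL0 h10 hq1 q M
    obtain ⟨i2⟩ := nonempty_TFun_iso_of_qisAt (subIncl L1 Z hZ) hP2 hP1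
      (fun i hi => haveI := h10 i hi; inferInstanceAs (Subsingleton (Z i))) h10 hq2 q M
    exact ⟨i2 ≪≫ i1.symm⟩

end Groth.Agent.BCCx
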