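import Groth.Agent.TFun.Cx
import Mathlib.LinearAlgebra.DirectSum.Finsupp
import Mathlib.RingTheory.Noetherian.Basic
import Mathlib.RingTheory.Flat.Basic

/-!
# Finite free approximations of flat complexes, universally
-/

set_option autoImplicit false
set_option linter.style.haveILetI false
set_option backward.isDefEq.respectTransparency false
universe u

open CategoryTheory CategoryTheory.Limits TensorProduct HomologicalComplex

namespace Groth.Agent.BCCx

variable {A : Type u} [CommRing A] {L K : ChainComplex (ModuleCat.{u} A) ℤ} (f : L ⟶ K)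

/-- Surjectivity on homology after tensoring. -/
def SurjAt (n : ℤ) (M : Type u) [AddCommGroup M] [Module A M] : Prop :=
  ∀ x, (∀ q, (K.d n q).hom.rTensor M x = 0) →
    ∃ y, (∀ q, (L.d n q).hom.rTensor M y = 0) ∧
      (f.f n).hom.rTensor M y - x ∈ LinearMap.range ((K.d (n + 1) n).hom.rTensor M)

/-- Injectivity on homology after tensoring. -/
def InjAt (n : ℤ) (M : Type u) [AddCommGroup M] [Module A M] : Prop :=
  ∀ y, (∀ q, (L.d n q).hom.rTensor M y = 0) →
    (f.f n).hom.rTensor M y ∈ LinearMap.range ((K.d (n + 1) n).hom.rTensor M) →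
      y ∈ LinearMap.range ((L.d (n + 1) n).hom.rTensor M)

/-- The same before tensoring. -/
def QisAt (n : ℤ) : Prop :=
  (∀ x, (∀ q, (K.d n q).hom x = 0) → ∃ y, (∀ q, (L.d n q).hom y = 0) ∧
      (f.f n).hom y - x ∈ LinearMap.range (K.d (n + 1) n).hom) ∧
    ∀ y, (∀ q, (L.d n q).hom y = 0) → (f.f n).hom y ∈ LinearMap.range (K.d (n + 1) n).hom →
      y ∈ LinearMap.range (L.d (n + 1) n).hom

section Free

variable {X Y : Type u} [AddCommGroup X] [Module A X] [AddCommGroup Y] [Module A Y] {ι : Type u} [DecidableEq ι]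

theorem comp_rTensor (g : X →ₗ[A] Y) (z : X ⊗[A] (ι →₀ A)) (i : ι) :
    finsuppScalarRight A A Y ι (g.rTensor (ι →₀ A) z) i = g (finsuppScalarRight A A X ι z i) := by
  induction z using TensorProduct.induction_on with
  | zero => simp
  | tmul x p => rw [LinearMap.rTensor_tmul, finsuppScalarRight_apply_tmul_apply,
      finsuppScalarRight_apply_tmul_apply, map_smul]
  | add a b ha hb => simp only [map_add, Finsupp.add_apply, ha, hb]

theorem sum_tmul_single (z : X ⊗[A] (ι →₀ A)) :
    z = ∑ i ∈ (finsuppScalarRight A A X ι z).support, finsuppScalarRight A A X ι z i ⊗ₜ[A] Finsupp.single i (1 : A) := by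
  apply (finsuppScalarRight A A X ι).injective
  rw [map_sum]
  conv_lhs => rw [← Finsupp.sum_single (finsuppScalarRight A A X ι z)]
  refine Finset.sum_congr rfl fun i _ => ?_
  rw [finsuppScalarRight_apply_tmul, Finsupp.sum_single_index (by simp), one_smul]

end Free

variable {f}

theorem surjAt_free {n : ℤ} (h : QisAt f n) (ι : Type u) : SurjAt f n (ι →₀ A) := by
  classical
  intro x hx
  let c := finsuppScalarRight A A (K.X n) ι x
  have hc : ∀ i q, (K.d n q).hom (c i) = 0 := fun i q => by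
    rw [← comp_rTensor, hx]; simp
  choose y hy hyx using fun i => h.1 (c i) (hc i)
  refine ⟨∑ i ∈ c.support, y i ⊗ₜ[A] Finsupp.single i (1 : A), ?_, ?_⟩
  · intro q
    rw [map_sum]
    exact Finset.sum_eq_zero fun i _ => by rw [LinearMap.rTensor_tmul, hy, zero_tmul]
  · conv => arg 2; rw [sum_tmul_single x]
    rw [map_sum, ← Finset.sum_sub_distrib]
    refine Submodule.sum_mem _ fun i _ => ?_
    obtain ⟨w, hw⟩ := hyx i
    exact ⟨w ⊗ₜ[A] Finsupp.single i (1 : A), by rw [LinearMap.rTensor_tmul, hw, sub_tmul, LinearMap.rTensor_tmul]⟩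

theorem injAt_free {n : ℤ} (h : QisAt f n) (ι : Type u) : InjAt f n (ι →₀ A) := by
  classical
  rintro y hy ⟨k, hk⟩
  rw [sum_tmul_single y]
  refine Submodule.sum_mem _ fun i _ => ?_
  obtain ⟨w, hw⟩ := h.2 (finsuppScalarRight A A (L.X n) ι y i) (fun q => by rw [← comp_rTensor, hy]; simp)
    ⟨finsuppScalarRight A A (K.X (n + 1)) ι k i, by rw [← comp_rTensor, hk, comp_rTensor]⟩
  exact ⟨w ⊗ₜ[A] Finsupp.single i (1 : A), by rw [LinearMap.rTensor_tmul, hw]⟩

set_option maxHeartbeats 800000 in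
/-- The inductive step. -/
theorem step_at (hL : ∀ i, Module.Flat A (L.X i)) (hK : ∀ i, Module.Flat A (K.X i)) (m : ℤ)
    {M' F M : Type u} [AddCommGroup M'] [Module A M'] [AddCommGroup F] [Module A F] [AddCommGroup M] [Module A M]
    (i : M' →ₗ[A] F) (π : F →ₗ[A] M) (hi : Function.Injective i) (hiπ : Function.Exact i π)
    (hπ : Function.Surjective π) (hs' : SurjAt f m M') (hi' : InjAt f m M') (hiF : InjAt f m F)
    (hsF1 : SurjAt f (m + 1) F) (hiF1 : InjAt f (m + 1) F) :
    SurjAt f (m + 1) M ∧ (SurjAt f (m + 1) M' → InjAt f (m + 1) M) := by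
  have ex : ∀ (N : Type u) [AddCommGroup N] [Module A N],
      Function.Exact (i.lTensor N) (π.lTensor N) := fun N _ _ => lTensor_exact N hiπ hπ
  have hlK : ∀ j, Function.Injective (i.lTensor (K.X j)) := fun j =>
    Module.Flat.lTensor_preserves_injective_linearMap _ hi
  have hlL : ∀ j, Function.Injective (i.lTensor (L.X j)) := fun j =>
    Module.Flat.lTensor_preserves_injective_linearMap _ hi
  have cm : ∀ {X Y : ModuleCat.{u} A} (g : X ⟶ Y) (z : X ⊗[A] M'),
      g.hom.rTensor F (i.lTensor X z) = i.lTensor Y (g.hom.rTensor (M') z) := fun g z =>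
    LinearMap.congr_fun ((LinearMap.rTensor_comp_lTensor _ _ _).trans (LinearMap.lTensor_comp_rTensor _ _ _).symm) z
  have cm' : ∀ {X Y : ModuleCat.{u} A} (g : X ⟶ Y) (z : X ⊗[A] F),
      g.hom.rTensor M (π.lTensor X z) = π.lTensor Y (g.hom.rTensor F z) := fun g z =>
    LinearMap.congr_fun ((LinearMap.rTensor_comp_lTensor _ _ _).trans (LinearMap.lTensor_comp_rTensor _ _ _).symm) z
  have fd : ∀ (N : Type u) [AddCommGroup N] [Module A N] (a b : ℤ) (z : L.X a ⊗[A] N),
      (K.d a b).hom.rTensor N ((f.f a).hom.rTensor N z) = (f.f b).hom.rTensor N ((L.d a b).hom.rTensor N z) := by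
    intro N _ _ a b z
    rw [← LinearMap.comp_apply, ← LinearMap.rTensor_comp, ← ModuleCat.hom_comp, f.comm a b,
      ModuleCat.hom_comp, LinearMap.rTensor_comp, LinearMap.comp_apply]
  have dd : ∀ (C : ChainComplex (ModuleCat.{u} A) ℤ) (N : Type u) [AddCommGroup N] [Module A N] (a b c : ℤ)
      (z : C.X a ⊗[A] N), (C.d b c).hom.rTensor N ((C.d a b).hom.rTensor N z) = 0 := by
    intro C N _ _ a b c z
    rw [← LinearMap.comp_apply, ← LinearMap.rTensor_comp, TFun.d_d, LinearMap.rTensor_zero, LinearMap.zero_apply]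
  have zd : ∀ (C : ChainComplex (ModuleCat.{u} A) ℤ) (N : Type u) [AddCommGroup N] [Module A N]
      (q : ℤ) (z : C.X (m + 1) ⊗[A] N), (C.d (m + 1) m).hom.rTensor N z = 0 →
      (C.d (m + 1) q).hom.rTensor N z = 0 := by
    intro C N _ _ q z h
    by_cases hqm : q = m
    · subst hqm; exact h
    · rw [C.shape (m + 1) q (fun h' => hqm (by simp only [ComplexShape.down_Rel] at h'; omega))]
      simp
  refine ⟨fun x hx => ?_, fun hsK y hy hfy => ?_⟩
  · obtain ⟨xt, rfl⟩ := LinearMap.lTensor_surjective (K.X (m + 1)) hπ x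
    have hx := hx m
    rw [cm'] at hx
    obtain ⟨z, hz⟩ := (ex (K.X m) _).1 hx
    have hzc : ∀ q, (K.d m q).hom.rTensor (M') z = 0 := fun q => hlK _ (by
      rw [← cm, hz, dd, map_zero])
    obtain ⟨z', hz', w, hw⟩ := hs' z hzc
    have hcyc : ∀ q, (L.d m q).hom.rTensor F (i.lTensor (L.X m) z') = 0 := fun q => by
      rw [cm, hz', map_zero]
    have hbd : (f.f m).hom.rTensor F (i.lTensor (L.X m) z') ∈
        LinearMap.range ((K.d (m + 1) m).hom.rTensor F) :=
      ⟨xt + i.lTensor _ w, by rw [map_add, cm, cm, hw, ← hz, ← map_add, add_sub_cancel]⟩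
    obtain ⟨v, hv⟩ := hiF _ hcyc hbd
    have hc2 : (K.d (m + 1) m).hom.rTensor F
        (xt + i.lTensor _ w - (f.f (m + 1)).hom.rTensor F v) = 0 := by
      rw [map_sub, map_add, fd, hv, cm, cm, hw, ← hz, ← map_add, add_sub_cancel, sub_self]
    obtain ⟨u', hu', t, ht⟩ := hsF1 (xt + i.lTensor _ w -
      (f.f (m + 1)).hom.rTensor F v) (fun q => zd K F q _ hc2)
    have hπi : ∀ (N : Type u) [AddCommGroup N] [Module A N] (q : N ⊗[A] M'),
        π.lTensor N (i.lTensor N q) = 0 := fun N _ _ q => (ex N).apply_apply_eq_zero q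
    refine ⟨π.lTensor _ (v + u'), fun q => zd L M q _ ?_, π.lTensor _ t, ?_⟩
    · rw [cm', map_add, hv, hu' m, add_zero, hπi]
    · have h2 := congrArg (π.lTensor (K.X (m + 1))) ht
      simp only [map_sub, map_add, hπi, add_zero] at h2
      rw [cm', h2, cm', map_add, map_add]
      abel
  · obtain ⟨k, hk⟩ := hfy
    obtain ⟨yt, rfl⟩ := LinearMap.lTensor_surjective (L.X (m + 1)) hπ y
    obtain ⟨kt, rfl⟩ := LinearMap.lTensor_surjective (K.X (m + 1 + 1)) hπ k
    have hy := hy m
    rw [cm'] at hy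
    rw [cm', cm'] at hk
    obtain ⟨a, ha⟩ := (ex (L.X m) _).1 hy
    have hac : ∀ q, (L.d m q).hom.rTensor (M') a = 0 := fun q => hlL _ (by rw [← cm, ha, dd, map_zero])
    obtain ⟨b, hb'⟩ := (ex (K.X (m + 1)) ((f.f (m + 1)).hom.rTensor F yt -
      (K.d (m + 1 + 1) (m + 1)).hom.rTensor F kt)).1 (by rw [map_sub, hk, sub_self])
    have hdb : (K.d (m + 1) m).hom.rTensor (M') b = (f.f m).hom.rTensor (M') a :=
      hlK _ (by rw [← cm, hb', map_sub, dd, sub_zero, fd, ← ha, cm])
    obtain ⟨c, hc⟩ := hi' a hac ⟨b, hdb⟩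
    have hbc : (K.d (m + 1) m).hom.rTensor (M')
        (b - (f.f (m + 1)).hom.rTensor (M') c) = 0 := by
      rw [map_sub, fd, hc, hdb, sub_self]
    obtain ⟨e, he, t, ht⟩ := hsK _ (fun q => zd K _ q _ hbc)
    have hcyc : ∀ q, (L.d (m + 1) q).hom.rTensor F (yt - i.lTensor _ c - i.lTensor _ e) = 0 :=
      fun q => zd L F q _ (by
      rw [map_sub, map_sub, cm, cm, hc, he, map_zero, sub_zero, ← ha, sub_self])
    have hbd : (f.f (m + 1)).hom.rTensor F (yt - i.lTensor _ c - i.lTensor _ e) ∈
        LinearMap.range ((K.d (m + 1 + 1) (m + 1)).hom.rTensor F) := by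
      refine ⟨kt - i.lTensor _ t, ?_⟩
      simp only [map_sub, cm, ht, hb']
      abel
    obtain ⟨h, hh⟩ := hiF1 _ hcyc hbd
    refine ⟨π.lTensor _ h, ?_⟩
    rw [cm', hh, map_sub, map_sub, (ex _).apply_apply_eq_zero, (ex _).apply_apply_eq_zero, sub_zero, sub_zero]

/-- A map between flat complexes that is a quasi-isomorphism stays one after tensoring with any module,
given that it does in small degrees. -/
theorem surjAt_injAt (hL : ∀ i, Module.Flat A (L.X i)) (hK : ∀ i, Module.Flat A (K.X i))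
    (hq : ∀ n, QisAt f n) (n₀ : ℤ)
    (hb : ∀ n, n < n₀ → ∀ (M : Type u) [AddCommGroup M] [Module A M], SurjAt f n M ∧ InjAt f n M) :
    ∀ n, ∀ (M : Type u) [AddCommGroup M] [Module A M], SurjAt f n M ∧ InjAt f n M := by
  intro n
  obtain hlt | hle := lt_or_ge n n₀
  · exact hb n hlt
  induction n, (show n₀ - 1 ≤ n by omega) using Int.leInduction with
  | base => exact hb _ (by omega)
  | succ m hm ih =>
    have ih' : ∀ (M : Type u) [AddCommGroup M] [Module A M], SurjAt f m M ∧ InjAt f m M := by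
      obtain hlt | hle' := lt_or_ge m n₀
      · exact hb m hlt
      · exact ih hle'
    have key : ∀ (M : Type u) [AddCommGroup M] [Module A M], ∃ (M' : Type u) (_ : AddCommGroup M') (_ : Module A M'),
        SurjAt f (m + 1) M ∧ (SurjAt f (m + 1) M' → InjAt f (m + 1) M) := by
      intro M _ _
      obtain ⟨ι, π, hπ⟩ : ∃ (ι : Type u) (π : (ι →₀ A) →ₗ[A] M), Function.Surjective π :=
        ⟨M, _, Finsupp.linearCombination_id_surjective A M⟩
      exact ⟨LinearMap.ker π, inferInstance, inferInstance,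
        step_at hL hK m (LinearMap.ker π).subtype π Subtype.val_injective π.exact_subtype_ker_map hπ
          (ih' _).1 (ih' _).2 (ih' _).2 (surjAt_free (hq (m + 1)) ι) (injAt_free (hq (m + 1)) ι)⟩
    intro M _ _
    obtain ⟨M', _, _, hs, hi⟩ := key M
    obtain ⟨_, _, _, hs', -⟩ := key M'
    exact ⟨hs, hi hs'⟩

section existence

/-- Generators of the homology, as cycles. -/
theorem exists_gens (n : ℤ) (hH : Module.Finite A (K.homology n)) :
    ∃ (r : ℕ) (c : Fin r → K.X n), (∀ i q, (K.d n q).hom (c i) = 0) ∧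
      ∀ x, (∀ q, (K.d n q).hom x = 0) → ∃ v : Fin r → A,
        Fintype.linearCombination A c v - x ∈ LinearMap.range (K.d (n + 1) n).hom := by
  obtain ⟨r, s, hs⟩ := Module.Finite.exists_fin (R := A) (M := K.homology n)
  choose z hz using fun i => TFun.homologyπ_surjective (K := K) (p := n) (s i)
  refine ⟨r, fun i => K.iCycles n (z i), fun i q => TFun.d_iCycles _, fun x hx => ?_⟩
  obtain ⟨w, rfl⟩ := TFun.exists_cycle (sub_add_cancel n 1) x (hx (n - 1))
  have h : K.homologyπ n w ∈ Submodule.span A (Set.range s) := hs ▸ Submodule.mem_top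
  obtain ⟨v, hv⟩ := (Submodule.mem_span_range_iff_exists_fun A).1 h
  refine ⟨v, ?_⟩
  have e : Fintype.linearCombination A (fun i => K.iCycles n (z i)) v =
      K.iCycles n (∑ i, v i • z i) := by
    simp [Fintype.linearCombination_apply, map_sum]
  rw [e, ← TFun.homologyπ_eq_iff rfl, ← hv]
  simp [map_sum, hz]

variable (K) in
/-- One degree of the approximation under construction. -/
structure Stage (n : ℤ) : Type u where
  /-- the rank -/
  r : ℕ
  /-- the cycles -/
  Z : Submodule A (Fin r → A)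
  /-- the map -/
  f : (Fin r → A) →ₗ[A] K.X n
  cyc : ∀ z ∈ Z, ∀ q, (K.d n q).hom (f z) = 0
  surj : ∀ x, (∀ q, (K.d n q).hom x = 0) → ∃ z ∈ Z, f z - x ∈ LinearMap.range (K.d (n + 1) n).hom

theorem exists_stage_zero (hH : Module.Finite A (K.homology 0)) :
    ∃ S : Stage K 0, S.Z = ⊤ := by
  obtain ⟨r, c, hc, hs⟩ := exists_gens 0 hH
  refine ⟨⟨r, ⊤, Fintype.linearCombination A c, fun z _ q => ?_,
    fun x hx => (hs x hx).imp fun v hv => ⟨Submodule.mem_top, hv⟩⟩, rfl⟩
  simp [Fintype.linearCombination_apply, map_sum, hc]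

theorem exists_step [IsNoetherianRing A] {n : ℤ} (hH : Module.Finite A (K.homology (n + 1)))
    (S : Stage K n) :
    ∃ (T : Stage K (n + 1)) (δ : (Fin T.r → A) →ₗ[A] (Fin S.r → A)),
      T.Z = LinearMap.ker δ ∧
      LinearMap.range δ = S.Z ⊓ (LinearMap.range (K.d (n + 1) n).hom).comap S.f ∧
      S.f ∘ₗ δ = (K.d (n + 1) n).hom ∘ₗ T.f := by
  obtain ⟨a, w, hw⟩ := Submodule.fg_iff_exists_fin_generating_family.1
    (IsNoetherian.noetherian (S.Z ⊓ (LinearMap.range (K.d (n + 1) n).hom).comap S.f))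
  have hwm : ∀ j, w j ∈ S.Z ⊓ (LinearMap.range (K.d (n + 1) n).hom).comap S.f := fun j =>
    hw ▸ Submodule.subset_span ⟨j, rfl⟩
  choose k hk using fun j => (hwm j).2
  obtain ⟨b, c, hc, hs⟩ := exists_gens (n + 1) hH
  let δ : (Fin (a + b) → A) →ₗ[A] (Fin S.r → A) :=
    Fintype.linearCombination A (Fin.append w (0 : Fin b → Fin S.r → A))
  let g : (Fin (a + b) → A) →ₗ[A] K.X (n + 1) := Fintype.linearCombination A (Fin.append k c)
  have hcomm : S.f ∘ₗ δ = (K.d (n + 1) n).hom ∘ₗ g := by
    refine LinearMap.ext fun v => ?_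
    simp only [δ, g, LinearMap.comp_apply, Fintype.linearCombination_apply, Fin.sum_univ_add,
      Fin.append_left, Fin.append_right, map_add, map_sum, map_smul, hk, hc, Pi.zero_apply,
      smul_zero, Finset.sum_const_zero, map_zero]
  refine ⟨⟨a + b, LinearMap.ker δ, g, fun z hz q => ?_, fun x hx => ?_⟩, δ, rfl, ?_, hcomm⟩
  · by_cases hq : q = n
    · subst hq
      exact (LinearMap.congr_fun hcomm z).symm.trans (by simp [LinearMap.mem_ker.1 hz])
    · rw [K.shape (n + 1) q (fun h' => hq (by simp only [ComplexShape.down_Rel] at h'; omega))]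
      simp
  · obtain ⟨v, hv⟩ := hs x hx
    refine ⟨Fin.append 0 v, ?_, ?_⟩
    · simp [δ, Fintype.linearCombination_apply, Fin.sum_univ_add]
    · convert hv using 2
      simp [g, Fintype.linearCombination_apply, Fin.sum_univ_add]
  · simp only [δ, Fintype.range_linearCombination]
    refine le_antisymm (Submodule.span_le.2 ?_) (hw.ge.trans (Submodule.span_mono ?_))
    · rintro _ ⟨j, rfl⟩
      refine Fin.addCases (fun j => ?_) (fun j => ?_) j
      · rw [Fin.append_left]; exact hwm j
      · rw [Fin.append_right]; exact zero_mem _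
    · rintro _ ⟨j, rfl⟩
      exact ⟨Fin.castAdd b j, Fin.append_left _ _ j⟩

/-- A bounded below complex with finitely generated homology over a Noetherian ring receives a
quasi-isomorphism from a complex of finite free modules in non-negative degrees. -/
theorem exists_approx [IsNoetherianRing A] (K : ChainComplex (ModuleCat.{u} A) ℤ)
    (hH : ∀ n, Module.Finite A (K.homology n)) (h0 : ∀ n < 0, IsZero (K.homology n)) :
    ∃ (L : ChainComplex (ModuleCat.{u} A) ℤ) (f : L ⟶ K),
      (∀ i, Module.Finite A (L.X i) ∧ Module.Free A (L.X i)) ∧ (∀ i < 0, Subsingleton (L.X i)) ∧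
      ∀ n, QisAt f n := by
  obtain ⟨S₀, hS₀⟩ := exists_stage_zero (hH 0)
  choose T δ hZ hrange hcomm using fun (m : ℕ) (S : Stage K (m : ℤ)) => exists_step (hH ((m : ℤ) + 1)) S
  let St : ∀ m : ℕ, Stage K (m : ℤ) := fun m => Nat.rec S₀ (fun m S => T m S) m
  let r : ℤ → ℕ := fun | .ofNat m => (St m).r | .negSucc _ => 0
  let X : ℤ → ModuleCat.{u} A := fun n => ModuleCat.of A (Fin (r n) → A)
  let d : ∀ n : ℤ, X (n + 1) ⟶ X n := fun
    | .ofNat m => ModuleCat.ofHom (δ m (St m))
    | .negSucc _ => 0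
  have sq : ∀ n : ℤ, d (n + 1) ≫ d n = 0 := by
    rintro (m | m)
    · refine ModuleCat.hom_ext (LinearMap.ext fun v => ?_)
      show δ m (St m) (δ (m + 1) (St (m + 1)) v) = 0
      have h := (hrange (m + 1) (St (m + 1))).le ⟨v, rfl⟩
      exact LinearMap.mem_ker.1 ((hZ m (St m)).le h.1)
    · exact comp_zero
  let L : ChainComplex (ModuleCat.{u} A) ℤ := ChainComplex.of X d sq
  have hneg : ∀ m : ℕ, Subsingleton (L.X (Int.negSucc m)) := fun m =>
    inferInstanceAs (Subsingleton (Fin 0 → A))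
  let φ : ∀ n : ℤ, L.X n ⟶ K.X n := fun
    | .ofNat m => ModuleCat.ofHom (St m).f
    | .negSucc _ => 0
  have hLd : ∀ n, L.d (n + 1) n = d n := fun n => ChainComplex.of_d _ _ n
  let f : L ⟶ K :=
    { f := φ
      comm' := by
        rintro i j (rfl : j + 1 = i)
        rw [hLd]
        match j with
        | .ofNat m => exact ModuleCat.hom_ext (hcomm m (St m)).symm
        | .negSucc 0 =>
          refine ModuleCat.hom_ext (LinearMap.ext fun v => ?_)
          exact S₀.cyc v (hS₀ ▸ Submodule.mem_top) (Int.negSucc 0)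
        | .negSucc (m + 1) =>
          have := hneg m
          refine ModuleCat.hom_ext (LinearMap.ext fun v => ?_)
          rw [show v = 0 from Subsingleton.elim (α := L.X (Int.negSucc m)) _ _, map_zero, map_zero] }
  refine ⟨L, f, fun i => ⟨inferInstanceAs (Module.Finite A (Fin (r i) → A)),
    inferInstanceAs (Module.Free A (Fin (r i) → A))⟩, ?_, ?_⟩
  · rintro (m | m) hm
    · exact absurd hm (by simp)
    · exact hneg m
  have hcyc : ∀ (m : ℕ) (y : L.X (m : ℤ)), y ∈ (St m).Z ↔ ∀ q, (L.d (m : ℤ) q).hom y = 0 := by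
    intro m y
    cases m with
    | zero =>
      refine iff_of_true (hS₀ ▸ Submodule.mem_top) fun q => ?_
      by_cases hq : q = -1
      · subst hq
        have := hneg 0
        exact Subsingleton.elim (α := L.X (Int.negSucc 0)) _ _
      · rw [L.shape _ q (fun h => hq (by simp only [ComplexShape.down_Rel] at h; omega))]; simp
    | succ m =>
      show y ∈ (T m (St m)).Z ↔ _
      rw [hZ, LinearMap.mem_ker]
      constructor
      · intro h q
        by_cases hq : q = (m : ℤ)
        · subst hq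
          exact (congrArg (fun g => g.hom y) (hLd (m : ℤ))).trans h
        · rw [L.shape _ q (fun h => hq (by simp only [ComplexShape.down_Rel] at h; omega))]; simp
      · intro h
        exact (congrArg (fun g => g.hom y) (hLd (m : ℤ))).symm.trans (h (m : ℤ))
  rintro (m | m)
  · refine ⟨fun x hx => ?_, fun y hy hfy => ?_⟩
    · obtain ⟨z, hz, hzx⟩ := (St m).surj x hx
      exact ⟨z, (hcyc m z).1 hz, hzx⟩
    · have : y ∈ LinearMap.range (δ m (St m)) := (hrange m (St m)).ge ⟨(hcyc m y).2 hy, hfy⟩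
      exact (congrArg (fun g => y ∈ LinearMap.range g.hom) (hLd (m : ℤ))).mpr this
  · have := hneg m
    exact ⟨fun x hx => ⟨0, fun q => map_zero _, by
      rw [map_zero, zero_sub]
      exact neg_mem ((TFun.isZero_homology_iff rfl (sub_add_cancel _ 1)).1
        (h0 _ (Int.negSucc_lt_zero m)) x (hx _))⟩,
      fun y _ _ => by rw [Subsingleton.elim y 0]; exact zero_mem _⟩

/-- The approximation stays a quasi-isomorphism after tensoring with any module. -/
theorem exists_approx_univ [IsNoetherianRing A] (K : ChainComplex (ModuleCat.{u} A) ℤ)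
    (hK : ∀ i, Module.Flat A (K.X i))
    (hH : ∀ n, Module.Finite A (K.homology n)) (h0 : ∀ n < 0, IsZero (K.homology n))
    (h0M : ∀ n < 0, ∀ M : ModuleCat.{u} A, IsZero ((CohIII.tensorObj K M).homology n)) :
    ∃ (L : ChainComplex (ModuleCat.{u} A) ℤ) (f : L ⟶ K),
      (∀ i, Module.Finite A (L.X i) ∧ Module.Free A (L.X i)) ∧ (∀ i < 0, Subsingleton (L.X i)) ∧
      ∀ n (M : ModuleCat.{u} A), IsIso (homologyMap
        (((MonoidalCategory.tensorRight M).mapHomologicalComplex _).map f) n) := by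
  obtain ⟨L, f, hL, hL0, hq⟩ := exists_approx K hH h0
  refine ⟨L, f, hL, hL0, fun n M => ?_⟩
  have hLf : ∀ i, Module.Flat A (L.X i) := fun i => by
    have := (hL i).2
    infer_instance
  obtain ⟨hs, hi⟩ := surjAt_injAt hLf hK hq 0 (fun k hk M _ _ => by
    have := hL0 k hk
    exact ⟨fun x hx => ⟨0, fun q => map_zero _, by
      rw [map_zero, zero_sub]
      exact neg_mem ((TFun.isZero_homology_iff rfl (sub_add_cancel _ 1)).1
        (h0M k hk (ModuleCat.of A M)) x (hx _))⟩,
      fun y _ _ => by rw [Subsingleton.elim y 0]; exact zero_mem _⟩) n M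
  rw [ConcreteCategory.isIso_iff_bijective]
  refine ⟨(TFun.injective_homologyMap_iff rfl (sub_add_cancel n 1) _).2 ?_,
    (TFun.surjective_homologyMap_iff rfl (sub_add_cancel n 1) _).2 ?_⟩
  · intro y hy hfy
    refine hi y (fun q => ?_) hfy
    by_cases hq' : q = n - 1
    · subst hq'; exact hy
    · rw [L.shape _ q (fun h => hq' (by simp only [ComplexShape.down_Rel] at h; omega))]; simp
  · intro x hx
    obtain ⟨y, hy, hyx⟩ := hs x (fun q => by
      by_cases hq' : q = n - 1
      · subst hq'; exact hx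
      · rw [K.shape _ q (fun h => hq' (by simp only [ComplexShape.down_Rel] at h; omega))]; simp)
    exact ⟨y, hy _, hyx⟩

end existence

end Groth.Agent.BCCx
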