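import Groth.Agent.BCCx.BaseChange

/-!
# `T^p` and affine base change
-/

set_option autoImplicit false
set_option linter.style.haveILetI false
universe u

open CategoryTheory CategoryTheory.Limits AlgebraicGeometry Opposite TopologicalSpace

namespace Groth.Agent.BCCx

variable {A A' : Type u} [CommRing A] [CommRing A'] [Algebra A A'] {X X' : Scheme.{u}}
  [X.Over (Spec (CommRingCat.of A))] [X'.Over (Spec (CommRingCat.of A'))] {g : X' ⟶ X}

/-- `T'^p` is `T^p` on restricted modules. -/
theorem nonempty_bcT [IsSeparated (X ↘ Spec (CommRingCat.of A))] [CompactSpace X]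
    (hsq : IsPullback g (X' ↘ Spec (CommRingCat.of A')) (X ↘ Spec (CommRingCat.of A))
      (Spec.map (CommRingCat.ofHom (algebraMap A A'))))
    (F : X.Modules) [F.IsQuasicoherent] (p : ℕ) :
    Nonempty (CohIII.tensorAFunctor A' ((Scheme.Modules.pullback g).obj F) ⋙ CohIII.HAb X' p ≅
      ModuleCat.restrictScalars.{u} (algebraMap A A') ⋙ CohIII.tensorAFunctor A F ⋙ CohIII.HAb X p) := by
  classical
  haveI : X.IsSeparated := ⟨by rw [← terminal.comp_from (X ↘ Spec (CommRingCat.of A))]; infer_instance⟩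
  obtain ⟨ι, _, U, hcov, hU⟩ := exists_cover X
  haveI : ((Scheme.Modules.pullback g).obj F).IsQuasicoherent := QCohLib.isQuasicoherent_pullback g F
  obtain ⟨j⟩ := nonempty_cechIso (A := A) U hcov hU F p
  obtain ⟨j'⟩ := nonempty_cechIso (A := A') (fun i => g ⁻¹ᵁ U i)
    (by rw [← Scheme.Hom.preimage_iSup, hcov]; rfl) (affine_preimage hsq U hU)
    ((Scheme.Modules.pullback g).obj F) p
  obtain ⟨b⟩ := nonempty_bcIso hsq U F hU (p : ℤ)
  exact ⟨j' ≪≫ b ≪≫ Functor.isoWhiskerLeft _ j.symm⟩

end Groth.Agent.BCCx
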