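import Groth.Agent.BCCx.CechIso
import Groth.Agent.FlatBC.Sections
import Mathlib.Algebra.Homology.ShortComplex.PreservesHomology

/-!
# The Čech complex commutes with affine base change
-/

set_option autoImplicit false
set_option linter.style.haveILetI false
set_option backward.isDefEq.respectTransparency false
universe u

open CategoryTheory CategoryTheory.Limits AlgebraicGeometry Opposite TopologicalSpace TensorProduct HomologicalComplex

namespace Groth.Agent.BCCx

open Groth.Agent.CechCmp Groth.Agent.FlatBC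

section hom

/-- Homology commutes with an exact functor. -/
noncomputable def hMapIso {ι : Type} {c : ComplexShape ι} {R : Type u} [CommRing R]
    (G : ModuleCat.{u} R ⥤ AddCommGrpCat.{u}) [G.Additive] [G.PreservesHomology] (p : ι) :
    homologyFunctor (ModuleCat.{u} R) c p ⋙ G ≅ G.mapHomologicalComplex c ⋙ homologyFunctor AddCommGrpCat.{u} c p :=
  NatIso.ofComponents (fun K => ((K.sc p).mapHomologyIso G).symm) fun {K K'} φ =>
    ShortComplex.mapHomologyIso_inv_naturality ((shortComplexFunctor _ c p).map φ) G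

end hom

variable {A A' : Type u} [CommRing A] [CommRing A'] [Algebra A A']

/-- Base change of tensor products along a bijective semilinear comparison. -/
theorem exists_bcTensor {C C' : Type u} [AddCommGroup C] [Module A C] [AddCommGroup C'] [Module A' C']
    (χ : C →+ C') (hu : IsSemi (A := A) (B := A') χ) (hb : Function.Bijective (semiLift χ hu))
    (M : Type u) [AddCommGroup M] [Module A' M] [Module A M] [IsScalarTower A A' M] :
    ∃ Θ : C ⊗[A] M →+ C' ⊗[A'] M, (∀ c m, Θ (c ⊗ₜ m) = χ c ⊗ₜ m) ∧ Function.Bijective Θ := by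
  have hlin : ∀ (b : A') z, semiLift χ hu (b • z) = b • semiLift χ hu z := fun b z => by
    induction z using TensorProduct.induction_on with
    | zero => simp
    | tmul b' x => rw [TensorProduct.smul_tmul', semiLift_tmul, semiLift_tmul, smul_eq_mul, mul_smul]
    | add y z hy hz => rw [smul_add, map_add, hy, hz, map_add, smul_add]
  let L : A' ⊗[A] C ≃ₗ[A'] C' := LinearEquiv.ofBijective
    { toFun := semiLift χ hu, map_add' := map_add _, map_smul' := hlin } hb
  let e₁ : C ⊗[A] M ≃+ M ⊗[A] C := (TensorProduct.comm A C M).toAddEquiv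
  let e₂ : M ⊗[A] C ≃+ M ⊗[A'] (A' ⊗[A] C) :=
    (TensorProduct.AlgebraTensorModule.cancelBaseChange A A' A' M C).symm.toAddEquiv
  let e₃ : M ⊗[A'] (A' ⊗[A] C) ≃+ C' ⊗[A'] M :=
    ((TensorProduct.congr (LinearEquiv.refl A' M) L).trans (TensorProduct.comm A' M C')).toAddEquiv
  refine ⟨((e₁.trans e₂).trans e₃).toAddMonoidHom, fun c m => ?_, ((e₁.trans e₂).trans e₃).bijective⟩
  show e₃ (e₂ (m ⊗ₜ c)) = _
  show semiLift χ hu (1 ⊗ₜ c) ⊗ₜ[A'] m = _
  rw [semiLift_tmul, one_smul]

variable {X X' : Scheme.{u}} [X.Over (Spec (CommRingCat.of A))] [X'.Over (Spec (CommRingCat.of A'))]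
  {g : X' ⟶ X}
  (hsq : IsPullback g (X' ↘ Spec (CommRingCat.of A')) (X ↘ Spec (CommRingCat.of A))
    (Spec.map (CommRingCat.ofHom (algebraMap A A'))))
  {ι : Type u} [DecidableEq ι] (U : ι → X.Opens) (F : X.Modules) [F.IsQuasicoherent]

omit [DecidableEq ι] in
theorem meetOpen_preimage (s : Finset ι) :
    RSh.meetOpen (fun i => g ⁻¹ᵁ U i) s = g ⁻¹ᵁ RSh.meetOpen U s := by
  classical
  induction s using Finset.induction with
  | empty => simp [RSh.meetOpen]
  | insert i t _ ih =>
    simp only [RSh.meetOpen, Finset.iInf_insert] at ih ⊢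
    rw [ih]
    rfl

include hsq in
theorem isAffineHom_bc : IsAffineHom g :=
  MorphismProperty.of_isPullback hsq.flip inferInstance

include hsq in
/-- The pulled back cover has affine intersections. -/
theorem affine_preimage (hU : ∀ s : Finset ι, s.Nonempty → IsAffineOpen (RSh.meetOpen U s))
    (s : Finset ι) (hs : s.Nonempty) : IsAffineOpen (RSh.meetOpen (fun i => g ⁻¹ᵁ U i) s) := by
  haveI := isAffineHom_bc hsq
  rw [meetOpen_preimage]
  exact (hU s hs).preimage g

/-- The comparison on sections. -/
noncomputable def chiS (s : Finset ι) :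
    (sysOf (A := A) U F).obj s →+ (sysOf (A := A') (fun i => g ⁻¹ᵁ U i) ((Scheme.Modules.pullback g).obj F)).obj s :=
  (((rsh A' ((Scheme.Modules.pullback g).obj F)).res (meetOpen_preimage (g := g) U s).le).toAddMonoidHom).comp
    ((bcCmp hsq.w F).η.hom.app (op (RSh.meetOpen U s))).hom

theorem isSemi_η (W : X.Opens) : IsSemi (A := A) (B := A') (M := (bcCmp hsq.w F).F.F.obj.obj (op W))
    (N := (bcCmp hsq.w F).G.F.obj.obj (op W)) ((bcCmp hsq.w F).η.hom.app (op W)).hom := fun a x =>
  congr(($((bcCmp hsq.w F).comm a)).hom.app (op W) x)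

theorem isSemi_chiS (s : Finset ι) : IsSemi (A := A) (B := A') (chiS hsq U F s) := fun a x => by
  show ((rsh A' ((Scheme.Modules.pullback g).obj F)).res (meetOpen_preimage (g := g) U s).le) _ = _
  refine (congrArg _ (isSemi_η hsq F _ a x)).trans ?_
  exact map_smul ((rsh A' ((Scheme.Modules.pullback g).obj F)).res (meetOpen_preimage (g := g) U s).le) _ _

theorem bijective_chiS {s : Finset ι} (hU : IsAffineOpen (RSh.meetOpen U s)) :
    Function.Bijective (semiLift (chiS hsq U F s) (isSemi_chiS hsq U F s)) := by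
  let G := rsh A' ((Scheme.Modules.pullback g).obj F)
  let r := G.res (meetOpen_preimage (g := g) U s).le
  let r' := G.res (meetOpen_preimage (g := g) U s).ge
  have hr : Function.Bijective r := by
    refine ⟨Function.LeftInverse.injective (g := r') fun x => ?_, Function.RightInverse.surjective (g := r') fun x => ?_⟩
    · exact (RSh.res_res G _ _ x).trans (RSh.res_self G x)
    · exact (RSh.res_res G _ _ x).trans (RSh.res_self G x)
  have hb := bijective_semiLift_sections hsq F hU (isSemi_η hsq F _)
  have e : ⇑(semiLift (chiS hsq U F s) (isSemi_chiS hsq U F s)) = ⇑r ∘ ⇑(semiLift _ (isSemi_η hsq F (RSh.meetOpen U s))) := by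
    funext z
    induction z using TensorProduct.induction_on with
    | zero =>
      simp only [Function.comp_apply, map_zero]
    | tmul b x =>
      rw [semiLift_tmul]
      exact ((map_smul r b _).symm.trans (congrArg r (semiLift_tmul _ _ b x).symm))
    | add y z hy hz =>
      simp only [Function.comp_apply] at hy hz ⊢
      rw [map_add, map_add, hy, hz]
      exact (map_add r _ _).symm
  rw [e]
  exact hr.comp hb

theorem chiS_res {s t : Finset ι} (h : s ⊆ t) (x : (sysOf (A := A) U F).obj s) :
    chiS hsq U F t ((sysOf (A := A) U F).res h x) =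
      (sysOf (A := A') (fun i => g ⁻¹ᵁ U i) ((Scheme.Modules.pullback g).obj F)).res h (chiS hsq U F s x) := by
  let G := rsh A' ((Scheme.Modules.pullback g).obj F)
  have hn := ConcreteCategory.congr_hom
    ((bcCmp hsq.w F).η.hom.naturality (homOfLE (RSh.meetOpen_anti U h)).op) x
  refine (congrArg (G.res (meetOpen_preimage (g := g) U t).le) hn).trans ?_
  exact (RSh.res_res G _ _ _).trans (RSh.res_res G _ _ _).symm

/-- The comparison on cochains. -/
noncomputable def chiC (k : ℕ) : (sysOf (A := A) U F).C k →+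
    (sysOf (A := A') (fun i => g ⁻¹ᵁ U i) ((Scheme.Modules.pullback g).obj F)).C k :=
  AddMonoidHom.mk' (fun c σ => chiS hsq U F (img σ) (c σ)) fun c c' => funext fun σ =>
    map_add (chiS hsq U F (img σ)) (c σ) (c' σ)

theorem isSemi_chiC (k : ℕ) : IsSemi (A := A) (B := A') (chiC hsq U F k) := fun a x =>
  funext fun σ => isSemi_chiS hsq U F (img σ) a (x σ)

theorem bijective_chiC [Fintype ι] (hU : ∀ s : Finset ι, s.Nonempty → IsAffineOpen (RSh.meetOpen U s)) (k : ℕ) :
    Function.Bijective (semiLift (chiC hsq U F (k + 1)) (isSemi_chiC hsq U F (k + 1))) := by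
  have e : ⇑(semiLift (chiC hsq U F (k + 1)) (isSemi_chiC hsq U F (k + 1))) =
      (fun y σ => semiLift (chiS hsq U F (img σ)) (isSemi_chiS hsq U F (img σ)) (y σ)) ∘
        TensorProduct.piRight A A A' (fun σ : Fin (k + 1) → ι => (sysOf (A := A) U F).obj (img σ)) := by
    funext z
    induction z using TensorProduct.induction_on with
    | zero => funext σ; simp
    | tmul b c =>
      funext σ
      rw [semiLift_tmul]
      exact (semiLift_tmul (chiS hsq U F (img σ)) (isSemi_chiS hsq U F (img σ)) b (c σ)).symm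
    | add y w hy hw =>
      simp only [Function.comp_apply] at hy hw ⊢
      rw [map_add, map_add, hy, hw]
      funext σ
      exact (map_add (semiLift (chiS hsq U F (img σ)) (isSemi_chiS hsq U F (img σ))) _ _).symm
  rw [e]
  refine Function.Bijective.comp ?_ (LinearEquiv.bijective _)
  exact Function.Bijective.piMap fun σ => bijective_chiS hsq U F (hU _ ⟨_, mem_img σ 0⟩)

theorem chiC_d (k : ℕ) (c : (sysOf (A := A) U F).C (k + 1)) :
    chiC hsq U F (k + 2) ((sysOf (A := A) U F).d (k + 1) c) =
      (sysOf (A := A') (fun i => g ⁻¹ᵁ U i) ((Scheme.Modules.pullback g).obj F)).d (k + 1)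
        (chiC hsq U F (k + 1) c) := by
  funext σ
  show chiS hsq U F (img σ) _ = _
  rw [Sys.d_apply, Sys.d_apply, map_sum]
  refine Finset.sum_congr rfl fun j _ => ?_
  rw [isSemi_chiS, chiS_res, map_pow, map_neg, map_one]
  rfl

section iso

variable (K : CochainComplex (ModuleCat.{u} A) ℤ)

/-- `M ↦ K ⊗ M` -/
noncomputable def tFun : ModuleCat.{u} A ⥤ CochainComplex (ModuleCat.{u} A) ℤ where
  obj M := CohIII.tensorObj K M
  map g := CohIII.tensorMap K g
  map_id M := HomologicalComplex.hom_ext _ _ fun i => ModuleCat.hom_ext (TensorProduct.ext' fun _ _ => rfl)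
  map_comp g h := HomologicalComplex.hom_ext _ _ fun i => ModuleCat.hom_ext (TensorProduct.ext' fun _ _ => rfl)

/-- `TFun` as homology of a functor of complexes. -/
noncomputable def tFunIso (p : ℤ) : CohIII.TFun K p ≅ tFun K ⋙ homologyFunctor _ _ p :=
  NatIso.ofComponents (fun M => Iso.refl _) fun g => (Category.comp_id _).trans (Category.id_comp _).symm

end iso

open scoped ModuleCat

include hsq in
/-- **Base change for the Čech complex.** -/
theorem nonempty_bcIso [Fintype ι] (hU : ∀ s : Finset ι, s.Nonempty → IsAffineOpen (RSh.meetOpen U s)) (p : ℤ) :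
    Nonempty (CohIII.TFun (cx (sysOf (A := A') (fun i => g ⁻¹ᵁ U i) ((Scheme.Modules.pullback g).obj F))) p ⋙
        forget₂ (ModuleCat.{u} A') AddCommGrpCat.{u} ≅
      ModuleCat.restrictScalars.{u} (algebraMap A A') ⋙ CohIII.TFun (cx (sysOf (A := A) U F)) p ⋙
        forget₂ (ModuleCat.{u} A) AddCommGrpCat.{u}) := by
  let K := cx (sysOf (A := A) U F)
  let K' := cx (sysOf (A := A') (fun i => g ⁻¹ᵁ U i) ((Scheme.Modules.pullback g).obj F))
  let ρ := ModuleCat.restrictScalars.{u} (algebraMap A A')
  let S := forget₂ (ModuleCat.{u} A) AddCommGrpCat.{u}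
  let S' := forget₂ (ModuleCat.{u} A') AddCommGrpCat.{u}
  have hT : ∀ (n : ℕ) (M : ModuleCat.{u} A'), ∃ Θ : (sysOf (A := A) U F).C (n + 1) ⊗[A] ρ.obj M →+
      (sysOf (A := A') (fun i => g ⁻¹ᵁ U i) ((Scheme.Modules.pullback g).obj F)).C (n + 1) ⊗[A'] M,
      (∀ c (m : M), Θ (c ⊗ₜ m) = chiC hsq U F (n + 1) c ⊗ₜ m) ∧ Function.Bijective Θ := fun n M =>
    letI : Module A M := Module.compHom M (algebraMap A A')
    haveI : IsScalarTower A A' M := IsScalarTower.of_algebraMap_smul fun _ _ => rfl
    exists_bcTensor _ (isSemi_chiC hsq U F (n + 1)) (bijective_chiC hsq U F hU n) M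
  choose Θ hΘ hbij using hT
  let φ : ∀ M : ModuleCat.{u} A', (S.mapHomologicalComplex _).obj (CohIII.tensorObj K (ρ.obj M)) ⟶
      (S'.mapHomologicalComplex _).obj (CohIII.tensorObj K' M) := fun M =>
    { f := fun
        | Int.ofNat n => AddCommGrpCat.ofHom (Θ n M)
        | Int.negSucc _ => 0
      comm' := by
        rintro i j (rfl : i + 1 = j)
        cases i with
        | ofNat n =>
          refine AddCommGrpCat.ext fun z => ?_
          show ((K'.d (n : ℤ) ((n + 1 : ℕ) : ℤ)).hom.rTensor M (Θ n M z)) =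
            Θ (n + 1) M ((K.d (n : ℤ) ((n + 1 : ℕ) : ℤ)).hom.rTensor (ρ.obj M) z)
          induction z using TensorProduct.induction_on with
          | zero => simp only [map_zero]
          | tmul c m =>
            rw [LinearMap.rTensor_tmul, hΘ, hΘ, LinearMap.rTensor_tmul, cx_d_nat, cx_d_nat]
            exact congrArg (· ⊗ₜ[A'] m) (chiC_d hsq U F n c).symm
          | add x y hx hy => simp only [map_add, hx, hy]
        | negSucc n =>
          exact (Functor.map_isZero S (Functor.map_isZero (MonoidalCategory.tensorRight (ρ.obj M))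
            (isZero_cx_neg (sysOf (A := A) U F) n))).eq_of_src _ _ }
  haveI : ∀ M, IsIso (φ M) := fun M =>
    haveI : ∀ i, IsIso ((φ M).f i) := fun i => by
      cases i with
      | ofNat n => exact (ConcreteCategory.isIso_iff_bijective _).2 (hbij n M)
      | negSucc n =>
        exact ⟨0, (Functor.map_isZero S (Functor.map_isZero (MonoidalCategory.tensorRight (ρ.obj M))
            (isZero_cx_neg (sysOf (A := A) U F) n))).eq_of_src _ _,
          (Functor.map_isZero S' (Functor.map_isZero (MonoidalCategory.tensorRight M)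
            (isZero_cx_neg (sysOf (A := A') (fun i => g ⁻¹ᵁ U i) ((Scheme.Modules.pullback g).obj F)) n))).eq_of_src _ _⟩
    HomologicalComplex.Hom.isIso_of_components _
  let η : ρ ⋙ tFun K ⋙ S.mapHomologicalComplex _ ≅ tFun K' ⋙ S'.mapHomologicalComplex _ :=
    NatIso.ofComponents (fun M => asIso (φ M)) fun {M N} h => HomologicalComplex.hom_ext _ _ fun i => by
      cases i with
      | ofNat n =>
        refine AddCommGrpCat.ext fun z => ?_
        show Θ n N ((ρ.map h).hom.lTensor _ z) = h.hom.lTensor _ (Θ n M z)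
        induction z using TensorProduct.induction_on with
        | zero => simp only [map_zero]
        | tmul c m =>
          rw [LinearMap.lTensor_tmul, hΘ, hΘ, LinearMap.lTensor_tmul]
          rfl
        | add x y hx hy => simp only [map_add, hx, hy]
      | negSucc n =>
        exact (Functor.map_isZero S (Functor.map_isZero (MonoidalCategory.tensorRight (ρ.obj M))
          (isZero_cx_neg (sysOf (A := A) U F) n))).eq_of_src _ _
  exact ⟨Functor.isoWhiskerRight (tFunIso K' p) S' ≪≫ Functor.isoWhiskerLeft (tFun K') (hMapIso S' p) ≪≫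
    (Functor.isoWhiskerRight η.symm (homologyFunctor _ _ p)) ≪≫
    (Functor.isoWhiskerLeft (ρ ⋙ tFun K) (hMapIso S p).symm) ≪≫
    Functor.isoWhiskerLeft ρ (Functor.isoWhiskerRight (tFunIso K p).symm S)⟩

end Groth.Agent.BCCx
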