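import Groth.Agent.BCCx.Sections
import Mathlib.LinearAlgebra.TensorProduct.Pi
import Mathlib.Algebra.Homology.ShortComplex.ModuleCat

/-!
# The Čech complex of `F ⊗_A M` is the Čech complex of `F`, tensored with `M`
-/

set_option autoImplicit false
set_option linter.style.haveILetI false
set_option backward.isDefEq.respectTransparency false
universe u

open CategoryTheory CategoryTheory.Limits AlgebraicGeometry Opposite TopologicalSpace TensorProduct HomologicalComplex

namespace Groth.Agent.BCCx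

open Groth.Agent.CechCmp

section Hom

variable {R : Type u} [CommRing R] (K : CochainComplex (ModuleCat.{u} R) ℤ) {r p q : ℤ}

theorem exists_cycle (hpq : p + 1 = q) (x : K.X p) (hx : K.d p q x = 0) :
    ∃ z : K.cycles p, K.iCycles p z = x := by
  have h := ShortComplex.exact_of_f_is_kernel
    (ShortComplex.mk _ _ (K.iCycles_d p q)) (K.cyclesIsKernel p q ((ComplexShape.up ℤ).next_eq' hpq))
  exact (ShortComplex.moduleCat_exact_iff _).1 h x hx

theorem iCycles_inj : Function.Injective (K.iCycles p) :=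
  (ModuleCat.mono_iff_injective _).1 inferInstance

theorem π_eq_zero_iff (hrp : r + 1 = p) (z : K.cycles p) :
    K.homologyπ p z = 0 ↔ K.iCycles p z ∈ LinearMap.range (K.d r p).hom := by
  constructor
  · intro hz
    have h := ShortComplex.exact_of_g_is_cokernel
      (ShortComplex.mk _ _ (K.toCycles_comp_homologyπ r p))
      (K.homologyIsCokernel r p ((ComplexShape.up ℤ).prev_eq' hrp))
    obtain ⟨v, rfl⟩ := (ShortComplex.moduleCat_exact_iff _).1 h z hz
    exact ⟨v, congr($(K.toCycles_i r p) v).symm⟩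
  · rintro ⟨v, hv⟩
    obtain rfl : K.toCycles r p v = z := iCycles_inj K (congr($(K.toCycles_i r p) v).trans hv)
    exact congr($(K.toCycles_comp_homologyπ r p) v)

end Hom

variable {A : Type u} [CommRing A] {ι : Type u} [DecidableEq ι]

/-- The terms of the Čech complex. -/
noncomputable def cX (S : Sys A ι) : ℤ → ModuleCat.{u} A
  | Int.ofNat n => ModuleCat.of A (S.C (n + 1))
  | Int.negSucc _ => ModuleCat.of A PUnit.{u + 1}

/-- The differentials of the Čech complex. -/
noncomputable def cd (S : Sys A ι) : ∀ n : ℤ, cX S n ⟶ cX S (n + 1)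
  | Int.ofNat n => ModuleCat.ofHom (S.d (n + 1))
  | Int.negSucc _ => 0

/-- The Čech complex of a system. -/
noncomputable def cx (S : Sys A ι) : CochainComplex (ModuleCat.{u} A) ℤ :=
  CochainComplex.of (cX S) (cd S) fun n => by
    cases n with
    | ofNat n => exact ModuleCat.hom_ext (LinearMap.ext fun c => Sys.d_d (n + 1) S c)
    | negSucc n => exact zero_comp

theorem cx_d_nat (S : Sys A ι) (n : ℕ) :
    (cx S).d (n : ℤ) ((n + 1 : ℕ) : ℤ) = ModuleCat.ofHom (S.d (n + 1)) :=
  CochainComplex.of_d (cX S) (cd S) (n : ℤ)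

theorem isZero_cx_neg (S : Sys A ι) (n : ℕ) : IsZero ((cx S).X (Int.negSucc n)) := by
  show IsZero (ModuleCat.of A PUnit.{u + 1})
  exact ModuleCat.isZero_of_subsingleton _

/-- Maps of systems give maps of complexes. -/
noncomputable def cxMap {S T : Sys A ι} (f : Sys.Hom S T) : cx S ⟶ cx T where
  f
    | Int.ofNat n => ModuleCat.ofHom (f.mapC (n + 1))
    | Int.negSucc _ => 0
  comm' i j hij := by
    obtain rfl : i + 1 = j := hij
    cases i with
    | ofNat n =>
      show ModuleCat.ofHom (f.mapC (n + 1)) ≫ (cx T).d (n : ℤ) ((n + 1 : ℕ) : ℤ) =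
        (cx S).d (n : ℤ) ((n + 1 : ℕ) : ℤ) ≫ ModuleCat.ofHom (f.mapC (n + 2))
      rw [cx_d_nat, cx_d_nat]
      exact ModuleCat.hom_ext (LinearMap.ext fun c => (f.mapC_d n c).symm)
    | negSucc n => exact (isZero_cx_neg S n).eq_of_src _ _

/-- The class of a cycle. -/
noncomputable def toH (S : Sys A ι) (n : ℕ) : (cx S).cycles (n : ℤ) →ₗ[A] S.H n :=
  S.cls n ∘ₗ LinearMap.codRestrict (S.Z n) ((cx S).iCycles (n : ℤ)).hom fun z => LinearMap.mem_ker.2 (by
    have h := congr($((cx S).iCycles_d (n : ℤ) ((n + 1 : ℕ) : ℤ)) z)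
    rw [cx_d_nat] at h
    exact h)

theorem range_d_pred (S : Sys A ι) : ∀ (n : ℕ) (x : S.C (n + 1)),
    x ∈ LinearMap.range ((cx S).d ((n : ℤ) - 1) (n : ℤ)).hom ↔ x ∈ S.B n
  | 0, x => by
    have h : (cx S).d (Int.negSucc 0) ((0 : ℕ) : ℤ) = 0 := (isZero_cx_neg S 0).eq_of_src _ _
    show x ∈ LinearMap.range ((cx S).d (Int.negSucc 0) ((0 : ℕ) : ℤ)).hom ↔ x ∈ (⊥ : Submodule A _)
    rw [h, ModuleCat.hom_zero, LinearMap.range_zero]
  | m + 1, x => by
    rw [show ((m + 1 : ℕ) : ℤ) - 1 = (m : ℤ) by omega]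
    show x ∈ LinearMap.range ((cx S).d (m : ℤ) ((m + 1 : ℕ) : ℤ)).hom ↔ x ∈ LinearMap.range (S.d (m + 1))
    rw [cx_d_nat]
    rfl

/-- The homology of the Čech complex. -/
noncomputable def hEquiv (S : Sys A ι) (n : ℕ) : (cx S).homology (n : ℤ) ≃ₗ[A] S.H n :=
  have hπ : Function.Surjective ((cx S).homologyπ (n : ℤ)).hom :=
    (ModuleCat.epi_iff_surjective _).1 inferInstance
  have hf : Function.Surjective (toH S n) := fun y => by
    obtain ⟨z, rfl⟩ := Submodule.mkQ_surjective _ y
    obtain ⟨w, hw⟩ := exists_cycle (cx S) (p := (n : ℤ)) (q := ((n + 1 : ℕ) : ℤ)) rfl z.1 (by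
      rw [cx_d_nat]; exact LinearMap.mem_ker.1 z.2)
    exact ⟨w, congrArg (S.cls n) (Subtype.ext hw)⟩
  have h : LinearMap.ker ((cx S).homologyπ (n : ℤ)).hom = LinearMap.ker (toH S n) := by
    ext z
    rw [LinearMap.mem_ker, LinearMap.mem_ker, π_eq_zero_iff (cx S) (r := (n : ℤ) - 1) (by omega) z]
    refine (range_d_pred S n _).trans ?_
    rw [toH, LinearMap.comp_apply, Sys.cls_eq_zero_iff]
    rfl
  (((cx S).homologyπ (n : ℤ)).hom.quotKerEquivOfSurjective hπ).symm ≪≫ₗ Submodule.quotEquivOfEq _ _ h ≪≫ₗ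
    (toH S n).quotKerEquivOfSurjective hf

theorem hEquiv_π (S : Sys A ι) (n : ℕ) (z : (cx S).cycles (n : ℤ)) :
    hEquiv S n ((cx S).homologyπ (n : ℤ) z) = toH S n z := by
  have hπ : Function.Surjective ((cx S).homologyπ (n : ℤ)).hom :=
    (ModuleCat.epi_iff_surjective _).1 inferInstance
  have e : (((cx S).homologyπ (n : ℤ)).hom.quotKerEquivOfSurjective hπ).symm ((cx S).homologyπ (n : ℤ) z) =
      Submodule.Quotient.mk z := by
    rw [LinearEquiv.symm_apply_eq]
    rfl
  rw [hEquiv, LinearEquiv.trans_apply, LinearEquiv.trans_apply, e]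
  rfl

theorem hEquiv_natural {S T : Sys A ι} (f : Sys.Hom S T) (n : ℕ) (x : (cx S).homology (n : ℤ)) :
    hEquiv T n (homologyMap (cxMap f) (n : ℤ) x) = f.mapH n (hEquiv S n x) := by
  obtain ⟨z, rfl⟩ := (ModuleCat.epi_iff_surjective ((cx S).homologyπ (n : ℤ))).1 inferInstance x
  rw [show homologyMap (cxMap f) (n : ℤ) ((cx S).homologyπ (n : ℤ) z) =
    (cx T).homologyπ (n : ℤ) (cyclesMap (cxMap f) (n : ℤ) z) from congr($(homologyπ_naturality (cxMap f) (n : ℤ)) z),
    hEquiv_π, hEquiv_π]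
  exact congrArg (T.cls n) (Subtype.ext congr($(cyclesMap_i (cxMap f) (n : ℤ)) z))

variable [Fintype ι] {X : Scheme.{u}} [X.Over (Spec (CommRingCat.of A))] (F : X.Modules) (U : ι → X.Opens)

/-- The system of sections. -/
noncomputable abbrev sysOf (G : X.Modules) : Sys A ι := (rsh A G).sys U

/-- A map of modules on systems. -/
noncomputable abbrev sysMap {G G' : X.Modules} (f : G ⟶ G') : Sys.Hom (sysOf (A := A) U G) (sysOf (A := A) U G') :=
  (modHom (Coh.toGlobal (X ↘ Spec (CommRingCat.of A))) f).sysHom U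

/-- `c ⊗ m ↦ c ⊗ m` on cochains. -/
noncomputable def psi (k : ℕ) (M : ModuleCat.{u} A) :
    (sysOf (A := A) U F).C k ⊗[A] M →ₗ[A] (sysOf (A := A) U ((TA A F).obj M)).C k :=
  LinearMap.pi fun σ => beta A F (RSh.meetOpen U (img σ)) M ∘ₗ (LinearMap.proj σ).rTensor M

theorem psi_tmul (k : ℕ) (M : ModuleCat.{u} A) (c : (sysOf (A := A) U F).C k) (m : M) :
    psi F U k M (c ⊗ₜ[A] m) = (sysMap U (theta A F m)).mapC k c := rfl

theorem psi_bijective [F.IsQuasicoherent]
    (hU : ∀ s : Finset ι, s.Nonempty → IsAffineOpen (RSh.meetOpen U s)) (k : ℕ) (M : ModuleCat.{u} A) :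
    Function.Bijective (psi F U (k + 1) M) := by
  let b : (∀ σ : Fin (k + 1) → ι, ((rsh A F).F.obj.obj (op (RSh.meetOpen U (img σ)))) ⊗[A] M) →
      (sysOf (A := A) U ((TA A F).obj M)).C (k + 1) :=
    fun y σ => beta A F (RSh.meetOpen U (img σ)) M (y σ)
  have e : ⇑(psi F U (k + 1) M) = b ∘
      TensorProduct.piLeft A M (fun σ : Fin (k + 1) → ι => (sysOf (A := A) U F).obj (img σ)) := by
    funext z
    induction z using TensorProduct.induction_on with
    | zero => funext σ; simp [b]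
    | tmul c m => rfl
    | add y w hy hw =>
      simp only [Function.comp_apply] at hy hw ⊢
      rw [map_add, map_add, hy, hw]
      funext σ
      exact (map_add (beta A F (RSh.meetOpen U (img σ)) M) _ _).symm
  rw [e]
  refine Function.Bijective.comp ?_ (LinearEquiv.bijective _)
  exact Function.Bijective.piMap fun σ => beta_bijective A F (hU _ ⟨_, mem_img σ 0⟩) M

/-- The comparison of complexes. -/
noncomputable def psiCx (M : ModuleCat.{u} A) :
    CohIII.tensorObj (cx (sysOf (A := A) U F)) M ⟶ cx (sysOf U ((TA A F).obj M)) where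
  f
    | Int.ofNat n => ModuleCat.ofHom (psi F U (n + 1) M)
    | Int.negSucc _ => 0
  comm' i j hij := by
    obtain rfl : i + 1 = j := hij
    cases i with
    | ofNat n =>
      refine ModuleCat.hom_ext (TensorProduct.ext' fun c m => ?_)
      show (cx (sysOf U ((TA A F).obj M))).d (n : ℤ) ((n + 1 : ℕ) : ℤ) (psi F U (n + 1) M (c ⊗ₜ[A] m)) =
        psi F U (n + 2) M (((cx (sysOf (A := A) U F)).d (n : ℤ) ((n + 1 : ℕ) : ℤ) c) ⊗ₜ[A] m)
      rw [cx_d_nat, cx_d_nat, psi_tmul, psi_tmul]
      exact ((sysMap U (theta A F m)).mapC_d n c).symm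
    | negSucc n =>
      exact ((CategoryTheory.Functor.map_isZero (MonoidalCategory.tensorRight M)
        (isZero_cx_neg (sysOf (A := A) U F) n))).eq_of_src _ _

theorem isIso_psiCx [F.IsQuasicoherent] (hU : ∀ s : Finset ι, s.Nonempty → IsAffineOpen (RSh.meetOpen U s))
    (M : ModuleCat.{u} A) : IsIso (psiCx F U M) := by
  haveI : ∀ i, IsIso ((psiCx F U M).f i) := fun i => by
    cases i with
    | ofNat n =>
      exact (ConcreteCategory.isIso_iff_bijective _).2 (psi_bijective F U hU n M)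
    | negSucc n =>
      exact ⟨0, ((CategoryTheory.Functor.map_isZero (MonoidalCategory.tensorRight M)
          (isZero_cx_neg (sysOf (A := A) U F) n))).eq_of_src _ _, (isZero_cx_neg _ n).eq_of_src _ _⟩
  exact HomologicalComplex.Hom.isIso_of_components _

theorem psiCx_natural {M N : ModuleCat.{u} A} (g : M ⟶ N) :
    CohIII.tensorMap (cx (sysOf (A := A) U F)) g ≫ psiCx F U N =
      psiCx F U M ≫ cxMap (sysMap U ((TA A F).map g)) := by
  refine HomologicalComplex.hom_ext _ _ fun i => ?_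
  cases i with
  | ofNat n =>
    refine ModuleCat.hom_ext (TensorProduct.ext' fun c m => ?_)
    show psi F U (n + 1) N (c ⊗ₜ[A] g.hom m) = (sysMap U ((TA A F).map g)).mapC (n + 1) (psi F U (n + 1) M (c ⊗ₜ[A] m))
    rw [psi_tmul, psi_tmul, ← theta_comp A F g m]
    rfl
  | negSucc n =>
    exact (CategoryTheory.Functor.map_isZero (MonoidalCategory.tensorRight M)
      (isZero_cx_neg (sysOf (A := A) U F) n)).eq_of_src _ _

end Groth.Agent.BCCx
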