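import Groth.Agent.BCCx.Main

/-!
# Transporting properties along the comparison with `TFun`
-/

set_option autoImplicit false
universe u

open CategoryTheory CategoryTheory.Limits AlgebraicGeometry

namespace Groth.Agent.BCCx

variable {A : Type u} [CommRing A] {X : Scheme.{u}} {G : ModuleCat.{u} A ⥤ AddCommGrpCat.{u}}
  {T : ModuleCat.{u} A ⥤ ModuleCat.{u} A}

theorem surjective_iff (e : G ≅ T ⋙ forget₂ (ModuleCat.{u} A) AddCommGrpCat.{u}) {M N : ModuleCat.{u} A}
    (g : M ⟶ N) : Function.Surjective (G.map g).hom ↔ Function.Surjective (T.map g).hom := by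
  have hM := ConcreteCategory.bijective_of_isIso (e.hom.app M)
  have hN := ConcreteCategory.bijective_of_isIso (e.hom.app N)
  have h : ∀ x, (T.map g).hom ((e.hom.app M) x) = (e.hom.app N) ((G.map g) x) :=
    fun x => (ConcreteCategory.congr_hom (e.hom.naturality g) x).symm
  constructor
  · intro hs y
    obtain ⟨z, rfl⟩ := hN.2 y
    obtain ⟨x, rfl⟩ := hs z
    exact ⟨_, h x⟩
  · intro hs z
    obtain ⟨y, hy⟩ := hs ((e.hom.app N) z)
    obtain ⟨x, rfl⟩ := hM.2 y
    exact ⟨x, hN.1 ((h x).symm.trans hy)⟩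

theorem injective_iff (e : G ≅ T ⋙ forget₂ (ModuleCat.{u} A) AddCommGrpCat.{u}) {M N : ModuleCat.{u} A}
    (g : M ⟶ N) : Function.Injective (G.map g).hom ↔ Function.Injective (T.map g).hom := by
  have hM := ConcreteCategory.bijective_of_isIso (e.hom.app M)
  have hN := ConcreteCategory.bijective_of_isIso (e.hom.app N)
  have h : ∀ x, (T.map g).hom ((e.hom.app M) x) = (e.hom.app N) ((G.map g) x) :=
    fun x => (ConcreteCategory.congr_hom (e.hom.naturality g) x).symm
  constructor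
  · intro hi y y' hy
    obtain ⟨x, rfl⟩ := hM.2 y
    obtain ⟨x', rfl⟩ := hM.2 y'
    exact congrArg _ (hi (hN.1 ((h x).symm.trans (hy.trans (h x')))))
  · intro hi x x' hx
    exact hM.1 (hi ((h x).trans ((congrArg _ hx).trans (h x').symm)))

theorem preservesEpi_iff (e : G ≅ T ⋙ forget₂ (ModuleCat.{u} A) AddCommGrpCat.{u}) :
    G.PreservesEpimorphisms ↔ T.PreservesEpimorphisms :=
  ⟨fun h => ⟨fun g hg => (ModuleCat.epi_iff_surjective _).2
      ((surjective_iff e g).1 ((AddCommGrpCat.epi_iff_surjective _).1 (h.preserves g)))⟩,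
    fun h => ⟨fun g hg => (AddCommGrpCat.epi_iff_surjective _).2
      ((surjective_iff e g).2 ((ModuleCat.epi_iff_surjective _).1 (h.preserves g)))⟩⟩

theorem preservesMono_iff (e : G ≅ T ⋙ forget₂ (ModuleCat.{u} A) AddCommGrpCat.{u}) :
    G.PreservesMonomorphisms ↔ T.PreservesMonomorphisms :=
  ⟨fun h => ⟨fun g hg => (ModuleCat.mono_iff_injective _).2
      ((injective_iff e g).1 ((AddCommGrpCat.mono_iff_injective _).1 (h.preserves g)))⟩,
    fun h => ⟨fun g hg => (AddCommGrpCat.mono_iff_injective _).2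
      ((injective_iff e g).2 ((ModuleCat.mono_iff_injective _).1 (h.preserves g)))⟩⟩

/-- An isomorphism of functors from natural linear equivalences. -/
noncomputable def isoOfEquivs [X.Over (Spec (CommRingCat.of A))] {F : X.Modules} {p : ℕ}
    {T : ModuleCat.{u} A ⥤ ModuleCat.{u} A}
    (e : ∀ M : ModuleCat.{u} A, Coh.HH X ((TA A F).obj M) p ≃ₗ[A] T.obj M)
    (he : ∀ (M M' : ModuleCat.{u} A) (g : M ⟶ M') (x : Coh.HH X ((TA A F).obj M) p),
      e M' (Sheaf.H.map ((SheafOfModules.toSheaf X.ringCatSheaf).map ((TA A F).map g)) p x) = T.map g (e M x)) :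
    TA A F ⋙ CohIII.HAb X p ≅ T ⋙ forget₂ (ModuleCat.{u} A) AddCommGrpCat.{u} :=
  NatIso.ofComponents (fun M => AddEquiv.toAddCommGrpIso (X := (TA A F ⋙ CohIII.HAb X p).obj M)
    (Y := (T ⋙ forget₂ (ModuleCat.{u} A) AddCommGrpCat.{u}).obj M) (e M).toAddEquiv)
    fun {M M'} g => AddCommGrpCat.ext fun x => he M M' g x

theorem finite_flat {L : ChainComplex (ModuleCat.{u} A) ℤ}
    (hL : ∀ i, Module.Finite A (L.X i) ∧ Module.Free A (L.X i)) (i : ℤ) :
    Module.Finite A (L.X i) ∧ Module.Flat A (L.X i) := by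
  obtain ⟨h1, h2⟩ := hL i
  exact ⟨h1, inferInstance⟩

end Groth.Agent.BCCx
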