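import Groth.Agent.BCCx.Main
import Groth.Agent.BCCx.Transfer

/-!
# Cohomology of `F ⊗_A M` as homology of the Čech complex tensored with `M`
-/

set_option autoImplicit false
set_option linter.style.haveILetI false
set_option backward.isDefEq.respectTransparency false
set_option backward.isDefEq.respectTransparency.types false
universe u

open CategoryTheory CategoryTheory.Limits AlgebraicGeometry Opposite TopologicalSpace HomologicalComplex

namespace Groth.Agent.BCCx

open Groth.Agent.CechCmp

variable {A : Type u} [CommRing A] {X : Scheme.{u}} [X.Over (Spec (CommRingCat.of A))]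

/-- No hypotheses on `X`, `A`, `F` but quasi-coherence and the cover. -/
theorem nonempty_cechIso {ι : Type u} [DecidableEq ι] [Fintype ι] (U : ι → X.Opens) (hcov : ⨆ i, U i = ⊤)
    (hU : ∀ s : Finset ι, s.Nonempty → IsAffineOpen (RSh.meetOpen U s)) (F : X.Modules) [F.IsQuasicoherent]
    (p : ℕ) :
    Nonempty (CohIII.tensorAFunctor A F ⋙ CohIII.HAb X p ≅
      CohIII.TFun (cx (sysOf (A := A) U F)) (p : ℤ) ⋙ forget₂ (ModuleCat.{u} A) AddCommGrpCat.{u}) := by
  haveI : ∀ M : ModuleCat.{u} A, IsIso (psiCx F U M) := fun M => isIso_psiCx F U hU M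
  let E : ∀ M : ModuleCat.{u} A, (CohIII.TFun (cx (sysOf (A := A) U F)) (p : ℤ)).obj M ≅
      (cx (sysOf (A := A) U ((TA A F).obj M))).homology (p : ℤ) :=
    fun M => asIso (homologyMap (psiCx F U M) (p : ℤ))
  refine ⟨isoOfEquivs (fun M => hhCx U hcov hU ((TA A F).obj M) p ≪≫ₗ (E M).toLinearEquiv.symm)
    fun M M' g x => ?_⟩
  have hE : (CohIII.TFun (cx (sysOf (A := A) U F)) (p : ℤ)).map g ≫ (E M').hom =
      (E M).hom ≫ homologyMap (cxMap (sysMap (A := A) U ((TA A F).map g))) (p : ℤ) :=
    ((homologyMap_comp _ _ _).symm.trans (congrArg (fun φ => homologyMap φ (p : ℤ)) (psiCx_natural F U g))).trans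
      (homologyMap_comp _ _ _)
  rw [LinearEquiv.trans_apply, LinearEquiv.trans_apply, hhCx_natural, LinearEquiv.symm_apply_eq]
  refine Eq.trans ?_ (ConcreteCategory.congr_hom hE ((E M).toLinearEquiv.symm
    (hhCx U hcov hU ((TA A F).obj M) p x))).symm
  exact (congrArg _ ((E M).toLinearEquiv.apply_symm_apply _)).symm

end Groth.Agent.BCCx
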