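import Groth.Agent.TFun.Kernel
import Groth.Agent.TFun.Flat
import Mathlib.RingTheory.LocalRing.Module
import Mathlib.Algebra.Module.FinitePresentation
import Mathlib.RingTheory.Localization.BaseChange
import Mathlib.RingTheory.LocalRing.ResidueField.Ideal

/-!
# Vanishing at a point is killed by a function invertible there
-/

set_option autoImplicit false
set_option linter.style.haveILetI false
universe u

open CategoryTheory CategoryTheory.Limits TensorProduct HomologicalComplex Function

namespace Groth.Agent.BCCx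

open Groth.Agent.TFun

variable {A : Type u} [CommRing A]

/-- A map to a finite free module, injective on a fibre, is split up to a scalar invertible there. -/
theorem exists_split_of_residue_injective {C Q : Type u} [AddCommGroup C] [Module A C] [AddCommGroup Q] [Module A Q]
    [Module.Finite A C] [Module.Finite A Q] [Module.Free A Q] (t : C →ₗ[A] Q) (𝔭 : Ideal A) [𝔭.IsPrime]
    (h : Injective (t.lTensor 𝔭.ResidueField)) :
    ∃ s : A, s ∉ 𝔭 ∧ ∃ l : Q →ₗ[A] C, l ∘ₗ t = s • LinearMap.id := by
  let B := Localization.AtPrime 𝔭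
  let t' := t.baseChange B
  have hinj : Injective (t'.lTensor (IsLocalRing.ResidueField B)) := by
    let eC := TensorProduct.AlgebraTensorModule.cancelBaseChange A B B (IsLocalRing.ResidueField B) C
    let eQ := TensorProduct.AlgebraTensorModule.cancelBaseChange A B B (IsLocalRing.ResidueField B) Q
    have e : ∀ z, eQ (t'.lTensor (IsLocalRing.ResidueField B) z) = t.lTensor 𝔭.ResidueField (eC z) := by
      intro z
      induction z using TensorProduct.induction_on with
      | zero => simp only [map_zero]
      | tmul k w =>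
        induction w using TensorProduct.induction_on with
        | zero => simp only [tmul_zero, map_zero]
        | tmul b c => rfl
        | add x y hx hy => rw [tmul_add, map_add, map_add, hx, hy, map_add]; exact (map_add _ _ _).symm
      | add x y hx hy => rw [map_add, map_add, hx, hy, map_add]; exact (map_add _ _ _).symm
    intro x y hxy
    exact eC.injective (h ((e x).symm.trans ((congrArg eQ hxy).trans (e y))))
  obtain ⟨l', hl'⟩ := (IsLocalRing.split_injective_iff_lTensor_residueField_injective t').2 hinj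
  let f : C →ₗ[A] B ⊗[A] C := TensorProduct.mk A B C 1
  haveI : IsLocalizedModule 𝔭.primeCompl f :=
    (isLocalizedModule_iff_isBaseChange 𝔭.primeCompl B f).2 (TensorProduct.isBaseChange A C B)
  let g : Q →ₗ[A] B ⊗[A] C := (l'.restrictScalars A) ∘ₗ TensorProduct.mk A B Q 1
  have hgt : g ∘ₗ t = f := LinearMap.ext fun c => LinearMap.congr_fun hl' ((1 : B) ⊗ₜ[A] c)
  haveI := Module.finitePresentation_of_projective A Q
  obtain ⟨l, s, hs⟩ := Module.FinitePresentation.exists_lift_of_isLocalizedModule 𝔭.primeCompl f g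
  have hcomp : f ∘ₗ (l ∘ₗ t) = f ∘ₗ ((s : A) • LinearMap.id) := by
    rw [← LinearMap.comp_assoc, hs, LinearMap.smul_comp, hgt, LinearMap.comp_smul, LinearMap.comp_id]
    rfl
  obtain ⟨s', hs'⟩ := Module.Finite.exists_smul_of_comp_eq_of_isLocalizedModule 𝔭.primeCompl f _ _ hcomp
  refine ⟨(s' : A) * s, 𝔭.primeCompl.mul_mem s'.2 s.2, (s' : A) • l, ?_⟩
  rw [mul_smul, LinearMap.smul_comp]
  exact hs'

variable (P : ChainComplex (ModuleCat.{u} A) ℤ)

/-- If `T_p` vanishes on the residue field at `𝔭`, some element outside `𝔭` kills `T_p`. -/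
theorem exists_kill [IsNoetherianRing A] (hP : ∀ i, Module.Finite A (P.X i) ∧ Module.Free A (P.X i)) (p : ℤ)
    (𝔭 : Ideal A) [𝔭.IsPrime]
    (h : IsZero ((CohIII.TFun P p).obj (ModuleCat.of A 𝔭.ResidueField))) :
    ∃ s : A, s ∉ 𝔭 ∧ ∀ (M : ModuleCat.{u} A) (x : (CohIII.TFun P p).obj M), s • x = 0 := by
  haveI := (hP p).1
  haveI := (hP (p - 1)).1
  haveI := (hP (p - 1)).2
  have hinj : Injective ((toPred P (p + 1) p (p - 1)).lTensor 𝔭.ResidueField) := by
    rw [LinearMap.lTensor_inj_iff_rTensor_inj, injective_iff_map_eq_zero]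
    intro z hz
    obtain ⟨y, rfl⟩ := LinearMap.rTensor_surjective _ (Submodule.mkQ_surjective _) z
    rw [← LinearMap.comp_apply, ← LinearMap.rTensor_comp] at hz
    rw [mkQ_rTensor_eq_zero_iff]
    exact (isZero_obj_iff P rfl (sub_add_cancel p 1) _).1 h y hz
  obtain ⟨s, hs, l, hl⟩ := exists_split_of_residue_injective _ 𝔭 hinj
  refine ⟨s, hs, fun M x => ?_⟩
  apply tι_injective P (r := p + 1) rfl M
  rw [map_smul, map_zero]
  have h0 : (toPred P (p + 1) p (p - 1)).rTensor M (tι P rfl M x) = 0 :=
    (tι_exact P rfl (sub_add_cancel p 1) M).apply_apply_eq_zero x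
  have h1 := congrArg (fun φ => φ (tι P (r := p + 1) rfl M x)) (congrArg (LinearMap.rTensor M) hl)
  simp only [LinearMap.rTensor_comp, LinearMap.rTensor_smul, LinearMap.comp_apply, h0, map_zero,
    LinearMap.smul_apply, LinearMap.rTensor_id, LinearMap.id_coe, id_eq] at h1
  exact h1.symm

end Groth.Agent.BCCx
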