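import Groth.Agent.BCCx.BC
import Groth.Agent.BCCx.Kill
import Groth.Agent.HigherDirect.Stalk
import Groth.Agent.HigherDirect.Coherent
import Groth.Agent.FlatDescent.RestrictFlat
import Groth.Agent.FlatDescent.SheafBC.Base
import Groth.Agent.QCohLib.Criterion
import Groth.Prelude.Def_ega3

/-!
# Cohomology and base change over a chart of the base
-/

set_option autoImplicit false
set_option linter.style.haveILetI false
set_option backward.isDefEq.respectTransparency false
universe u

open CategoryTheory CategoryTheory.Limits AlgebraicGeometry Opposite TopologicalSpace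

namespace Groth.Agent.BCCx

open Groth.Agent.HigherDirect

section generic

variable {A K : Type u} [CommRing A] [CommRing K] [Algebra A K] {X X' : Scheme.{u}}
  [X.Over (Spec (CommRingCat.of A))] [X'.Over (Spec (CommRingCat.of K))] {g : X' ⟶ X}

/-- `H^p` of a pullback along `Spec K → Spec A` is `T^p(K)`. -/
theorem nonempty_HH_bc [IsSeparated (X ↘ Spec (CommRingCat.of A))] [CompactSpace X]
    (hsq : IsPullback g (X' ↘ Spec (CommRingCat.of K)) (X ↘ Spec (CommRingCat.of A))
      (Spec.map (CommRingCat.ofHom (algebraMap A K))))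
    (F : X.Modules) [F.IsQuasicoherent] (p : ℕ) :
    Nonempty (Coh.HH X' ((Scheme.Modules.pullback g).obj F) p ≃+
      (CohIII.tensorAFunctor A F ⋙ CohIII.HAb X p).obj
        ((ModuleCat.restrictScalars (algebraMap A K)).obj (ModuleCat.of K K))) := by
  obtain ⟨i⟩ := nonempty_bcT hsq F p
  let G := (Scheme.Modules.pullback g).obj F
  exact ⟨((CohIII.HAb X' p).mapIso (rho K G).symm).addCommGroupIsoToAddEquiv.trans
    (i.app (ModuleCat.of K K)).addCommGroupIsoToAddEquiv⟩

/-- A residue field is a direct summand of any field over it. -/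
theorem exists_split_residueField (K : Type u) [Field K] [Algebra A K] (𝔭 : Ideal A) [𝔭.IsPrime]
    (h : RingHom.ker (algebraMap A K) = 𝔭) :
    ∃ (i : 𝔭.ResidueField →ₗ[A] K) (r : K →ₗ[A] 𝔭.ResidueField), r ∘ₗ i = LinearMap.id := by
  let j : 𝔭.ResidueField →+* K := Ideal.ResidueField.lift 𝔭 (algebraMap A K) h.ge (fun x hx => by
    simp only [Submonoid.mem_comap, IsUnit.mem_submonoid_iff, isUnit_iff_ne_zero, ne_eq, ← RingHom.mem_ker, h]
    exact hx)
  letI : Algebra 𝔭.ResidueField K := j.toAlgebra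
  haveI : IsScalarTower A 𝔭.ResidueField K := IsScalarTower.of_algebraMap_eq fun a => by
    exact (Ideal.ResidueField.lift_algebraMap 𝔭 (algebraMap A K) _ _ a).symm
  obtain ⟨r, hr⟩ := LinearMap.exists_leftInverse_of_injective (Algebra.linearMap 𝔭.ResidueField K)
    (LinearMap.ker_eq_bot.2 (algebraMap 𝔭.ResidueField K).injective)
  exact ⟨(Algebra.linearMap 𝔭.ResidueField K).restrictScalars A, r.restrictScalars A,
    LinearMap.ext fun x => LinearMap.congr_fun hr x⟩

/-- Vanishing passes to the residue field. -/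
theorem subsingleton_residueField (G : ModuleCat.{u} A ⥤ AddCommGrpCat.{u}) (K : Type u) [Field K] [Algebra A K]
    (𝔭 : Ideal A) [𝔭.IsPrime] (h : RingHom.ker (algebraMap A K) = 𝔭)
    (hK : Subsingleton (G.obj ((ModuleCat.restrictScalars (algebraMap A K)).obj (ModuleCat.of K K)))) :
    Subsingleton (G.obj (ModuleCat.of A 𝔭.ResidueField)) := by
  obtain ⟨i, r, hir⟩ := exists_split_residueField K 𝔭 h
  let N := (ModuleCat.restrictScalars (algebraMap A K)).obj (ModuleCat.of K K)
  let w : N ≅ ModuleCat.of A K := LinearEquiv.toModuleIso (X₁ := N)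
    { toFun := fun x => x, invFun := fun x => x, map_add' := fun _ _ => rfl,
      map_smul' := fun a x => (Algebra.smul_def a (show K from x)).symm }
  have hK' : Subsingleton (G.obj (ModuleCat.of A K)) :=
    (G.mapIso w).addCommGroupIsoToAddEquiv.surjective.subsingleton
  refine ⟨fun x y => ?_⟩
  have e : G.map (ModuleCat.ofHom i) ≫ G.map (ModuleCat.ofHom r) = 𝟙 _ := by
    rw [← G.map_comp, ← ModuleCat.ofHom_comp, hir]
    exact G.map_id _
  rw [← show (G.map (ModuleCat.ofHom r)) ((G.map (ModuleCat.ofHom i)) x) = x from ConcreteCategory.congr_hom e x,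
    ← show (G.map (ModuleCat.ofHom r)) ((G.map (ModuleCat.ofHom i)) y) = y from ConcreteCategory.congr_hom e y,
    Subsingleton.elim (G.map (ModuleCat.ofHom i) x) (G.map (ModuleCat.ofHom i) y)]

end generic

variable {X Y : Scheme.{u}} (f : X ⟶ Y) {V : Y.Opens} (hV : IsAffineOpen V)

/-- `Γ(V) → k(y)`. -/
noncomputable def toK (y : Y) (hy : y ∈ V) : Γ(Y, V) ⟶ Y.residueField y :=
  Y.presheaf.germ V y hy ≫ Y.residue y

theorem mem_basicOpen_of_notMem_ker (y : Y) (hy : y ∈ V) (s : Γ(Y, V))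
    (hs : s ∉ RingHom.ker (toK y hy).hom) : y ∈ Y.basicOpen s := by
  rw [Y.mem_basicOpen s y hy]
  by_contra hu
  exact hs (RingHom.mem_ker.2 ((IsLocalRing.residue_eq_zero_iff _).2 hu))

theorem overSec_fromSpec : overSec f hV ≫ hV.fromSpec = (f ⁻¹ᵁ V).ι ≫ f := by
  show ((f ∣_ V) ≫ hV.isoSpec.hom) ≫ hV.fromSpec = _
  rw [Category.assoc, IsAffineOpen.fromSpec, Iso.hom_inv_id_assoc]
  exact morphismRestrict_ι f V

/-- The fibre, over a chart. -/
theorem exists_fiber_square (y : Y) (hy : y ∈ V) :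
    ∃ g : f.fiber y ⟶ (f ⁻¹ᵁ V).toScheme, g ≫ (f ⁻¹ᵁ V).ι = f.fiberι y ∧
      IsPullback g (f.fiberToSpecResidueField y) (overSec f hV) (Spec.map (toK y hy)) := by
  have hk : Spec.map (toK y hy) ≫ hV.fromSpec = Y.fromSpecResidueField y := by
    rw [toK, Spec.map_comp, Category.assoc]
    show Spec.map (Y.residue y) ≫ hV.fromSpecStalk hy = _
    rw [hV.fromSpecStalk_eq_fromSpecStalk hy]
    rfl
  have hr : IsPullback (f ⁻¹ᵁ V).ι (overSec f hV) f hV.fromSpec := by
    refine IsPullback.of_iso (isPullback_morphismRestrict f V).flip (Iso.refl _) (Iso.refl _) hV.isoSpec (Iso.refl _)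
      ((Category.comp_id _).trans (Category.id_comp _).symm) (Category.id_comp _).symm
      ((Category.comp_id _).trans (Category.id_comp _).symm) ?_
    rw [IsAffineOpen.fromSpec, Iso.hom_inv_id_assoc]
    exact Category.comp_id _
  have hw : f.fiberι y ≫ f = f.fiberToSpecResidueField y ≫ Spec.map (toK y hy) ≫ hV.fromSpec := by
    rw [hk]; exact pullback.condition
  let g := hr.lift (f.fiberι y) (f.fiberToSpecResidueField y ≫ Spec.map (toK y hy))
    (hw.trans (Category.assoc _ _ _).symm)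
  refine ⟨g, hr.lift_fst _ _ _, IsPullback.of_right ?_ (hr.lift_snd _ _ _) hr⟩
  rw [hr.lift_fst, hk]
  exact IsPullback.of_hasPullback _ _

/-- Fibre cohomology is `T^p(k(y))` on a chart. -/
theorem nonempty_fiberH_chart [IsSeparated f] [QuasiCompact f] (F : X.Modules) [F.IsQuasicoherent] (y : Y)
    (hy : y ∈ V) (p : ℕ) :
    letI : (f ⁻¹ᵁ V).toScheme.Over (Spec (CommRingCat.of Γ(Y, V))) := ⟨overSec f hV⟩
    Nonempty (CohIII.fiberH f F y p ≃+
      (CohIII.tensorAFunctor Γ(Y, V) (F.restrict (f ⁻¹ᵁ V).ι) ⋙ CohIII.HAb (f ⁻¹ᵁ V).toScheme p).obj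
        ((ModuleCat.restrictScalars (toK y hy).hom).obj (ModuleCat.of (Y.residueField y) (Y.residueField y)))) := by
  letI : (f ⁻¹ᵁ V).toScheme.Over (Spec (CommRingCat.of Γ(Y, V))) := ⟨overSec f hV⟩
  haveI : IsAffine V.toScheme := hV
  haveI : CompactSpace (f ⁻¹ᵁ V).toScheme := QuasiCompact.compactSpace_of_compactSpace (f ∣_ V)
  haveI : IsSeparated (f ∣_ V) := MorphismProperty.of_isPullback (isPullback_morphismRestrict f V).flip ‹_›
  haveI : IsSeparated ((f ⁻¹ᵁ V).toScheme ↘ Spec (CommRingCat.of Γ(Y, V))) := by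
    show IsSeparated ((f ∣_ V) ≫ hV.isoSpec.hom); infer_instance
  haveI : (F.restrict (f ⁻¹ᵁ V).ι).IsQuasicoherent :=
    have := QCohLib.isQuasicoherent_pullback (f ⁻¹ᵁ V).ι F
    QCohLib.isQuasicoherent_of_iso ((Scheme.Modules.restrictFunctorIsoPullback (f ⁻¹ᵁ V).ι).app F).symm
  obtain ⟨g, hg, hsq⟩ := exists_fiber_square f hV y hy
  letI : Algebra Γ(Y, V) (Y.residueField y) := (toK y hy).hom.toAlgebra
  letI : (f.fiber y).Over (Spec (CommRingCat.of (Y.residueField y : Type u))) := ⟨f.fiberToSpecResidueField y⟩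
  obtain ⟨e⟩ := nonempty_HH_bc (A := Γ(Y, V)) (K := Y.residueField y) (X' := f.fiber y) hsq
    (F.restrict (f ⁻¹ᵁ V).ι) p
  let m : (Scheme.Modules.pullback g).obj (F.restrict (f ⁻¹ᵁ V).ι) ≅ CohIII.fiberMod f F y :=
    (Scheme.Modules.pullback g).mapIso ((Scheme.Modules.restrictFunctorIsoPullback (f ⁻¹ᵁ V).ι).app F) ≪≫
      (Scheme.Modules.pullbackComp g (f ⁻¹ᵁ V).ι).app F ≪≫ (Scheme.Modules.pullbackCongr hg).app F
  exact ⟨((CohIII.HAb (f.fiber y) p).mapIso m).addCommGroupIsoToAddEquiv.symm.trans e⟩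

theorem isFlatOver_chart (F : X.Modules) (hfl : FlatMod.IsFlatOver f F) :
    FlatMod.IsFlatOver (overSec f hV) (F.restrict (f ⁻¹ᵁ V).ι) := fun x => by
  rw [← Groth.FlatDescent.SheafBC.isFlatOverAt_comp_iff (overSec f hV) hV.fromSpec, overSec_fromSpec]
  exact (FlatDescent.isFlatOverAt_restrict (f ⁻¹ᵁ V).ι f F x).2 (hfl _)

/-- Sections of a quasi-coherent module killed by `s` vanish on `D(s)`. -/
theorem isZero_restrict_basicOpen (M : Y.Modules) [M.IsQuasicoherent] (hV : IsAffineOpen V) (s : Γ(Y, V))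
    (h : ∀ x : Γ(M, V), s • x = 0) : IsZero (M.restrict (Y.basicOpen s).ι) := by
  have key : ∀ (W : Y.Opens), W ≤ Y.basicOpen s → Subsingleton Γ(M, W) := by
    intro W hW
    refine subsingleton_of_forall_eq 0 fun x => ?_
    have hWV : W ≤ V := hW.trans (Y.basicOpen_le s)
    choose t ht hxt using fun w : W => hV.exists_basicOpen_le w (hWV w.2)
    refine TopCat.Sheaf.eq_of_locally_eq' ⟨M.presheaf, M.isSheaf⟩ (fun w : W => Y.basicOpen (t w)) W
      (fun w => homOfLE (ht w)) (fun a ha => Opens.mem_iSup.2 ⟨⟨a, ha⟩, hxt ⟨a, ha⟩⟩) x 0 fun w => ?_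
    show M.presheaf.map (homOfLE (ht w)).op x = M.presheaf.map (homOfLE (ht w)).op 0
    rw [map_zero]
    let D := Y.basicOpen (t w)
    obtain ⟨n, z, hz⟩ := QCohLib.exists_res_eq_pow_smul_of_isCompact (M := M) hV.isCompact hV.isQuasiSeparated
      (t w) D (Y.basicOpen_le _) rfl (M.presheaf.map (homOfLE (ht w)).op x)
    let ρ := Y.presheaf.map (homOfLE (Y.basicOpen_le (t w))).op
    have hs0 : ρ s • M.presheaf.map (homOfLE (Y.basicOpen_le (t w))).op z = 0 := by
      rw [← Scheme.Modules.map_smul, h, map_zero]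
    have hu : IsUnit (ρ s) := by
      have h1 := (Y.toRingedSpace.isUnit_res_basicOpen s).map
        (Y.presheaf.map (homOfLE (show D ≤ Y.basicOpen s from (ht w).trans hW)).op).hom
      change IsUnit ((Y.presheaf.map (homOfLE (Y.basicOpen_le s)).op ≫
        Y.presheaf.map (homOfLE (show D ≤ Y.basicOpen s from (ht w).trans hW)).op) s) at h1
      rw [← Functor.map_comp] at h1
      exact h1
    have hu' : IsUnit (ρ (t w)) := Y.toRingedSpace.isUnit_res_basicOpen (t w)
    rw [hz] at hs0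
    exact (hu.mul (hu'.pow n)).smul_eq_zero.1 (by rw [mul_smul]; exact hs0)
  rw [IsZero.iff_id_eq_zero]
  refine Scheme.Modules.hom_ext _ _ fun W => ?_
  refine AddCommGrpCat.ext fun x => ?_
  exact @Subsingleton.elim _ (key ((Y.basicOpen s).ι ''ᵁ W) ((Scheme.Opens.ι_image_le _ _))) _ _

end Groth.Agent.BCCx
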