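import Groth.Agent.BCCx.Chart
import Groth.Agent.BCCx.Transfer

/-!
# Fibre cohomology, linearly, when `T^p` is `H ⊗ -`
-/

set_option autoImplicit false
set_option linter.style.haveILetI false
set_option backward.isDefEq.respectTransparency false
universe u

open CategoryTheory CategoryTheory.Limits AlgebraicGeometry Opposite TensorProduct
open scoped MonoidalCategory

namespace Groth.Agent.BCCx

variable {A K : Type u} [CommRing A] [CommRing K] [Algebra A K] {X X' : Scheme.{u}}
  [X.Over (Spec (CommRingCat.of A))] [X'.Over (Spec (CommRingCat.of K))] {g : X' ⟶ X}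

theorem nonempty_HH_bc_linear [IsSeparated (X ↘ Spec (CommRingCat.of A))] [CompactSpace X]
    (hsq : IsPullback g (X' ↘ Spec (CommRingCat.of K)) (X ↘ Spec (CommRingCat.of A))
      (Spec.map (CommRingCat.ofHom (algebraMap A K))))
    (F : X.Modules) [F.IsQuasicoherent] (p : ℕ) (H : ModuleCat.{u} A)
    (w : CohIII.tensorAFunctor A F ⋙ CohIII.HAb X p ≅
      MonoidalCategory.tensorLeft H ⋙ forget₂ (ModuleCat.{u} A) AddCommGrpCat.{u}) :
    Nonempty (Coh.HH X' ((Scheme.Modules.pullback g).obj F) p ≃ₗ[K] K ⊗[A] H) := by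
  obtain ⟨i⟩ := nonempty_bcT hsq F p
  let G := (Scheme.Modules.pullback g).obj F
  let ρ := ModuleCat.restrictScalars.{u} (algebraMap A K)
  let R := ρ.obj (ModuleCat.of K K)
  let j : CohIII.tensorAFunctor K G ⋙ CohIII.HAb X' p ≅
      ρ ⋙ MonoidalCategory.tensorLeft H ⋙ forget₂ (ModuleCat.{u} A) AddCommGrpCat.{u} :=
    i ≪≫ Functor.isoWhiskerLeft ρ w
  let Φ₀ : Coh.HH X' G p ≃+ (CohIII.tensorAFunctor K G ⋙ CohIII.HAb X' p).obj (ModuleCat.of K K) :=
    ((CohIII.HAb X' p).mapIso (rho K G).symm).addCommGroupIsoToAddEquiv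
  have h0 : ∀ (a : K) (x : Coh.HH X' G p), Φ₀ (a • x) =
      (CohIII.tensorAFunctor K G ⋙ CohIII.HAb X' p).map (a • 𝟙 (ModuleCat.of K K)) (Φ₀ x) := fun a x => by
    show (CohIII.HAb X' p).map (rho K G).inv ((CohIII.HAb X' p).map (Formal.smulMod K G a) x) =
      (CohIII.HAb X' p).map ((CohIII.tensorAFunctor K G).map (a • 𝟙 (ModuleCat.of K K)))
        ((CohIII.HAb X' p).map (rho K G).inv x)
    rw [← ConcreteCategory.comp_apply, ← ConcreteCategory.comp_apply, ← Functor.map_comp, ← Functor.map_comp,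
      FormalFun.smulMod_natural]
    exact congrArg (fun φ => (CohIII.HAb X' p).map ((rho K G).inv ≫ φ) x) (TA_map_smul K G (ModuleCat.of K K) a).symm
  let e₁ : Coh.HH X' G p ≃+ H ⊗[A] R := Φ₀.trans (j.app (ModuleCat.of K K)).addCommGroupIsoToAddEquiv
  have h1 : ∀ (a : K) (x : Coh.HH X' G p), e₁ (a • x) =
      (ρ.map (a • 𝟙 (ModuleCat.of K K))).hom.lTensor H (e₁ x) := fun a x => by
    show (j.hom.app _) (Φ₀ (a • x)) = _
    rw [h0]
    exact ConcreteCategory.congr_hom (j.hom.naturality (a • 𝟙 (ModuleCat.of K K))) (Φ₀ x)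
  let r : R ≃ₗ[A] K :=
    { toFun := fun x => x, invFun := fun x => x, map_add' := fun _ _ => rfl,
      map_smul' := fun a x => (Algebra.smul_def a (show K from x)).symm }
  let c : H ⊗[A] R ≃+ K ⊗[A] H :=
    ((TensorProduct.congr (LinearEquiv.refl A H) r).trans (TensorProduct.comm A H K)).toAddEquiv
  have h2 : ∀ (a : K) (z : H ⊗[A] R), c ((ρ.map (a • 𝟙 (ModuleCat.of K K))).hom.lTensor H z) = a • c z := by
    intro a z
    induction z using TensorProduct.induction_on with
    | zero => simp only [map_zero, smul_zero]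
    | tmul h k => rfl
    | add y z hy hz => simp only [map_add, smul_add, hy, hz]
  exact ⟨AddEquiv.toLinearEquiv (e₁.trans c) fun a x =>
    show c (e₁ (a • x)) = a • c (e₁ x) by rw [h1, h2]⟩

end Groth.Agent.BCCx
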