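import Groth.Agent.BCCx.Chart
import Groth.Agent.LocFree.Retract
import Groth.Agent.QCohLib.FiniteType
import Mathlib.RingTheory.TensorProduct.Free

/-!
# Free neighbourhoods for modules with projective sections
-/

set_option autoImplicit false
set_option linter.style.haveILetI false
set_option backward.isDefEq.respectTransparency false
universe u

open CategoryTheory CategoryTheory.Limits AlgebraicGeometry Opposite TopologicalSpace TensorProduct

namespace Groth.Agent.BCCx

open Groth.Agent.QCohLib

/-- `LocFree.exists_extendScalars_free`, with the rank. -/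
theorem exists_extendScalars_free_rank {R S : CommRingCat.{u}} [Nontrivial S] (φ : R ⟶ S) (P : ModuleCat.{u} R)
    [Module.Finite R P] (a : Algebra R S) (h : a.algebraMap = φ.hom) (H : letI := a; Module.Free S (S ⊗[R] P)) :
    ∃ n : ℕ, Nonempty ((ModuleCat.extendScalars φ.hom).obj P ≅ ModuleCat.of S (ULift.{u} (Fin n) →₀ S)) ∧
      (letI := a; Module.finrank S (S ⊗[R] P) = n) := by
  have : a = φ.hom.toAlgebra := Algebra.algebra_ext _ _ fun r => congrArg (fun g : R →+* S => g r) h
  subst this
  let : Algebra R S := φ.hom.toAlgebra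
  have : Module.Free S (S ⊗[R] P) := H
  let b := Module.Free.chooseBasis S (S ⊗[R] P)
  have : Finite (Module.Free.ChooseBasisIndex S (S ⊗[R] P)) := Module.Finite.finite_basis b
  let b' := b.reindex ((Finite.equivFin _).trans Equiv.ulift.{u}.symm)
  refine ⟨_, ⟨LinearEquiv.toModuleIso b'.repr⟩, ?_⟩
  rw [Module.finrank_eq_nat_card_basis b', Nat.card_congr Equiv.ulift, Nat.card_fin]

variable {Y : Scheme.{u}} (M : Y.Modules) [M.IsQuasicoherent] {V : Y.Opens} (hV : IsAffineOpen V)

include hV in
set_option maxHeartbeats 1000000 in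
theorem exists_free_nhd (hfin : Module.Finite Γ(Y, V) Γ(M, V)) (hproj : Module.Projective Γ(Y, V) Γ(M, V))
    (y : Y) (hy : y ∈ V) :
    letI : Algebra Γ(Y, V) (Y.residueField y) := (toK y hy).hom.toAlgebra
    ∃ (U : Y.Opens) (n : ℕ), y ∈ U ∧ Nonempty (M.restrict U.ι ≅ FlatMod.freeMod (↑U) n) ∧
      Module.finrank (Y.residueField y) (Y.residueField y ⊗[Γ(Y, V)] Γ(M, V)) = n := by
  letI : Algebra Γ(Y, V) (Y.residueField y) := (toK y hy).hom.toAlgebra
  let R : CommRingCat.{u} := Γ(Y, V)
  let P : ModuleCat.{u} R := (moduleSpecΓFunctor (R := R)).obj (M.restrict hV.fromSpec)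
  haveI : (M.restrict hV.fromSpec).IsQuasicoherent := (isQuasicoherent_iff_affine.1 ‹M.IsQuasicoherent›) ⟨V, hV⟩
  let l : P ≃ₗ[R] Γ(M, V) := onSpecΓ M hV
  haveI : Module.Finite R P := Module.Finite.equiv l.symm
  haveI : Module.Projective R P := Module.Projective.of_equiv l.symm
  haveI := Module.finitePresentation_of_projective R P
  let x := hV.primeIdealOf ⟨y, hy⟩
  have : Module.Free (Localization.AtPrime x.asIdeal) (LocalizedModule x.asIdeal.primeCompl P) :=
    ((Module.freeLocus_eq_univ_iff (R := R) (M := P)).mpr inferInstance).ge (Set.mem_univ x)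
  obtain ⟨g, hgx, hgfree, -⟩ := Module.FinitePresentation.exists_free_localizedModule_powers
    x.asIdeal.primeCompl (LocalizedModule.mkLinearMap x.asIdeal.primeCompl P) (Localization.AtPrime x.asIdeal)
  let S := CommRingCat.of (Localization.Away g)
  let φ : R ⟶ S := CommRingCat.ofHom (algebraMap R (Localization.Away g))
  have hyg : y ∈ Y.basicOpen g := by
    have h1 : hV.fromSpec x = y := hV.fromSpec_primeIdealOf ⟨y, hy⟩
    have h2 : x ∈ hV.fromSpec ⁻¹ᵁ Y.basicOpen g := by
      rw [hV.fromSpec_preimage_basicOpen]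
      exact hgx
    rw [← h1]
    exact h2
  have hx : x ∈ Set.range (Spec.map φ).base := by
    rw [← Scheme.Hom.coe_opensRange, Scheme.Hom.opensRange_localizationAway]
    exact hgx
  obtain ⟨w, hw⟩ := hx
  have hf : Module.Free (Localization.Away g) (Localization.Away g ⊗[R] P) :=
    Module.Free.of_equiv (LocalizedModule.isBaseChange (Submonoid.powers g) P).equiv.symm
  haveI : Nontrivial S := PrimeSpectrum.nontrivial w
  obtain ⟨n, ⟨e⟩, hrk⟩ := exists_extendScalars_free_rank φ P
    (inferInstanceAs (Algebra R (Localization.Away g))) rfl hf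
  let j : Spec S ⟶ Y := Spec.map φ ≫ hV.fromSpec
  have hjy : j w = y := by
    rw [Scheme.Hom.comp_apply, hw]
    exact hV.fromSpec_primeIdealOf ⟨y, hy⟩
  have i : M.restrict j ≅ FlatMod.freeMod (Spec S) n :=
    (Scheme.Modules.restrictFunctorComp (Spec.map φ) hV.fromSpec).app M ≪≫
      (Scheme.Modules.restrictFunctor (Spec.map φ)).mapIso (counitIso (M.restrict hV.fromSpec)).symm ≪≫
      (Scheme.Modules.restrictFunctorIsoPullback (Spec.map φ)).app (tilde P) ≪≫
      ((QCohLib.pullbackTildeIso φ).app P).symm ≪≫ (tilde.functor S).mapIso e ≪≫ LocFree.tildeFreeFinIso S n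
  refine ⟨j.opensRange, n, ⟨w, hjy⟩, ⟨((Scheme.Modules.restrictFunctorCongr j.isoOpensRange_inv_comp).app M).symm ≪≫
    (Scheme.Modules.restrictFunctorComp j.isoOpensRange.inv j).app M ≪≫
      (Scheme.Modules.restrictFunctor j.isoOpensRange.inv).mapIso i ≪≫ LocFree.restrictFreeIso _ n⟩, ?_⟩
  -- the rank
  let K : Type u := Y.residueField y
  have hunit : IsUnit (algebraMap Γ(Y, V) K g) := ((Y.mem_basicOpen g y hy).1 hyg).map (Y.residue y).hom
  let ψ : Localization.Away g →+* K := IsLocalization.Away.lift g hunit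
  letI : Algebra (Localization.Away g) K := ψ.toAlgebra
  haveI : IsScalarTower Γ(Y, V) (Localization.Away g) K :=
    IsScalarTower.of_algebraMap_eq fun a => (IsLocalization.Away.lift_eq g hunit a).symm
  haveI : Nontrivial (Localization.Away g) := PrimeSpectrum.nontrivial w
  haveI := hf
  rw [← (LinearEquiv.baseChange Γ(Y, V) K _ _ l).finrank_eq,
    ← (TensorProduct.AlgebraTensorModule.cancelBaseChange Γ(Y, V) (Localization.Away g) K K P).finrank_eq,
    Module.finrank_baseChange]
  exact hrk

end Groth.Agent.BCCx
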