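import Groth.Agent.BCCx.ChartVanish
import Groth.Agent.BCCx.FibreLinear
import Groth.Agent.BCCx.Free
import Groth.Agent.TFun.Bounded

/-!
# Vanishing higher direct images and base change
-/

set_option autoImplicit false
set_option linter.style.haveILetI false
set_option backward.isDefEq.respectTransparency false
universe u

open CategoryTheory CategoryTheory.Limits AlgebraicGeometry Opposite TopologicalSpace TensorProduct
open scoped MonoidalCategory

namespace Groth.Agent.BCCx

open Groth.Agent.HigherDirect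

theorem subsingleton_sections_of_isZero {Y : Scheme.{u}} {M : Y.Modules} (h : IsZero M) (U : Y.Opens) :
    Subsingleton Γ(M, U) :=
  subsingleton_of_forall_eq 0 fun x => congrArg (fun φ : M ⟶ M => φ.app U x) ((IsZero.iff_id_eq_zero M).1 h)

variable {X Y : Scheme.{u}} (f : X ⟶ Y) {V : Y.Opens}

set_option maxHeartbeats 1000000 in
theorem chart_exact [IsProper f] [IsLocallyNoetherian Y] [HasInjectiveResolutions X.Modules]
    (F : X.Modules) (hF : Coh.IsCoh F) (hfl : FlatMod.IsFlatOver f F) (hV : IsAffineOpen V)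
    (hR : ∀ i : ℕ, 0 < i → IsZero ((Coh.Rpush f i).obj F)) (y : Y) (hy : y ∈ V) :
    letI : Algebra Γ(Y, V) (Y.residueField y) := (toK y hy).hom.toAlgebra
    (∀ i : ℕ, 0 < i → Subsingleton (CohIII.fiberH f F y i)) ∧
      Module.Finite Γ(Y, V) Γ((Coh.push f).obj F, V) ∧ Module.Projective Γ(Y, V) Γ((Coh.push f).obj F, V) ∧
      Nonempty (CohIII.fiberH f F y 0 ≃ₗ[Y.residueField y]
        Y.residueField y ⊗[Γ(Y, V)] Γ((Coh.push f).obj F, V)) := by
  letI : Algebra Γ(Y, V) (Y.residueField y) := (toK y hy).hom.toAlgebra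
  let A : Type u := Γ(Y, V)
  letI : (f ⁻¹ᵁ V).toScheme.Over (Spec (CommRingCat.of A)) := ⟨overSec f hV⟩
  haveI : IsProper ((f ⁻¹ᵁ V).toScheme ↘ Spec (CommRingCat.of A)) := isProper_overSec f hV
  haveI : IsNoetherianRing A := isNoetherianRing_chart hV
  haveI : F.IsQuasicoherent := hF.1
  let F' := F.restrict (f ⁻¹ᵁ V).ι
  haveI : F'.IsQuasicoherent := (isCoh_chart f F hF).1
  haveI : CompactSpace (f ⁻¹ᵁ V).toScheme :=
    QuasiCompact.compactSpace_of_compactSpace ((f ⁻¹ᵁ V).toScheme ↘ Spec (CommRingCat.of A))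
  obtain ⟨N, L, hL, hL0, hz, h⟩ := exists_main' (A := A) F' (isCoh_chart f F hF) (isFlatOver_chart f hV F hfl)
  have hP : ∀ i, Module.Flat A (L.X i) := fun i => (finite_flat hL i).2
  -- the homology below the top vanishes
  have hsub : ∀ n : ℤ, n < N → Subsingleton (L.homology n) := by
    intro n hn
    obtain hn0 | hn0 := lt_or_ge n 0
    · exact ModuleCat.isZero_iff_subsingleton.1
        ((L.exactAt_iff_isZero_homology _).1 (ShortComplex.exact_of_isZero_X₂ _ (hL0 n hn0)))
    · obtain ⟨m, hm⟩ : ∃ m : ℕ, (N : ℤ) - n = ((m + 1 : ℕ) : ℤ) := ⟨((N : ℤ) - n - 1).toNat, by omega⟩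
      obtain ⟨e, -⟩ := h (m + 1) n hm
      obtain ⟨j⟩ := nonempty_sections_equiv_HH f F hV (m + 1)
      haveI := subsingleton_sections_of_isZero (hR (m + 1) m.succ_pos) V
      exact (j ≪≫ₗ hhIso (rho A F').symm (m + 1) ≪≫ₗ e (ModuleCat.of A A) ≪≫ₗ TFun.obj_self L).surjective.subsingleton
  have hex : ∀ n : ℤ, n ≤ (N : ℤ) - 1 →
      (CohIII.TFun L n).PreservesMonomorphisms ∧ (CohIII.TFun L n).PreservesEpimorphisms := fun n hn =>
    TFun.exact_of_flat_homology L hP 0 hL0 ((N : ℤ) - 1) (fun k hk =>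
      haveI := hsub k (by omega)
      inferInstance) hn
  have hzero : ∀ n : ℤ, n < N → ∀ M, Subsingleton ((CohIII.TFun L n).obj M) := fun n hn M => by
    obtain ⟨u, -⟩ := TFun.exists_obj_equiv_tensor L (r := n + 1) rfl (sub_add_cancel n 1) (hP _) M
      (.inr ((TFun.preservesEpi_iff L hP (sub_add_cancel n 1)).1 (hex n (by omega)).2))
    haveI := hsub n hn
    haveI : Subsingleton (L.homology n ⊗[A] M) := subsingleton_of_forall_eq 0 fun z => by
      induction z using TensorProduct.induction_on with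
      | zero => rfl
      | tmul a b => rw [Subsingleton.elim a 0, zero_tmul]
      | add a b ha hb => rw [ha, hb, add_zero]
    exact u.injective.subsingleton
  refine ⟨fun i hi => ?_, ?_⟩
  · obtain ⟨u⟩ := nonempty_fiberH_chart f hV F y hy i
    obtain ⟨e, -⟩ := h i ((N : ℤ) - i) (sub_sub_cancel _ _)
    haveI := hzero ((N : ℤ) - i) (by omega)
    haveI : ∀ M, Subsingleton ((CohIII.tensorAFunctor A F' ⋙ CohIII.HAb (f ⁻¹ᵁ V).toScheme i).obj M) :=
      fun M => (e M).injective.subsingleton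
    exact u.injective.subsingleton
  -- the top degree
  obtain ⟨e, he⟩ := h 0 (N : ℤ) (by simp)
  have hepi : (CohIII.TFun L (N : ℤ)).PreservesEpimorphisms :=
    (TFun.preservesEpi_iff_preservesMono L hP (sub_add_cancel _ 1)).2 (hex _ le_rfl).1
  have hmono : (CohIII.TFun L (N : ℤ)).PreservesMonomorphisms :=
    (TFun.preservesEpi_iff_preservesMono L hP rfl).1
      ⟨fun g _ => (ModuleCat.epi_iff_surjective _).2 fun z =>
        ⟨0, @Subsingleton.elim _ (ModuleCat.isZero_iff_subsingleton.1 (hz ((N : ℤ) + 1) (by omega) _)) _ z⟩⟩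
  haveI : Module.Flat A (L.homology (N : ℤ)) := ((TFun.exact_iff_epi_and_flat L hP).1 ⟨hmono, hepi⟩).2
  haveI := (hL (N : ℤ)).1
  haveI : Module.Finite A (L.homology (N : ℤ)) := TFun.finite_homology L
  haveI := preservesFiniteLimits_pushforward f
  obtain ⟨j⟩ := nonempty_sections_equiv_HH f F hV 0
  let z := (Scheme.Modules.pushforward f).rightDerivedZeroIsoSelf.hom.app F
  let d : Γ((Coh.Rpush f 0).obj F, V) ≃ₗ[A] Γ((Coh.push f).obj F, V) :=
    LinearEquiv.ofBijective (appLin z V) (ConcreteCategory.bijective_of_isIso (z.app V))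
  let l : L.homology (N : ℤ) ≃ₗ[A] Γ((Coh.push f).obj F, V) :=
    (TFun.obj_self L).symm ≪≫ₗ (e (ModuleCat.of A A)).symm ≪≫ₗ (hhIso (rho A F').symm 0).symm ≪≫ₗ j.symm ≪≫ₗ d
  haveI := Module.finitePresentation_of_finite A (L.homology (N : ℤ))
  haveI : Module.Projective A (L.homology (N : ℤ)) := Module.Flat.projective_of_finitePresentation
  refine ⟨Module.Finite.equiv l, Module.Projective.of_equiv l, ?_⟩
  obtain ⟨t⟩ := TFun.nonempty_iso_tensorLeft L hP (r := (N : ℤ) + 1) rfl (sub_add_cancel (N : ℤ) 1)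
    ((TFun.preservesEpi_iff L hP (sub_add_cancel _ 1)).1 hepi)
  obtain ⟨g, hg, hsq⟩ := exists_fiber_square f hV y hy
  letI : (f.fiber y).Over (Spec (CommRingCat.of (Y.residueField y : Type u))) := ⟨f.fiberToSpecResidueField y⟩
  obtain ⟨Φ⟩ := nonempty_HH_bc_linear (A := A) (K := Y.residueField y) (X' := f.fiber y) hsq F' 0
    (L.homology (N : ℤ)) (isoOfEquivs e he ≪≫ Functor.isoWhiskerRight t _)
  let m : (Scheme.Modules.pullback g).obj F' ≅ CohIII.fiberMod f F y :=
    (Scheme.Modules.pullback g).mapIso ((Scheme.Modules.restrictFunctorIsoPullback (f ⁻¹ᵁ V).ι).app F) ≪≫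
      (Scheme.Modules.pullbackComp g (f ⁻¹ᵁ V).ι).app F ≪≫ (Scheme.Modules.pullbackCongr hg).app F
  exact ⟨(hhIso (A := (Y.residueField y : Type u)) m 0).symm ≪≫ₗ Φ ≪≫ₗ
    LinearEquiv.baseChange A (Y.residueField y) _ _ l⟩

end Groth.Agent.BCCx
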