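import Groth.Agent.BCCx.Chart
import Groth.Agent.BCCx.Transfer

/-!
# Vanishing of higher direct images near a fibre
-/

set_option autoImplicit false
set_option linter.style.haveILetI false
set_option backward.isDefEq.respectTransparency false
universe u

open CategoryTheory CategoryTheory.Limits AlgebraicGeometry Opposite TopologicalSpace

namespace Groth.Agent.BCCx

open Groth.Agent.HigherDirect

variable {X Y : Scheme.{u}} (f : X ⟶ Y) {V : Y.Opens} (hV : IsAffineOpen V)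

theorem isNoetherianRing_chart [IsLocallyNoetherian Y] (hV : IsAffineOpen V) : IsNoetherianRing Γ(Y, V) :=
  IsLocallyNoetherian.component_noetherian ⟨V, hV⟩

theorem isProper_overSec [IsProper f] : IsProper (overSec f hV) := by
  haveI : IsProper (f ∣_ V) := MorphismProperty.of_isPullback (isPullback_morphismRestrict f V).flip ‹_›
  show IsProper ((f ∣_ V) ≫ hV.isoSpec.hom)
  exact MorphismProperty.comp_mem _ _ _ ‹_› inferInstance

theorem isCoh_chart (F : X.Modules) (hF : Coh.IsCoh F) : Coh.IsCoh (F.restrict (f ⁻¹ᵁ V).ι) :=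
  HigherDirect.isCoh_restrict (f ⁻¹ᵁ V).ι hF

/-- Vanishing on a fibre is killed by a function that does not vanish at the point. -/
theorem exists_kill_sections [IsProper f] [IsLocallyNoetherian Y] [HasInjectiveResolutions X.Modules]
    (F : X.Modules) (hF : Coh.IsCoh F) (hfl : FlatMod.IsFlatOver f F) (hV : IsAffineOpen V) (y : Y) (hy : y ∈ V)
    (n : ℕ) (hvan : Subsingleton (CohIII.fiberH f F y n)) :
    ∃ s : Γ(Y, V), y ∈ Y.basicOpen s ∧ ∀ x : Γ((Coh.Rpush f n).obj F, V), s • x = 0 := by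
  letI : (f ⁻¹ᵁ V).toScheme.Over (Spec (CommRingCat.of Γ(Y, V))) := ⟨overSec f hV⟩
  haveI : IsProper ((f ⁻¹ᵁ V).toScheme ↘ Spec (CommRingCat.of Γ(Y, V))) := isProper_overSec f hV
  haveI := isNoetherianRing_chart hV
  haveI : F.IsQuasicoherent := hF.1
  let F' := F.restrict (f ⁻¹ᵁ V).ι
  obtain ⟨N, L, hL, -, h⟩ := exists_main (A := Γ(Y, V)) F' (isCoh_chart f F hF) (isFlatOver_chart f hV F hfl)
  obtain ⟨e, he⟩ := h n ((N : ℤ) - n) (sub_sub_cancel _ _)
  obtain ⟨i⟩ := nonempty_fiberH_chart f hV F y hy n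
  let 𝔭 : Ideal Γ(Y, V) := RingHom.ker (toK y hy).hom
  haveI : 𝔭.IsPrime := RingHom.ker_isPrime _
  letI : Algebra Γ(Y, V) (Y.residueField y) := (toK y hy).hom.toAlgebra
  have hk := subsingleton_residueField (A := Γ(Y, V))
    (CohIII.tensorAFunctor Γ(Y, V) F' ⋙ CohIII.HAb (f ⁻¹ᵁ V).toScheme n) (Y.residueField y) 𝔭 rfl
    i.symm.injective.subsingleton
  have hz : IsZero ((CohIII.TFun L ((N : ℤ) - n)).obj (ModuleCat.of Γ(Y, V) 𝔭.ResidueField)) := by
    rw [ModuleCat.isZero_iff_subsingleton]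
    haveI : Subsingleton (Coh.HH (f ⁻¹ᵁ V).toScheme ((TA Γ(Y, V) F').obj (ModuleCat.of Γ(Y, V) 𝔭.ResidueField)) n) := hk
    exact (e _).surjective.subsingleton
  obtain ⟨s, hs, hkill⟩ := exists_kill L hL _ 𝔭 hz
  obtain ⟨j⟩ := nonempty_sections_equiv_HH f F hV n
  refine ⟨s, mem_basicOpen_of_notMem_ker y hy s hs, fun x => ?_⟩
  apply (j ≪≫ₗ hhIso (rho Γ(Y, V) F').symm n ≪≫ₗ e (ModuleCat.of Γ(Y, V) Γ(Y, V))).injective
  rw [map_smul, map_zero]
  exact hkill _ _

end Groth.Agent.BCCx
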