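import Groth.Agent.TFun.Kernel
import Mathlib.RingTheory.LocalRing.ResidueField.Ideal

/-!
# `dRank` through fields mapping to residue fields
-/

set_option autoImplicit false
universe u

open CategoryTheory CategoryTheory.Limits HomologicalComplex

namespace Groth.Agent.BCCx

variable {A : Type u} [CommRing A]

section dvr

/-- Dimensions of homology after base change along a field extension. -/
theorem finrank_homology_of_comp (L : ChainComplex (ModuleCat.{u} A) ℤ) (q : ℤ) {κ κ' : Type u} [Field κ] [Field κ']
    (φ : A →+* κ) (j : κ →+* κ') (ψ : A →+* κ') (h : j.comp φ = ψ) :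
    Module.finrank κ' ((CohIII.bcCx ψ L).homology q) = Module.finrank κ ((CohIII.bcCx φ L).homology q) := by
  subst h
  letI : Algebra κ κ' := j.toAlgebra
  exact TFun.finrank_homology_factor L (κ := κ) (κ' := κ') φ q


set_option maxHeartbeats 300000 in
/-- `dRank` through any field mapping compatibly to the residue field. -/
theorem dRank_eq_finrank_of_field (L : ChainComplex (ModuleCat.{u} A) ℤ) (q : ℤ) (x : PrimeSpectrum A)
    {κ : Type u} [Field κ] (φ : A →+* κ) (j : κ →+* x.asIdeal.ResidueField)
    (hj : j.comp φ = algebraMap A x.asIdeal.ResidueField) :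
    CohIII.dRank L q x = Module.finrank κ ((CohIII.bcCx φ L).homology q) := by
  unfold CohIII.dRank
  exact finrank_homology_of_comp L q φ j _ hj

set_option maxHeartbeats 300000 in
/-- `dRank` at the generic point of a domain. -/
theorem dRank_bot [IsDomain A] (L : ChainComplex (ModuleCat.{u} A) ℤ) (q : ℤ) (x : PrimeSpectrum A)
    (hx : x.asIdeal = ⊥) (K : Type u) [Field K] [Algebra A K] [IsFractionRing A K] :
    CohIII.dRank L q x = Module.finrank K ((CohIII.bcCx (algebraMap A K) L).homology q) := by
  let g : A →+* x.asIdeal.ResidueField := algebraMap A x.asIdeal.ResidueField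
  have hinj : Function.Injective g := by
    rw [injective_iff_map_eq_zero]
    intro a ha
    have h1 : a ∈ x.asIdeal := Ideal.algebraMap_residueField_eq_zero.1 ha
    rw [hx] at h1
    exact Ideal.mem_bot.1 h1
  let l : K →+* x.asIdeal.ResidueField := IsFractionRing.lift (g := g) hinj
  have hl : l.comp (algebraMap A K) = g := IsLocalization.lift_comp _
  exact dRank_eq_finrank_of_field L q x (algebraMap A K) l hl

set_option maxHeartbeats 300000 in
/-- `dRank` at the closed point of a local ring. -/
theorem dRank_closedPoint [IsLocalRing A] (L : ChainComplex (ModuleCat.{u} A) ℤ) (q : ℤ) :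
    CohIII.dRank L q (IsLocalRing.closedPoint A) = Module.finrank (IsLocalRing.ResidueField A)
      ((CohIII.bcCx (algebraMap A (IsLocalRing.ResidueField A)) L).homology q) :=
  dRank_eq_finrank_of_field L q (IsLocalRing.closedPoint A) (algebraMap A (IsLocalRing.ResidueField A))
    (Ideal.Quotient.lift _ (algebraMap A (IsLocalRing.closedPoint A).asIdeal.ResidueField)
      fun a ha => Ideal.algebraMap_residueField_eq_zero.2 ha) (RingHom.ext fun _ => rfl)

end dvr

end Groth.Agent.BCCx
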