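import Groth.Agent.BCCx.LenLES
import Groth.Agent.QCohLib.Coherent

/-!
# Dimension inequalities from long exact cohomology sequences
-/

set_option autoImplicit false
set_option linter.style.haveILetI false
universe u

open CategoryTheory CategoryTheory.Limits AlgebraicGeometry Opposite TopologicalSpace
open scoped Groth.Agent.CohVanish

set_option backward.isDefEq.respectTransparency false

namespace Groth.Agent.BCCx

open Groth.Agent.CohVanish Groth.Agent.CechCmp Groth.Agent.CohFinite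

variable {k : Type u} [Field k] {X : Scheme.{u}} [X.Over (Spec (CommRingCat.of k))]
  [IsProper (X ↘ Spec (CommRingCat.of k))]

/-- `dim H^p`. -/
noncomputable def hz (k : Type u) [Field k] {X : Scheme.{u}} [X.Over (Spec (CommRingCat.of k))]
    (M : X.Modules) (p : ℕ) : ℤ :=
  Module.finrank k (Coh.HH X M p)

theorem hz_ses (S : ShortComplex X.Modules) (hS : S.ShortExact) (h₁ : Coh.IsCoh S.X₁)
    (h₂ : Coh.IsCoh S.X₂) (h₃ : Coh.IsCoh S.X₃) :
    (∀ p, hz k S.X₂ p ≤ hz k S.X₁ p + hz k S.X₃ p) ∧ (hz k S.X₁ 0 ≤ hz k S.X₂ 0) ∧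
      ∀ p, hz k S.X₁ (p + 1) ≤ hz k S.X₂ (p + 1) + hz k S.X₃ p := by
  let φ := Coh.toGlobal (X ↘ Spec (CommRingCat.of k))
  let T := modSES φ S hS
  have fin : ∀ {M : X.Modules}, Coh.IsCoh M → ∀ p, Module.Finite k (HMod (modRSh φ M) ⊤ p) :=
    fun hM p => allFin_of_isProper (X ↘ Spec (CommRingCat.of k)) _ hM p
  have hd : ∀ (M : X.Modules) p, hz k M p = Module.finrank k (HMod (modRSh φ M) ⊤ p) := fun M p => by
    unfold hz
    rw [(hhEquiv M p).finrank_eq]
  refine ⟨fun p => ?_, ?_, fun p => ?_⟩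
  · haveI : Module.Finite k (HMod T.X₁ ⊤ p) := fin h₁ p
    haveI : Module.Finite k (HMod T.X₂ ⊤ p) := fin h₂ p
    haveI : Module.Finite k (HMod T.X₃ ⊤ p) := fin h₃ p
    let f := mapHMod T.f ⊤ p
    let g := mapHMod T.g ⊤ p
    have e : LinearMap.ker g = LinearMap.range f := by
      ext x
      refine ⟨fun hx => (eMap_g_eq_zero_iff (S := T.sc) T.shortExact ⊤ p x).1 hx, ?_⟩
      rintro ⟨y, rfl⟩
      exact (eMap_g_eq_zero_iff (S := T.sc) T.shortExact ⊤ p _).2 ⟨y, rfl⟩
    have r1 := f.finrank_range_add_finrank_ker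
    have r2 := g.finrank_range_add_finrank_ker
    rw [e] at r2
    have l2 := Submodule.finrank_le (LinearMap.range g)
    rw [hd, hd, hd]
    change (Module.finrank k (HMod T.X₂ ⊤ p) : ℤ) ≤ Module.finrank k (HMod T.X₁ ⊤ p) + Module.finrank k (HMod T.X₃ ⊤ p)
    omega
  · haveI : Module.Finite k (HMod T.X₂ ⊤ 0) := fin h₂ 0
    rw [hd, hd]
    exact_mod_cast LinearMap.finrank_le_finrank_of_injective (f := mapHMod T.f ⊤ 0)
      (eMap_injective_of_mono T.shortExact.mono_f ⊤)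
  · haveI : Module.Finite k (HMod T.X₁ ⊤ (p + 1)) := fin h₁ (p + 1)
    haveI : Module.Finite k (HMod T.X₂ ⊤ (p + 1)) := fin h₂ (p + 1)
    haveI : Module.Finite k (HMod T.X₃ ⊤ p) := fin h₃ p
    let f := mapHMod T.f ⊤ (p + 1)
    let δ := T.delta ⊤ p
    have e : LinearMap.ker f = LinearMap.range δ := by
      ext x
      refine ⟨fun hx => (eMap_f_eq_zero_iff (S := T.sc) T.shortExact ⊤ p x).1 hx, ?_⟩
      rintro ⟨y, rfl⟩
      exact (eMap_f_eq_zero_iff (S := T.sc) T.shortExact ⊤ p _).2 ⟨y, rfl⟩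
    have r1 := f.finrank_range_add_finrank_ker
    have r2 := δ.finrank_range_add_finrank_ker
    rw [e] at r1
    have l2 := Submodule.finrank_le (LinearMap.range f)
    rw [hd, hd, hd]
    change (Module.finrank k (HMod T.X₁ ⊤ (p + 1)) : ℤ) ≤
      Module.finrank k (HMod T.X₂ ⊤ (p + 1)) + Module.finrank k (HMod T.X₃ ⊤ p)
    omega

/-- The bound for a right resolution. -/
theorem abs_sub_le_of_exact [IsLocallyNoetherian X] (C : ℕ → X.Modules) (hC : ∀ j, Coh.IsCoh (C j))
    (d : ∀ j, C j ⟶ C (j + 1)) (hd : ∀ j, d j ≫ d (j + 1) = 0) [Mono (d 0)]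
    (hex : ∀ j, (ShortComplex.mk (d j) (d (j + 1)) (hd j)).Exact) (i : ℕ) :
    |hz k (C 0) i - hz k (C 1) i| ≤
      (Finset.Icc 1 (i + 1)).sum (fun j => hz k (C (j + 1)) (i + 1 - j)) +
        (Finset.Icc 1 i).sum (fun j => hz k (C (j + 1)) (i - j)) := by
  let Z : ℕ → X.Modules := fun j => kernel (d j)
  have hZc : ∀ j, Coh.IsCoh (Z j) := fun j => QCohLib.isCoh_kernel (d j) (hC j) (hC (j + 1)).1
  let S : ℕ → ShortComplex X.Modules := fun j =>
    ShortComplex.mk (kernel.ι (d j)) (kernel.lift (d (j + 1)) (d j) (hd j))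
      (by rw [← cancel_mono (kernel.ι (d (j + 1)))]; simp)
  have hS : ∀ j, (S j).ShortExact := fun j => by
    haveI : Epi (S j).g := (hex j).epi_kernelLift
    haveI : Mono (S j).f := inferInstanceAs (Mono (kernel.ι (d j)))
    refine { exact := ShortComplex.exact_of_f_is_kernel _ ?_ }
    exact isKernelOfComp (kernel.ι (d (j + 1))) (d j) (kernelIsKernel (d j)) (S j).zero
      (kernel.lift_ι _ _ _)
  let S0 : ShortComplex X.Modules := ShortComplex.mk (d 0) (kernel.lift (d 2) (d 1) (hd 1))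
    (by rw [← cancel_mono (kernel.ι (d 2))]; simp [hd 0])
  have hS0 : S0.ShortExact := by
    haveI : Epi S0.g := (hex 1).epi_kernelLift
    haveI : Mono S0.f := inferInstanceAs (Mono (d 0))
    haveI : Mono (ShortComplex.mk (d 0) (d 1) (hd 0)).f := inferInstanceAs (Mono (d 0))
    refine { exact := ShortComplex.exact_of_f_is_kernel _ ?_ }
    exact isKernelOfComp (kernel.ι (d 2)) (d 1) (hex 0).fIsKernel S0.zero (kernel.lift_ι _ _ _)
  have nn : ∀ M p, (0 : ℤ) ≤ hz k (X := X) M p := fun M p => Int.natCast_nonneg _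
  have hb : ∀ (m j : ℕ), hz k (Z j) m ≤ ∑ t ∈ Finset.range (m + 1), hz k (C (j + t)) (m - t) := by
    intro m
    induction m with
    | zero => exact fun j => by simpa using (hz_ses (k := k) (S j) (hS j) (hZc j) (hC j) (hZc (j + 1))).2.1
    | succ m ih =>
      intro j
      have h1 : hz k (Z j) (m + 1) ≤ hz k (C j) (m + 1) + hz k (Z (j + 1)) m :=
        (hz_ses (k := k) (S j) (hS j) (hZc j) (hC j) (hZc (j + 1))).2.2 m
      rw [Finset.sum_range_succ']
      have h2 := ih (j + 1)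
      have e : ∑ t ∈ Finset.range (m + 1), hz k (C (j + (t + 1))) (m + 1 - (t + 1)) =
          ∑ t ∈ Finset.range (m + 1), hz k (C (j + 1 + t)) (m - t) := Finset.sum_congr rfl fun t _ => by
        congr 1
        · congr 1; omega
        · omega
      rw [e]
      simp only [Nat.sub_zero, Nat.add_zero]
      omega
  obtain ⟨hA, h00, hB⟩ := hz_ses (k := k) S0 hS0 (hC 0) (hC 1) (hZc 2)
  have hsum : ∀ m : ℕ, ∑ t ∈ Finset.range (m + 1), hz k (C (2 + t)) (m - t) =
      (Finset.Icc 1 (m + 1)).sum (fun j => hz k (C (j + 1)) (m + 1 - j)) := fun m => by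
    rw [← Finset.Ico_add_one_right_eq_Icc, Finset.sum_Ico_eq_sum_range]
    refine Finset.sum_congr (by congr 1) fun t _ => ?_
    congr 1
    · congr 1; omega
    · omega
  have s1 : hz k (Z 2) i ≤ (Finset.Icc 1 (i + 1)).sum (fun j => hz k (C (j + 1)) (i + 1 - j)) :=
    (hb i 2).trans_eq (hsum i)
  have t1 : (0 : ℤ) ≤ (Finset.Icc 1 i).sum (fun j => hz k (C (j + 1)) (i - j)) :=
    Finset.sum_nonneg fun j _ => nn _ _
  have t2 : (0 : ℤ) ≤ (Finset.Icc 1 (i + 1)).sum (fun j => hz k (C (j + 1)) (i + 1 - j)) :=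
    Finset.sum_nonneg fun j _ => nn _ _
  have hA' : hz k (C 1) i ≤ hz k (C 0) i + hz k (Z 2) i := hA i
  rw [abs_le]
  refine ⟨by omega, ?_⟩
  cases i with
  | zero =>
    have : hz k (C 0) 0 ≤ hz k (C 1) 0 := h00
    omega
  | succ m =>
    have hB' : hz k (C 0) (m + 1) ≤ hz k (C 1) (m + 1) + hz k (Z 2) m := hB m
    have s2 : hz k (Z 2) m ≤ (Finset.Icc 1 (m + 1)).sum (fun j => hz k (C (j + 1)) (m + 1 - j)) :=
      (hb m 2).trans_eq (hsum m)
    omega

end Groth.Agent.BCCx
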