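import Mathlib.Algebra.Category.ModuleCat.Monoidal.Closed
import Mathlib.Algebra.Category.ModuleCat.Colimits
import Mathlib.Algebra.Category.ModuleCat.EpiMono
import Mathlib.Algebra.Category.ModuleCat.Products
import Mathlib.Algebra.Category.ModuleCat.Abelian
import Mathlib.CategoryTheory.Limits.Preserves.Shapes.Kernels

/-!
# Cocontinuous linear functors of modules are tensor products
-/

set_option autoImplicit false
set_option linter.style.haveILetI false
universe u

open CategoryTheory CategoryTheory.Limits TensorProduct MonoidalCategory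

namespace Groth.Agent.BCCx

/-- A natural transformation of colimit preserving functors is invertible at a colimit if it is at the diagram. -/
theorem isIso_app_of_isColimit {C D J : Type*} [Category C] [Category D] [Category J] {P Q : C ⥤ D} (η : P ⟶ Q)
    {K : J ⥤ C} {c : Cocone K} (hc : IsColimit c) [PreservesColimit K P] [PreservesColimit K Q]
    [∀ j, IsIso (η.app (K.obj j))] : IsIso (η.app c.pt) := by
  let hP := isColimitOfPreserves P hc
  let hQ := isColimitOfPreserves Q hc
  let w : K ⋙ P ≅ K ⋙ Q := NatIso.ofComponents (fun j => asIso (η.app (K.obj j))) fun f => η.naturality _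
  have e : η.app c.pt = (hP.coconePointsIsoOfNatIso hQ w).hom := by
    refine hP.hom_ext fun j => ?_
    rw [IsColimit.comp_coconePointsIsoOfNatIso_hom]
    exact η.naturality _
  rw [e]
  infer_instance

variable {A : Type u} [CommRing A]

/-- A natural transformation of colimit preserving functors on modules is invertible if it is at the ring. -/
theorem isIso_of_app_self {D : Type*} [Category D] {P Q : ModuleCat.{u} A ⥤ D} (η : P ⟶ Q)
    [PreservesColimitsOfSize.{u, u} P] [PreservesColimitsOfSize.{u, u} Q]
    [IsIso (η.app (ModuleCat.of A A))] (M : ModuleCat.{u} A) : IsIso (η.app M) := by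
  have hfree : ∀ J : Type u, IsIso (η.app (∐ fun _ : J => ModuleCat.of A A)) := fun J =>
    haveI : ∀ j : Discrete J, IsIso (η.app ((Discrete.functor fun _ : J => ModuleCat.of A A).obj j)) := fun j => by
      show IsIso (η.app (ModuleCat.of A A))
      infer_instance
    isIso_app_of_isColimit η (colimit.isColimit (Discrete.functor fun _ : J => ModuleCat.of A A))
  let π : (∐ fun _ : M => ModuleCat.of A A) ⟶ M :=
    Sigma.desc fun m => ModuleCat.ofHom (LinearMap.toSpanSingleton A M m)
  haveI : Epi π := (ModuleCat.epi_iff_surjective _).2 fun m =>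
    ⟨Sigma.ι (fun _ : M => ModuleCat.of A A) m (1 : A), by
      change (Sigma.ι (fun _ : M => ModuleCat.of A A) m ≫ π) (1 : A) = m
      rw [Sigma.ι_desc]
      exact one_smul A m⟩
  let K : ModuleCat.{u} A := Limits.kernel π
  let σ : (∐ fun _ : K => ModuleCat.of A A) ⟶ Limits.kernel π :=
    Sigma.desc fun k => ModuleCat.ofHom (LinearMap.toSpanSingleton A K k)
  haveI : Epi σ := (ModuleCat.epi_iff_surjective _).2 fun k =>
    ⟨Sigma.ι (fun _ : K => ModuleCat.of A A) k (1 : A), by
      change (Sigma.ι (fun _ : K => ModuleCat.of A A) k ≫ σ) (1 : A) = k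
      rw [Sigma.ι_desc]
      exact one_smul A k⟩
  let e : cokernel (σ ≫ kernel.ι π) ≅ M :=
    cokernelEpiComp σ (kernel.ι π) ≪≫
      ((Abelian.epiIsCokernelOfKernel _ (kernelIsKernel π)).coconePointUniqueUpToIso
        (cokernelIsCokernel (kernel.ι π))).symm
  haveI : ∀ j, IsIso (η.app ((parallelPair (σ ≫ kernel.ι π) 0).obj j)) := fun j => by
    cases j <;> exact hfree _
  haveI : IsIso (η.app (cokernel (σ ≫ kernel.ι π))) :=
    haveI : PreservesColimitsOfSize.{0, 0} P := preservesColimitsOfSize_shrink P
    haveI : PreservesColimitsOfSize.{0, 0} Q := preservesColimitsOfSize_shrink Q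
    isIso_app_of_isColimit η (colimit.isColimit (parallelPair (σ ≫ kernel.ι π) 0))
  have h : η.app M = P.map e.inv ≫ η.app (cokernel (σ ≫ kernel.ι π)) ≫ Q.map e.hom := by
    rw [← η.naturality, ← P.map_comp_assoc, Iso.inv_hom_id, P.map_id, Category.id_comp]
  rw [h]
  infer_instance

variable (Φ : ModuleCat.{u} A ⥤ ModuleCat.{u} A) [Φ.Additive]

/-- The element `m`, as a map. -/
noncomputable def elm {M : ModuleCat.{u} A} (m : M) : ModuleCat.of A A ⟶ M :=
  ModuleCat.ofHom (LinearMap.toSpanSingleton A M m)

variable (hΦ : ∀ {M N : ModuleCat.{u} A} (a : A) (g : M ⟶ N), Φ.map (a • g) = a • Φ.map g)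

/-- The comparison with the tensor product. -/
noncomputable def ewMap (M : ModuleCat.{u} A) : (Φ.obj (ModuleCat.of A A)) ⊗[A] M →ₗ[A] Φ.obj M :=
  TensorProduct.lift (LinearMap.mk₂ A (fun f m => (Φ.map (elm m)).hom f)
    (fun f f' m => map_add (Φ.map (elm m)).hom f f') (fun a f m => map_smul (Φ.map (elm m)).hom a f)
    (fun f m m' => by
      rw [show elm (m + m') = elm m + elm m' from ModuleCat.hom_ext (LinearMap.ext fun r => smul_add (r : A) m m'),
        Φ.map_add]
      rfl)
    (fun a f m => by
      rw [show elm (a • m) = a • elm m from ModuleCat.hom_ext (LinearMap.ext fun r => smul_comm (r : A) a m),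
        hΦ]
      rfl))

theorem ewMap_tmul (M : ModuleCat.{u} A) (f : Φ.obj (ModuleCat.of A A)) (m : M) :
    ewMap Φ hΦ M (f ⊗ₜ[A] m) = (Φ.map (elm m)).hom f := rfl

/-- Cocontinuous linear functors are tensor products. -/
theorem ewMap_bijective [PreservesColimitsOfSize.{u, u} Φ] (M : ModuleCat.{u} A) :
    Function.Bijective (ewMap Φ hΦ M) := by
  let η : tensorLeft (Φ.obj (ModuleCat.of A A)) ⟶ Φ :=
    { app := fun M => ModuleCat.ofHom (ewMap Φ hΦ M)
      naturality := fun M N g => ModuleCat.hom_ext (TensorProduct.ext' fun f m => by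
        show ewMap Φ hΦ N (f ⊗ₜ[A] g.hom m) = Φ.map g (ewMap Φ hΦ M (f ⊗ₜ[A] m))
        rw [ewMap_tmul, ewMap_tmul, show elm (g.hom m) = elm m ≫ g from
          ModuleCat.hom_ext (LinearMap.ext fun r => (map_smul g.hom (r : A) m).symm), Φ.map_comp]
        rfl) }
  haveI : IsIso (η.app (ModuleCat.of A A)) := by
    have h : η.app (ModuleCat.of A A) = (TensorProduct.rid A (Φ.obj (ModuleCat.of A A))).toModuleIso.hom := by
      refine ModuleCat.hom_ext (TensorProduct.ext' fun f (a : A) => ?_)
      show (Φ.map (elm (M := ModuleCat.of A A) a)).hom f = a • f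
      rw [show elm (M := ModuleCat.of A A) a = a • 𝟙 (ModuleCat.of A A) from
        ModuleCat.hom_ext (LinearMap.ext fun r => mul_comm (r : A) a), hΦ, Φ.map_id]
      rfl
    rw [h]
    infer_instance
  haveI := isIso_of_app_self η M
  exact ConcreteCategory.bijective_of_isIso (η.app M)

end Groth.Agent.BCCx
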