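import Groth.Agent.BCCx.Gamma
import Groth.Agent.FlatBC.Sections
import Groth.Agent.InvBasic.QCoh
import Mathlib.RingTheory.Etale.Field
import Mathlib.Dynamics.Newton
import Mathlib.RingTheory.LocalRing.Module
import Mathlib.RingTheory.Filtration
import Mathlib.LinearAlgebra.TensorProduct.Quotient

/-!
# Functions on a closed fibre that form an étale algebra lift to every infinitesimal neighbourhood
-/

set_option autoImplicit false
set_option linter.style.haveILetI false
set_option backward.isDefEq.respectTransparency false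
set_option maxHeartbeats 1600000
universe u

open CategoryTheory CategoryTheory.Limits AlgebraicGeometry Opposite TopologicalSpace TensorProduct
open Groth.Agent.CechCmp

namespace Groth.Agent.BCCx.EtaleFun

section algebra

variable {A : Type u} [CommRing A] [IsNoetherianRing A] [IsLocalRing A] {Q : Type u} [AddCommGroup Q] [Module A Q]

/-- A finite module all of whose functionals mod `m` lift mod every power of `m` is free. -/
theorem free_of_lifts [Module.Finite A Q]
    (H : ∀ (n : ℕ) (h : Q →ₗ[A] A ⧸ IsLocalRing.maximalIdeal A), ∃ h' : Q →ₗ[A] A ⧸ IsLocalRing.maximalIdeal A ^ (n + 1),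
      ∀ q, Submodule.factor (Ideal.pow_le_self (Nat.succ_ne_zero n)) (h' q) = h q) :
    Module.Free A Q := by
  classical
  let m := IsLocalRing.maximalIdeal A
  let k := IsLocalRing.ResidueField A
  let b := Module.finBasis k (k ⊗[A] Q)
  let r := Module.finrank k (k ⊗[A] Q)
  have hsur : ∀ z : k ⊗[A] Q, ∃ x : Q, (1 : k) ⊗ₜ[A] x = z := fun z => by
    induction z using TensorProduct.induction_on with
    | zero => exact ⟨0, tmul_zero _ _⟩
    | tmul c q =>
      obtain ⟨a, rfl⟩ := IsLocalRing.residue_surjective c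
      refine ⟨a • q, ?_⟩
      rw [← smul_tmul]
      congr 1
      exact mul_one (IsLocalRing.residue A a)
    | add p q hp hq =>
      obtain ⟨x, rfl⟩ := hp
      obtain ⟨y, rfl⟩ := hq
      exact ⟨x + y, tmul_add _ _ _⟩
  choose x hx using fun i => hsur (b i)
  have htop := IsLocalRing.span_eq_top_of_tmul_eq_basis x b hx
  refine Module.Free.of_basis (Module.Basis.mk (v := x) ?_ htop.ge)
  rw [Fintype.linearIndependent_iff]
  intro a ha i₀
  have main : ∀ n : ℕ, ∀ i, a i ∈ m ^ n := by
    intro n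
    cases n with
    | zero => intro i; rw [pow_zero, Ideal.one_eq_top]; trivial
    | succ n =>
      let h : Fin r → (Q →ₗ[A] A ⧸ m) := fun i =>
        ((b.coord i).restrictScalars A) ∘ₗ (TensorProduct.mk A k Q 1)
      choose h' hh' using fun i => H n (h i)
      choose M hM using fun i j => Submodule.Quotient.mk_surjective _ (h' i (x j))
      have hdiag : ∀ i j, M i j - (if i = j then 1 else 0) ∈ m := fun i j => by
        refine Ideal.Quotient.eq.1 ?_
        have e : Ideal.Quotient.mk m (M i j) = h i (x j) := by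
          rw [← hh' i (x j), ← hM i j]
          rfl
        rw [e]
        show b.coord i ((1 : k) ⊗ₜ[A] x j) = _
        rw [hx, Module.Basis.coord_apply, b.repr_self, Finsupp.single_apply]
        by_cases hij : i = j
        · subst hij; simp
        · rw [if_neg (Ne.symm hij), if_neg hij]; exact (map_zero _).symm
      have hrow : ∀ i, ∑ j, a j * M i j ∈ m ^ (n + 1) := fun i => by
        have e := congrArg (h' i) ha
        rw [map_sum, map_zero] at e
        refine Ideal.Quotient.eq_zero_iff_mem.1 ?_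
        rw [map_sum, ← e]
        refine Finset.sum_congr rfl fun j _ => ?_
        rw [map_smul, ← hM i j]
        rfl
      have step : ∀ j, j ≤ n + 1 → ∀ i, a i ∈ m ^ j := by
        intro j
        induction j with
        | zero => intro _ i; rw [pow_zero, Ideal.one_eq_top]; trivial
        | succ j ih =>
          intro hj i
          have e : a i = ∑ l, a l * M i l - ∑ l, a l * (M i l - if i = l then 1 else 0) := by
            simp [mul_sub, Finset.sum_sub_distrib]
          rw [e]
          refine sub_mem (Ideal.pow_le_pow_right hj (hrow i)) (Ideal.sum_mem _ fun l _ => ?_)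
          rw [pow_succ]
          exact Ideal.mul_mem_mul (ih (by omega) l) (hdiag i l)
      exact step (n + 1) le_rfl
  have hb := Ideal.iInf_pow_eq_bot_of_isLocalRing m (IsLocalRing.maximalIdeal.isMaximal A).ne_top
  have h0 : a i₀ ∈ ⨅ n : ℕ, m ^ n := Ideal.mem_iInf.2 fun n => main n i₀
  rw [hb] at h0
  exact h0

end algebra

/-- Elements of an étale algebra over a field are simple roots. -/
theorem exists_sep_poly {K E : Type u} [Field K] [CommRing E] [Algebra K E] [Algebra.Etale K E] (e : E) :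
    ∃ p : Polynomial K, Polynomial.aeval e p = 0 ∧ IsUnit (Polynomial.aeval e (Polynomial.derivative p)) := by
  classical
  obtain ⟨I, _, Ai, _, _, φ, hφ⟩ := (Algebra.Etale.iff_exists_algEquiv_prod K E).1 inferInstance
  haveI := Fintype.ofFinite I
  haveI := fun i => (hφ i).1
  haveI := fun i => (hφ i).2
  let mp : I → Polynomial K := fun i => minpoly K (φ e i)
  let s : Finset (Polynomial K) := Finset.univ.image mp
  have hs : ∀ q ∈ s, q.Separable ∧ q.Monic ∧ Irreducible q := fun q hq => by
    obtain ⟨i, -, rfl⟩ := Finset.mem_image.1 hq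
    exact ⟨Algebra.IsSeparable.isSeparable K _, minpoly.monic (Algebra.IsIntegral.isIntegral _),
      minpoly.irreducible (Algebra.IsIntegral.isIntegral _)⟩
  have hp : (∏ q ∈ s, q).Separable := Polynomial.separable_prod' (fun q hq q' hq' hne =>
    (hs q hq).2.2.coprime_iff_not_dvd.2 fun hd => hne (Polynomial.eq_of_monic_of_associated (hs q hq).2.1 (hs q' hq').2.1
      ((hs q hq).2.2.associated_of_dvd (hs q' hq').2.2 hd))) fun q hq => (hs q hq).1
  have hroot : ∀ i, Polynomial.aeval (φ e i) (∏ q ∈ s, q) = 0 := fun i => by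
    rw [map_prod]
    exact Finset.prod_eq_zero (Finset.mem_image_of_mem mp (Finset.mem_univ i)) (minpoly.aeval K _)
  have hc : ∀ (P : Polynomial K) i, φ (Polynomial.aeval e P) i = Polynomial.aeval (φ e i) P := fun P i =>
    ((Polynomial.aeval_algHom_apply ((Pi.evalAlgHom K Ai i).comp φ.toAlgHom) e P)).symm
  refine ⟨∏ q ∈ s, q, φ.injective (funext fun i => ?_), ?_⟩
  · rw [hc, hroot, map_zero]
    rfl
  · rw [← MulEquiv.isUnit_map φ.toMulEquiv, Pi.isUnit_iff]
    intro i
    show IsUnit (φ (Polynomial.aeval e (Polynomial.derivative (∏ q ∈ s, q))) i)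
    rw [hc, isUnit_iff_ne_zero]
    exact hp.aeval_derivative_ne_zero (hroot i)

/-- Roots modulo an ideal lift uniquely modulo its powers. -/
theorem exists_root {A R : Type u} [CommRing A] [CommRing R] [Algebra A R] (P : Polynomial A) (I : Ideal R) (n : ℕ) (c : R)
    (h : Polynomial.aeval c P ∈ I) (h' : IsUnit (Ideal.Quotient.mk I (Polynomial.aeval c (Polynomial.derivative P)))) :
    ∃ c' : R, c' - c ∈ I ∧ Polynomial.aeval c' P ∈ I ^ (n + 1) ∧
      ∀ d : R, d - c ∈ I → Polynomial.aeval d P ∈ I ^ (n + 1) → d - c' ∈ I ^ (n + 1) := by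
  let J := I ^ (n + 1)
  have hJI : J ≤ I := Ideal.pow_le_self (Nat.succ_ne_zero n)
  let mkJ := Ideal.Quotient.mkₐ A J
  have nil : ∀ z ∈ I, IsNilpotent (mkJ z) := fun z hz => ⟨n + 1, by
    rw [← map_pow]; exact Ideal.Quotient.eq_zero_iff_mem.2 (Ideal.pow_mem_pow hz _)⟩
  have h1 : IsNilpotent (Polynomial.aeval (mkJ c) P) := by
    rw [Polynomial.aeval_algHom_apply]; exact nil _ h
  have h2 : IsUnit (Polynomial.aeval (mkJ c) (Polynomial.derivative P)) := by
    rw [Polynomial.aeval_algHom_apply]
    obtain ⟨v, hv⟩ := Ideal.Quotient.mk_surjective (↑h'.unit⁻¹ : R ⧸ I)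
    have hn : IsNilpotent (mkJ (Polynomial.aeval c (Polynomial.derivative P) * v - 1)) := nil _ (by
      rw [← Ideal.Quotient.eq_zero_iff_mem, map_sub, map_mul, hv, map_one, h'.mul_val_inv, sub_self])
    have hu := hn.isUnit_add_one
    rw [map_sub, map_one, sub_add_cancel, map_mul] at hu
    exact isUnit_of_mul_isUnit_left hu
  obtain ⟨r, ⟨hr1, hr2⟩, huniq⟩ := Polynomial.existsUnique_nilpotent_sub_and_aeval_eq_zero h1 h2
  obtain ⟨c₁, hc₁⟩ := Ideal.Quotient.mk_surjective r
  -- the root is congruent to `c` modulo `I`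
  obtain ⟨c₂, hc₂, hc₂'⟩ : ∃ z ∈ I, mkJ z = mkJ c - r := by
    let P' := P.map (algebraMap A (R ⧸ J))
    have e1 : P'.eval (mkJ c) = Polynomial.aeval (mkJ c) P := Polynomial.eval_map_algebraMap _ _
    have e2 : P'.eval r = 0 := (Polynomial.eval_map_algebraMap _ _).trans hr2
    obtain ⟨w, hw⟩ := P'.binomExpansion r (mkJ c - r)
    rw [add_sub_cancel, e1, e2, zero_add] at hw
    have hu' : IsUnit (Polynomial.eval r (Polynomial.derivative P') + w * (mkJ c - r)) := by
      refine IsNilpotent.isUnit_add_left_of_commute ((Commute.all _ _).isNilpotent_mul_left hr1) ?_ (Commute.all _ _)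
      rw [Polynomial.derivative_map, Polynomial.eval_map_algebraMap]
      exact Polynomial.isUnit_aeval_of_isUnit_aeval_of_isNilpotent_sub h2 (by rw [← neg_sub, isNilpotent_neg_iff]; exact hr1)
    obtain ⟨v, hv⟩ := Ideal.Quotient.mk_surjective (↑hu'.unit⁻¹ : R ⧸ J)
    refine ⟨v * Polynomial.aeval c P, I.mul_mem_left _ h, ?_⟩
    rw [map_mul, ← Polynomial.aeval_algHom_apply, hw]
    show Ideal.Quotient.mk J v * _ = _
    rw [hv, show Polynomial.eval r (Polynomial.derivative P') * (mkJ c - r) + w * (mkJ c - r) ^ 2 =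
      (Polynomial.eval r (Polynomial.derivative P') + w * (mkJ c - r)) * (mkJ c - r) by ring, ← mul_assoc,
      IsUnit.val_inv_mul hu', one_mul]
  refine ⟨c - c₂, by rw [sub_sub_cancel_left]; exact neg_mem hc₂, ?_, fun d hd hd' => ?_⟩
  · refine Ideal.Quotient.eq_zero_iff_mem.1 ?_
    show mkJ (Polynomial.aeval (c - c₂) P) = 0
    rw [← Polynomial.aeval_algHom_apply, map_sub, hc₂', sub_sub_cancel, hr2]
  · refine Ideal.Quotient.eq.1 ?_
    show mkJ d = mkJ (c - c₂)
    rw [map_sub, hc₂', sub_sub_cancel]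
    refine huniq _ ⟨?_, ?_⟩
    · rw [← map_sub]; exact nil _ (by rw [← neg_sub]; exact neg_mem hd)
    · rw [Polynomial.aeval_algHom_apply]; exact Ideal.Quotient.eq_zero_iff_mem.2 hd'

section scheme

variable {A : Type u} [CommRing A] {X : Scheme.{u}} [X.Over (Spec (CommRingCat.of A))]

local notation "O" => Coh.structureModule X

/-- Functions on an open, as an element of the module of sections. -/
noncomputable abbrev fn (V : X.Opens) (a : Γ(X, V)) : (rsh A O).F.obj.obj (op V) := a

/-- `a ↦ a ⊗ 1` in the sections of `O ⊗ A/J`. -/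
noncomputable def red (J : Ideal A) (V : X.Opens) (a : Γ(X, V)) :
    Γ((CohIII.tensorAFunctor A O).obj (ModuleCat.of A (A ⧸ J)), V) :=
  beta A O V (ModuleCat.of A (A ⧸ J)) (fn (A := A) V a ⊗ₜ[A] (1 : A ⧸ J))

theorem red_res (J : Ideal A) {V W : X.Opens} (h : W ≤ V) (a : Γ(X, V)) :
    ((CohIII.tensorAFunctor A O).obj (ModuleCat.of A (A ⧸ J))).presheaf.map (homOfLE h).op (red J V a) =
      red J W (X.presheaf.map (homOfLE h).op a) :=
  (QCohLib.app_map (theta A O (M := ModuleCat.of A (A ⧸ J)) (1 : A ⧸ J)) h a).symm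

theorem red_map {J J' : Ideal A} (h : J ≤ J') (V : X.Opens) (a : Γ(X, V)) :
    ((CohIII.tensorAFunctor A O).map (ModuleCat.ofHom (Submodule.factor h) :
      ModuleCat.of A (A ⧸ J) ⟶ ModuleCat.of A (A ⧸ J'))).app V (red J V a) = red J' V a :=
  congrArg (fun φ => φ.app V a) (theta_comp A O (ModuleCat.ofHom (Submodule.factor h) :
      ModuleCat.of A (A ⧸ J) ⟶ ModuleCat.of A (A ⧸ J')) (1 : A ⧸ J))

theorem red_sub (J : Ideal A) (V : X.Opens) (a b : Γ(X, V)) : red J V (a - b) = red J V a - red J V b := by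
  show beta A O V _ (fn (A := A) V (a - b) ⊗ₜ[A] _) = beta A O V _ _ - beta A O V _ _
  rw [← map_sub, ← TensorProduct.sub_tmul]

theorem red_surjective (J : Ideal A) {V : X.Opens} (hV : IsAffineOpen V) (t) : ∃ a, red J V a = t := by
  haveI : (Coh.structureModule X).IsQuasicoherent := InvBasic.isQuasicoherent_structureModule X
  obtain ⟨z, rfl⟩ := (beta_bijective A O hV (ModuleCat.of A (A ⧸ J))).2 t
  suffices ∃ a : Γ(X, V), fn (A := A) V a ⊗ₜ[A] (1 : A ⧸ J) = z from this.imp fun a ha => congrArg _ ha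
  induction z using TensorProduct.induction_on with
  | zero => exact ⟨0, TensorProduct.zero_tmul _ _⟩
  | tmul a c =>
    obtain ⟨c, rfl⟩ := Ideal.Quotient.mk_surjective c
    refine ⟨(c • a : (rsh A O).F.obj.obj (op V)), ?_⟩
    show (c • a) ⊗ₜ[A] (1 : A ⧸ J) = _
    rw [TensorProduct.smul_tmul]
    congr 1
    exact mul_one (Ideal.Quotient.mk J c)
  | add p q hp hq =>
    obtain ⟨a, rfl⟩ := hp
    obtain ⟨b, rfl⟩ := hq
    exact ⟨a + b, TensorProduct.add_tmul _ _ _⟩

theorem red_eq_zero_iff (J : Ideal A) {V : X.Opens} (hV : IsAffineOpen V) (a : Γ(X, V)) :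
    red J V a = 0 ↔ a ∈ J.map (FormalFun.toSec (A := A) V) := by
  haveI : (Coh.structureModule X).IsQuasicoherent := InvBasic.isQuasicoherent_structureModule X
  let α := FormalFun.toSec (X := X) (A := A) V
  let M := (rsh A O).F.obj.obj (op V)
  have hs : ∀ (c : A) (z : Γ(X, V)), (c • fn (A := A) V z : M) = α c * z := fun c z => rfl
  have e : red J V a = 0 ↔ fn (A := A) V a ∈ J • (⊤ : Submodule A M) := by
    rw [show red J V a = beta A O V _ (fn (A := A) V a ⊗ₜ[A] Ideal.Quotient.mk J 1) from rfl,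
      map_eq_zero_iff _ (beta_bijective A O hV _).1, ← map_eq_zero_iff _ (TensorProduct.tensorQuotEquivQuotSMul M J).injective,
      TensorProduct.tensorQuotEquivQuotSMul_tmul_mk, one_smul, Submodule.Quotient.mk_eq_zero]
  rw [e]
  constructor
  · intro h
    suffices ∀ z : M, z ∈ J • (⊤ : Submodule A M) → (show Γ(X, V) from z) ∈ J.map α from this _ h
    intro z hz
    refine Submodule.smul_induction_on hz (fun c hc w _ => ?_) fun p q hp hq => add_mem hp hq
    exact (hs c w).symm ▸ Ideal.mul_mem_right _ _ (Ideal.mem_map_of_mem α hc)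
  · intro h
    have key : ∀ z : Γ(X, V), z ∈ J.map α → ∀ w : Γ(X, V), fn (A := A) V (z * w) ∈ J • (⊤ : Submodule A M) := by
      intro z hz
      induction hz using Submodule.span_induction with
      | mem z hz =>
        obtain ⟨c, hc, rfl⟩ := hz
        intro w
        rw [← hs c w]
        exact Submodule.smul_mem_smul hc Submodule.mem_top
      | zero => intro w; rw [zero_mul]; exact zero_mem _
      | add p q _ _ hp hq => intro w; rw [add_mul]; exact add_mem (hp w) (hq w)
      | smul r p _ hp =>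
        intro w
        rw [smul_eq_mul, mul_comm r, mul_assoc]
        exact hp _
    simpa using key a h 1

theorem toSec_res {V W : X.Opens} (h : W ≤ V) (a : A) :
    X.presheaf.map (homOfLE h).op (FormalFun.toSec (A := A) V a) = FormalFun.toSec W a :=
  (ConcreteCategory.comp_apply (X.presheaf.map (homOfLE le_top).op) (X.presheaf.map (homOfLE h).op) _).symm.trans
    (ConcreteCategory.congr_hom (X.presheaf.map_comp (homOfLE le_top).op (homOfLE h).op).symm _)

end scheme

variable {A : Type u} [CommRing A] [IsNoetherianRing A] [IsLocalRing A] {X : Scheme.{u}}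
  [X.Over (Spec (CommRingCat.of A))] (y : Spec (CommRingCat.of A))

/-- `A → k(y)`. -/
noncomputable def phi : A →+* (Spec (CommRingCat.of A)).residueField y :=
  (CommRingCat.ofHom (algebraMap A y.asIdeal.ResidueField) ≫ (Scheme.Spec.residueFieldIso (CommRingCat.of A) y).inv).hom

theorem phi_surjective (hy : y.asIdeal = IsLocalRing.maximalIdeal A) : Function.Surjective (phi y) := by
  haveI : y.asIdeal.IsMaximal := hy ▸ IsLocalRing.maximalIdeal.isMaximal A
  exact (ConcreteCategory.bijective_of_isIso (Scheme.Spec.residueFieldIso (CommRingCat.of A) y).inv).2.comp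
    (Ideal.algebraMap_residueField_surjective y.asIdeal)

theorem ker_phi : RingHom.ker (phi y) = y.asIdeal := by
  rw [phi, CommRingCat.hom_comp, RingHom.ker_comp_of_injective _
    (ConcreteCategory.bijective_of_isIso (Scheme.Spec.residueFieldIso (CommRingCat.of A) y).inv).1]
  exact Ideal.ker_algebraMap_residueField _

theorem Spec_map_phi : Spec.map (CommRingCat.ofHom (phi y)) = (Spec (CommRingCat.of A)).fromSpecResidueField y := by
  rw [← Scheme.Spec.map_residueFieldIso_inv_eq_fromSpecResidueField, ← Spec.map_comp]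
  rfl

local notation "f" => (X ↘ Spec (CommRingCat.of A))

theorem fiberι_toSec (W : X.Opens) (a : A) :
    (Scheme.Hom.fiberι f y).app W (FormalFun.toSec (A := A) W a) =
      (Scheme.Hom.fiber f y).presheaf.map (homOfLE le_top).op
        (algebraMap _ Γ(Scheme.Hom.fiber f y, ⊤) (phi y a)) := by
  letI : Algebra A ((Spec (CommRingCat.of A)).residueField y) := (phi y).toAlgebra
  have h := FlatBC.global_comm (A := A) (B := ((Spec (CommRingCat.of A)).residueField y : Type u))
    (g := Scheme.Hom.fiberι f y) (s := f) (s' := Scheme.Hom.fiberToSpecResidueField f y)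
    (by rw [show CommRingCat.ofHom (algebraMap A _) = CommRingCat.ofHom (phi y) from rfl, Spec_map_phi]
        exact pullback.condition) a
  show ((X.presheaf.map (homOfLE le_top).op) ≫ (Scheme.Hom.fiberι f y).app W) (Coh.toGlobal f a) = _
  rw [Scheme.Hom.naturality]
  exact congrArg _ h

variable (hy : y.asIdeal = IsLocalRing.maximalIdeal A)
include hy

theorem ker_fiberι_app {W : X.Opens} (hW : IsAffineOpen W) :
    RingHom.ker ((Scheme.Hom.fiberι f y).app W).hom ≤
      (IsLocalRing.maximalIdeal A).map (FormalFun.toSec (A := A) W) := by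
  let g := Scheme.Hom.fiberι f y
  haveI : IsAffine W.toScheme := hW
  have sq0 : IsPullback g (Scheme.Hom.fiberToSpecResidueField f y) f (Spec.map (CommRingCat.ofHom (phi y))) := by
    rw [Spec_map_phi]
    exact IsPullback.of_hasPullback _ _
  have sq : IsPullback (g ∣_ W) ((g ⁻¹ᵁ W).ι ≫ Scheme.Hom.fiberToSpecResidueField f y) (W.ι ≫ f)
      (Spec.map (CommRingCat.ofHom (phi y))) :=
    (isPullback_morphismRestrict g W).paste_vert sq0
  have po := isPushout_appTop_of_isPullback sq
  let Γσ := Scheme.ΓSpecIso (CommRingCat.of A)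
  let B : Type u := Γ(W.toScheme, ⊤)
  let β : A →+* B := Coh.toGlobal (W.ι ≫ f)
  let N : Ideal B := (IsLocalRing.maximalIdeal A).map β
  have hvan : ∀ a ∈ RingHom.ker (phi y), ((Ideal.Quotient.mk N).comp β) a = 0 := fun a ha => by
    rw [ker_phi, hy] at ha
    exact Ideal.Quotient.eq_zero_iff_mem.2 (Ideal.mem_map_of_mem β ha)
  let ψ : ((Spec (CommRingCat.of A)).residueField y : Type u) →+* B ⧸ N :=
    (phi y).liftOfSurjective (phi_surjective y hy) ⟨(Ideal.Quotient.mk N).comp β, hvan⟩
  have hψ : ∀ a, ψ (phi y a) = Ideal.Quotient.mk N (β a) := fun a =>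
    RingHom.liftOfSurjective_comp_apply _ (phi_surjective y hy) ⟨(Ideal.Quotient.mk N).comp β, hvan⟩ a
  let ψ' : Γ(Spec ((Spec (CommRingCat.of A)).residueField y), ⊤) ⟶ CommRingCat.of (B ⧸ N) :=
    (Scheme.ΓSpecIso _).hom ≫ CommRingCat.ofHom ψ
  let q : Γ(W.toScheme, ⊤) ⟶ CommRingCat.of (B ⧸ N) := CommRingCat.ofHom (Ideal.Quotient.mk N)
  have hw : (W.ι ≫ f).appTop ≫ q = (Spec.map (CommRingCat.ofHom (phi y))).appTop ≫ ψ' := by
    refine (cancel_epi (Scheme.ΓSpecIso (CommRingCat.of A)).inv).1 (CommRingCat.hom_ext (RingHom.ext fun a => ?_))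
    show Ideal.Quotient.mk N (β a) = ψ ((Scheme.ΓSpecIso _).hom
      ((Spec.map (CommRingCat.ofHom (phi y))).appTop ((Scheme.ΓSpecIso (CommRingCat.of A)).inv a)))
    rw [← hψ]
    refine congrArg ψ ?_
    refine Eq.trans ?_ (congrArg (Scheme.ΓSpecIso _).hom
      (ConcreteCategory.congr_hom (Scheme.ΓSpecIso_inv_naturality (CommRingCat.ofHom (phi y))) a))
    exact ((Scheme.ΓSpecIso _).inv_hom_id_apply _).symm
  obtain ⟨d, hd, -⟩ := po.exists_desc q ψ' hw
  intro z hz
  let z' : B := W.topIso.inv z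
  have h0 : (g ∣_ W).appTop z' = 0 := by
    show ((W.topIso.inv ≫ (g ∣_ W).appTop) z) = 0
    rw [Scheme.Hom.appTop, morphismRestrict_app, Scheme.Opens.topIso_inv, Scheme.Hom.naturality_assoc,
      ← Functor.map_comp, ConcreteCategory.comp_apply]
    exact (congrArg _ (RingHom.mem_ker.1 hz)).trans (map_zero _)
  have h1 : z' ∈ N := Ideal.Quotient.eq_zero_iff_mem.1 (by
    show q z' = 0
    rw [← hd, ConcreteCategory.comp_apply, h0, map_zero])
  have h2 : W.topIso.hom z' ∈ N.map W.topIso.hom.hom := Ideal.mem_map_of_mem _ h1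
  rw [Ideal.map_map] at h2
  have e : W.topIso.hom.hom.comp β = FormalFun.toSec (A := A) W := RingHom.ext fun a => by
    show W.topIso.hom ((W.ι ≫ f).appTop (Γσ.inv a)) = X.presheaf.map _ (Scheme.Hom.appTop f (Γσ.inv a))
    rw [Scheme.Hom.comp_appTop, ConcreteCategory.comp_apply, Scheme.Opens.ι_appTop, Scheme.Opens.topIso_hom]
    exact (ConcreteCategory.comp_apply _ _ _).symm.trans
      (ConcreteCategory.congr_hom ((X.presheaf.map_comp _ _).symm.trans (congrArg X.presheaf.map (Subsingleton.elim _ _))) _)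
  rw [e] at h2
  exact W.topIso.inv_hom_id_apply z ▸ h2

/-- Functions on the closed fibre lift modulo every power of the maximal ideal. -/
theorem exists_lift [X.IsSeparated] [CompactSpace X] (het : Algebra.Etale ((Spec (CommRingCat.of A)).residueField y)
      Γ(Scheme.Hom.fiber f y, ⊤)) (n : ℕ)
    (z : Γ((CohIII.tensorAFunctor A (Coh.structureModule X)).obj
      (ModuleCat.of A (A ⧸ IsLocalRing.maximalIdeal A)), ⊤)) :
    ∃ z' : Γ((CohIII.tensorAFunctor A (Coh.structureModule X)).obj
      (ModuleCat.of A (A ⧸ IsLocalRing.maximalIdeal A ^ (n + 1))), ⊤),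
      ((CohIII.tensorAFunctor A (Coh.structureModule X)).map (ModuleCat.ofHom
        (Submodule.factor (Ideal.pow_le_self (Nat.succ_ne_zero n))) :
          ModuleCat.of A (A ⧸ IsLocalRing.maximalIdeal A ^ (n + 1)) ⟶ _)).app ⊤ z' = z := by
  classical
  haveI := het
  let m := IsLocalRing.maximalIdeal A
  let J := m ^ (n + 1)
  let g := Scheme.Hom.fiberι f y
  let T1 := (CohIII.tensorAFunctor A (Coh.structureModule X)).obj (ModuleCat.of A (A ⧸ m))
  let Tn := (CohIII.tensorAFunctor A (Coh.structureModule X)).obj (ModuleCat.of A (A ⧸ J))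
  obtain ⟨ι, _, U, hcov, hU⟩ := exists_cover X
  have hUa : ∀ i, IsAffineOpen (U i) := fun i => by
    have h := hU {i} (Finset.singleton_nonempty i)
    rwa [RSh.meetOpen, Finset.iInf_singleton] at h
  have hUab : ∀ i j, IsAffineOpen (U i ⊓ U j) := fun i j => by
    have h := hU {i, j} (Finset.insert_nonempty _ _)
    rwa [RSh.meetOpen, Finset.iInf_insert, Finset.iInf_singleton] at h
  choose c hc using fun i => red_surjective (A := A) m (hUa i) (T1.presheaf.map (homOfLE (le_top : U i ≤ ⊤)).op z)
  have hg0 : ∀ {W : X.Opens} (a : Γ(X, W)), a ∈ m.map (FormalFun.toSec (A := A) W) → g.app W a = 0 := by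
    intro W a ha
    have : m.map (FormalFun.toSec (A := A) W) ≤ RingHom.ker (g.app W).hom := Ideal.map_le_iff_le_comap.2 fun b hb => by
      rw [Ideal.mem_comap, RingHom.mem_ker]
      refine (fiberι_toSec y W b).trans ?_
      rw [RingHom.mem_ker.1 (show b ∈ RingHom.ker (phi y) by rw [ker_phi, hy]; exact hb), map_zero, map_zero]
    exact this ha
  -- compatibility of the local data
  have hcc : ∀ i j, X.presheaf.map (homOfLE (inf_le_left : U i ⊓ U j ≤ U i)).op (c i) -
      X.presheaf.map (homOfLE (inf_le_right : U i ⊓ U j ≤ U j)).op (c j) ∈ m.map (FormalFun.toSec (A := A) (U i ⊓ U j)) :=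
    fun i j => (red_eq_zero_iff m (hUab i j) _).1 (by
      rw [red_sub, ← red_res, ← red_res, hc, hc, ← ConcreteCategory.comp_apply, ← ConcreteCategory.comp_apply,
        ← Functor.map_comp, ← Functor.map_comp, sub_eq_zero]
      rfl)
  -- the function on the fibre
  obtain ⟨e₀, he₀, -⟩ := TopCat.Sheaf.existsUnique_gluing' (Scheme.Hom.fiber f y).sheaf (fun i => g ⁻¹ᵁ U i) ⊤
    (fun i => homOfLE le_top) (by rw [← Scheme.Hom.preimage_iSup, hcov]; exact le_rfl)
    (fun i => g.app (U i) (c i)) (fun i j => by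
      have h := hg0 _ (hcc i j)
      rw [map_sub, sub_eq_zero] at h
      refine Eq.trans ?_ (h.trans ?_)
      · exact (ConcreteCategory.congr_hom (g.naturality (homOfLE (inf_le_left : U i ⊓ U j ≤ U i)).op) (c i)).symm
      · exact ConcreteCategory.congr_hom (g.naturality (homOfLE (inf_le_right : U i ⊓ U j ≤ U j)).op) (c j))
  let e : Γ(Scheme.Hom.fiber f y, ⊤) := e₀
  have he : ∀ i, (Scheme.Hom.fiber f y).presheaf.map (homOfLE (le_top : g ⁻¹ᵁ U i ≤ ⊤)).op e = g.app (U i) (c i) := he₀
  obtain ⟨p, hp0, hp1⟩ := exists_sep_poly (K := ((Spec (CommRingCat.of A)).residueField y : Type u)) e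
  obtain ⟨P, rfl⟩ := Polynomial.map_surjective (phi y) (phi_surjective y hy) p
  -- local roots
  letI algW : ∀ W : X.Opens, Algebra A Γ(X, W) := fun W => (FormalFun.toSec W).toAlgebra
  have hev : ∀ i (S : Polynomial A), g.app (U i) (Polynomial.aeval (c i) S) =
      (Scheme.Hom.fiber f y).presheaf.map (homOfLE (le_top : g ⁻¹ᵁ U i ≤ ⊤)).op
        (Polynomial.aeval e (S.map (phi y))) := by
    intro i S
    rw [Polynomial.aeval_def, Polynomial.aeval_def, Polynomial.eval₂_map, Polynomial.hom_eval₂, Polynomial.hom_eval₂]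
    congr 1
    · exact RingHom.ext fun a => fiberι_toSec y (U i) a
    · exact (he i).symm
  have hroot : ∀ i, Polynomial.aeval (c i) P ∈ m.map (FormalFun.toSec (A := A) (U i)) := fun i =>
    ker_fiberι_app y hy (hUa i) (RingHom.mem_ker.2 ((hev i P).trans (by rw [hp0, map_zero])))
  have hunit : ∀ i, IsUnit (Ideal.Quotient.mk (m.map (FormalFun.toSec (A := A) (U i)))
      (Polynomial.aeval (c i) (Polynomial.derivative P))) := fun i => by
    haveI : IsClosedImmersion (Spec.map (CommRingCat.ofHom (phi y))) :=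
      IsClosedImmersion.spec_of_surjective _ (phi_surjective y hy)
    haveI : IsClosedImmersion g := MorphismProperty.of_isPullback (show IsPullback (Scheme.Hom.fiberToSpecResidueField f y) g
      (Spec.map (CommRingCat.ofHom (phi y))) f by rw [Spec_map_phi]; exact (IsPullback.of_hasPullback _ _).flip) inferInstance
    have hu : IsUnit (g.app (U i) (Polynomial.aeval (c i) (Polynomial.derivative P))) := by
      rw [hev, ← Polynomial.derivative_map]
      exact hp1.map _
    obtain ⟨v, hv⟩ := isUnit_iff_exists_inv.1 hu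
    obtain ⟨v, rfl⟩ := g.app_surjective (U i) (hUa i) v
    refine isUnit_iff_exists_inv.2 ⟨Ideal.Quotient.mk _ v, ?_⟩
    rw [← map_mul, ← map_one (Ideal.Quotient.mk _), Ideal.Quotient.eq]
    exact ker_fiberι_app y hy (hUa i) (RingHom.mem_ker.2 (by rw [map_sub, map_mul, map_one, hv, sub_self]))
  choose c' hc1 hc2 hc3 using fun i => exists_root P (m.map (FormalFun.toSec (A := A) (U i))) n (c i) (hroot i) (hunit i)
  -- gluing
  have hmap : ∀ {V W : X.Opens} (h : W ≤ V) (I : Ideal A) (a : Γ(X, V)), a ∈ I.map (FormalFun.toSec (A := A) V) →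
      X.presheaf.map (homOfLE h).op a ∈ I.map (FormalFun.toSec (A := A) W) := by
    intro V W h I a ha
    have h2 := Ideal.mem_map_of_mem (X.presheaf.map (homOfLE h).op).hom ha
    rw [Ideal.map_map, show (X.presheaf.map (homOfLE h).op).hom.comp (FormalFun.toSec (A := A) V) =
      FormalFun.toSec W from RingHom.ext fun b => toSec_res h b] at h2
    exact h2
  have hcc' : ∀ i j, X.presheaf.map (homOfLE (inf_le_left : U i ⊓ U j ≤ U i)).op (c' i) -
      X.presheaf.map (homOfLE (inf_le_right : U i ⊓ U j ≤ U j)).op (c' j) ∈ J.map (FormalFun.toSec (A := A) (U i ⊓ U j)) := by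
    intro i j
    let W := U i ⊓ U j
    let r₁ := X.presheaf.map (homOfLE (inf_le_left : W ≤ U i)).op
    let r₂ := X.presheaf.map (homOfLE (inf_le_right : W ≤ U j)).op
    let I := m.map (FormalFun.toSec (A := A) W)
    have hev' : ∀ {V : X.Opens} (h : W ≤ V) (a : Γ(X, V)) (S : Polynomial A),
        Polynomial.aeval (X.presheaf.map (homOfLE h).op a) S = X.presheaf.map (homOfLE h).op (Polynomial.aeval a S) :=
      fun h a S => by
        rw [Polynomial.aeval_def, Polynomial.aeval_def, Polynomial.hom_eval₂]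
        congr 1
        exact RingHom.ext fun b => (toSec_res h b).symm
    have hI : Polynomial.aeval (r₁ (c i)) P ∈ I := by
      rw [hev']; exact hmap _ _ _ (hroot i)
    have hI' : IsUnit (Ideal.Quotient.mk I (Polynomial.aeval (r₁ (c i)) (Polynomial.derivative P))) := by
      obtain ⟨v, hv⟩ := isUnit_iff_exists_inv.1 (hunit i)
      obtain ⟨v, rfl⟩ := Ideal.Quotient.mk_surjective v
      rw [← map_mul, ← map_one (Ideal.Quotient.mk _), Ideal.Quotient.eq] at hv
      refine isUnit_iff_exists_inv.2 ⟨Ideal.Quotient.mk I (r₁ v), ?_⟩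
      rw [hev', ← map_mul, ← map_one (Ideal.Quotient.mk I), Ideal.Quotient.eq, ← map_mul, ← map_one r₁.hom, ← map_sub]
      exact hmap _ _ _ hv
    obtain ⟨d, -, -, hd⟩ := exists_root P I n (r₁ (c i)) hI hI'
    have hJ : J.map (FormalFun.toSec (A := A) W) = I ^ (n + 1) := Ideal.map_pow _ _ _
    have hpow : ∀ l, Polynomial.aeval (c' l) P ∈ J.map (FormalFun.toSec (A := A) (U l)) := fun l => by
      rw [show J.map (FormalFun.toSec (A := A) (U l)) = m.map (FormalFun.toSec (A := A) (U l)) ^ (n + 1) from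
        Ideal.map_pow _ _ _]
      exact hc2 l
    have hd1 := hd (r₁ (c' i)) (by rw [← map_sub]; exact hmap _ _ _ (hc1 i))
      (by rw [← hJ, hev']; exact hmap _ _ _ (hpow i))
    have hd2 := hd (r₂ (c' j)) (by
        have h1 : r₂ (c' j) - r₂ (c j) ∈ I := by rw [← map_sub]; exact hmap _ _ _ (hc1 j)
        have h2 : r₁ (c i) - r₂ (c j) ∈ I := hcc i j
        have := sub_mem h1 h2
        rwa [sub_sub_sub_cancel_right] at this)
      (by rw [← hJ, hev']; exact hmap _ _ _ (hpow j))
    rw [hJ]
    have := sub_mem hd1 hd2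
    rwa [sub_sub_sub_cancel_right] at this
  obtain ⟨z', hz', -⟩ := TopCat.Sheaf.existsUnique_gluing' (⟨Tn.presheaf, Tn.isSheaf⟩ : TopCat.Sheaf _ _) U ⊤
    (fun i => homOfLE le_top) hcov.ge (fun i => red J (U i) (c' i)) (fun i j => by
      have h := (red_eq_zero_iff J (hUab i j) _).2 (hcc' i j)
      rw [red_sub, sub_eq_zero, ← red_res, ← red_res] at h
      exact h)
  refine ⟨z', TopCat.Sheaf.eq_of_locally_eq' ⟨T1.presheaf, T1.isSheaf⟩ U ⊤ (fun i => homOfLE le_top) hcov.ge _ _
    fun i => ?_⟩
  let φ : Tn ⟶ T1 := (CohIII.tensorAFunctor A (Coh.structureModule X)).map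
    (ModuleCat.ofHom (Submodule.factor (Ideal.pow_le_self (Nat.succ_ne_zero n))))
  show T1.presheaf.map _ (φ.app ⊤ z') = T1.presheaf.map _ z
  rw [← QCohLib.app_map φ (le_top : U i ≤ ⊤) z']
  refine (congrArg (φ.app (U i)) (hz' i)).trans ((red_map _ (U i) (c' i)).trans (Eq.trans ?_ (hc i)))
  rw [← sub_eq_zero, ← red_sub, red_eq_zero_iff m (hUa i)]
  exact hc1 i

/-- Cohomological flatness in degree zero. -/
theorem preserves_mono_epi [IsProper f] [Flat f]
    (hfl : FlatMod.IsFlatOver f (Coh.structureModule X)) (hF : Coh.IsCoh (Coh.structureModule X))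
    (het : Algebra.Etale ((Spec (CommRingCat.of A)).residueField y) Γ(Scheme.Hom.fiber f y, ⊤)) :
    (CohIII.tensorAFunctor A (Coh.structureModule X) ⋙ CohIII.HAb X 0).PreservesMonomorphisms ∧
      (CohIII.tensorAFunctor A (Coh.structureModule X) ⋙ CohIII.HAb X 0).PreservesEpimorphisms := by
  haveI : X.IsSeparated := ⟨by rw [← terminal.comp_from f]; infer_instance⟩
  haveI : CompactSpace X := QuasiCompact.compactSpace_of_compactSpace f
  obtain ⟨Q, hQ, ⟨Φ⟩⟩ := exists_gamma_corep (Coh.structureModule X) hF hfl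
  haveI := hQ
  let T := CohIII.tensorAFunctor A (Coh.structureModule X) ⋙ CohIII.globalSectionsA A
  let e : ∀ M : ModuleCat.{u} A, T.obj M ≃ₗ[A] (Q →ₗ[A] M) := fun M =>
    (Φ.app M).toLinearEquiv ≪≫ₗ ModuleCat.homLinearEquiv
  have hnat : ∀ {M N : ModuleCat.{u} A} (g : M ⟶ N) (x : T.obj M), e N ((T.map g).hom x) = g.hom ∘ₗ e M x :=
    fun g x => congrArg ModuleCat.Hom.hom (ConcreteCategory.congr_hom (Φ.hom.naturality g) x)
  haveI : Module.Free A Q := free_of_lifts fun n h => by
    obtain ⟨z', hz'⟩ := exists_lift y hy het n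
      ((e (ModuleCat.of A (A ⧸ IsLocalRing.maximalIdeal A))).symm h)
    refine ⟨e (ModuleCat.of A (A ⧸ IsLocalRing.maximalIdeal A ^ (n + 1))) z', fun q => ?_⟩
    have h2 := hnat (ModuleCat.ofHom (Submodule.factor (Ideal.pow_le_self (Nat.succ_ne_zero n))) :
          ModuleCat.of A (A ⧸ IsLocalRing.maximalIdeal A ^ (n + 1)) ⟶ ModuleCat.of A (A ⧸ IsLocalRing.maximalIdeal A)) z'
    rw [show (T.map _).hom z' = _ from hz', LinearEquiv.apply_symm_apply] at h2
    exact (LinearMap.congr_fun h2 q).symm
  haveI : Module.Projective A Q := inferInstance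
  have key : ∀ {M N : ModuleCat.{u} A} (g : M ⟶ N) (x : Coh.HH X ((CohIII.tensorAFunctor A _).obj M) 0),
      e N (hhGamma _ ((CohIII.tensorAFunctor A (Coh.structureModule X) ⋙ CohIII.HAb X 0).map g x)) =
        g.hom ∘ₗ e M (hhGamma _ x) := fun g x =>
    (congrArg (e _) (hhGamma_natural _ x)).trans (hnat g _)
  constructor
  · refine ⟨fun {M N} g _ => (AddCommGrpCat.mono_iff_injective _).2 fun a b h => ?_⟩
    apply (hhGamma (A := A) _).injective
    apply (e M).injective
    refine LinearMap.ext fun q => (ModuleCat.mono_iff_injective g).1 inferInstance ?_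
    have := LinearMap.congr_fun ((key g a).symm.trans ((congrArg (fun w => e N (hhGamma _ w)) h).trans (key g b))) q
    exact this
  · refine ⟨fun {M N} g _ => (AddCommGrpCat.epi_iff_surjective _).2 fun w => ?_⟩
    obtain ⟨h, hh⟩ := Module.projective_lifting_property g.hom (e N (hhGamma _ w))
      ((ModuleCat.epi_iff_surjective g).1 inferInstance)
    refine ⟨(hhGamma (A := A) _).symm ((e M).symm h), (hhGamma (A := A) _).injective ((e N).injective ?_)⟩
    rw [key, LinearEquiv.apply_symm_apply, LinearEquiv.apply_symm_apply]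
    exact hh

end Groth.Agent.BCCx.EtaleFun
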