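import Groth.Agent.BCCx.BC
import Groth.Agent.BCCx.Transfer

/-!
# `H^p(X_y, F_y) = T^p(k(y))`
-/

set_option autoImplicit false
set_option linter.style.haveILetI false
set_option backward.isDefEq.respectTransparency false
universe u

open CategoryTheory CategoryTheory.Limits AlgebraicGeometry Opposite TopologicalSpace

namespace Groth.Agent.BCCx

variable {A : Type u} [CommRing A] {X : Scheme.{u}} [X.Over (Spec (CommRingCat.of A))]

theorem nonempty_fibreH [IsSeparated (X ↘ Spec (CommRingCat.of A))] [CompactSpace X] (F : X.Modules)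
    [F.IsQuasicoherent] (y : PrimeSpectrum A) (p : ℕ) :
    Nonempty (CohIII.fiberH (X ↘ Spec (CommRingCat.of A)) F y p ≃+
      (CohIII.tensorAFunctor A F ⋙ CohIII.HAb X p).obj (ModuleCat.of A y.asIdeal.ResidueField)) := by
  let f := X ↘ Spec (CommRingCat.of A)
  let k : Type u := (Spec (CommRingCat.of A)).residueField y
  let φ : CommRingCat.of A ⟶ (Spec (CommRingCat.of A)).residueField y :=
    CommRingCat.ofHom (algebraMap A y.asIdeal.ResidueField) ≫ (Scheme.Spec.residueFieldIso (CommRingCat.of A) y).inv
  have hφ : Spec.map φ = (Spec (CommRingCat.of A)).fromSpecResidueField y := by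
    rw [Spec.map_comp]
    exact Scheme.Spec.map_residueFieldIso_inv_eq_fromSpecResidueField (CommRingCat.of A) y
  letI : Algebra A k := φ.hom.toAlgebra
  let X' : Scheme.{u} := f.fiber y
  letI : X'.Over (Spec (CommRingCat.of k)) := ⟨f.fiberToSpecResidueField y⟩
  have hsq : IsPullback (f.fiberι y) (X' ↘ Spec (CommRingCat.of k)) f
      (Spec.map (CommRingCat.ofHom (algebraMap A k))) := by
    show IsPullback (pullback.fst f _) (pullback.snd f _) f (Spec.map φ)
    rw [hφ]
    exact IsPullback.of_hasPullback _ _
  obtain ⟨i⟩ := nonempty_bcT (A' := k) hsq F p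
  let G := (Scheme.Modules.pullback (f.fiberι y)).obj F
  let e₁ : Coh.HH X' G p ≃+ (CohIII.tensorAFunctor k G ⋙ CohIII.HAb X' p).obj (ModuleCat.of k k) :=
    ((CohIII.HAb X' p).mapIso (rho k G).symm).addCommGroupIsoToAddEquiv
  let e₂ := (i.app (ModuleCat.of k k)).addCommGroupIsoToAddEquiv
  let l : k ≃ₗ[A] y.asIdeal.ResidueField :=
    AddEquiv.toLinearEquiv (Scheme.Spec.residueFieldIso (CommRingCat.of A) y).commRingCatIsoToRingEquiv.toAddEquiv
      fun a x => by
        show (Scheme.Spec.residueFieldIso (CommRingCat.of A) y).hom (φ a * x) =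
          a • (Scheme.Spec.residueFieldIso (CommRingCat.of A) y).hom x
        rw [map_mul, Algebra.smul_def]
        congr 1
        exact Iso.inv_hom_id_apply (Scheme.Spec.residueFieldIso (CommRingCat.of A) y) _
  let w : (ModuleCat.restrictScalars (algebraMap A k)).obj (ModuleCat.of k k) ≅
      ModuleCat.of A y.asIdeal.ResidueField :=
    LinearEquiv.toModuleIso (X₁ := (ModuleCat.restrictScalars (algebraMap A k)).obj (ModuleCat.of k k))
      { l with map_smul' := fun a x => l.map_smul a (show k from x) }
  exact ⟨(e₁.trans e₂).trans ((CohIII.tensorAFunctor A F ⋙ CohIII.HAb X p).mapIso w).addCommGroupIsoToAddEquiv⟩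

variable (A) in
/-- The residue field at the closed point. -/
theorem nonempty_residue_closedPoint [IsLocalRing A] :
    Nonempty (ModuleCat.of A (IsLocalRing.closedPoint A).asIdeal.ResidueField ≅
      ModuleCat.of A (IsLocalRing.ResidueField A)) := by
  have : (IsLocalRing.closedPoint A).asIdeal.IsMaximal := IsLocalRing.maximalIdeal.isMaximal A
  have hs : Function.Surjective (Algebra.linearMap A (IsLocalRing.closedPoint A).asIdeal.ResidueField) :=
    Ideal.algebraMap_residueField_surjective _
  have hk : LinearMap.ker (Algebra.linearMap A (IsLocalRing.closedPoint A).asIdeal.ResidueField) =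
      IsLocalRing.maximalIdeal A := by
    ext a
    rw [LinearMap.mem_ker, Algebra.linearMap_apply, Ideal.algebraMap_residueField_eq_zero]
    rfl
  exact ⟨(((Algebra.linearMap A _).quotKerEquivOfSurjective hs).symm ≪≫ₗ
    Submodule.quotEquivOfEq _ _ hk).toModuleIso⟩

end Groth.Agent.BCCx
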