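import Groth.Agent.BCCx.FibreRank

/-!
# Fibre ranks over an affine base
-/

set_option autoImplicit false
set_option linter.style.haveILetI false
set_option backward.isDefEq.respectTransparency false
universe u

open CategoryTheory CategoryTheory.Limits AlgebraicGeometry Opposite

namespace Groth.Agent.BCCx

variable {A : Type u} [CommRing A] {X : Scheme.{u}} [X.Over (Spec (CommRingCat.of A))]

/-- `dim H^p(X_y, F_y) = dim H_q(L ⊗ k(y))` over an affine base. -/
theorem fiberRank_affine [IsSeparated (X ↘ Spec (CommRingCat.of A))] [CompactSpace X] (F : X.Modules)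
    [F.IsQuasicoherent] (p : ℕ) (L : ChainComplex (ModuleCat.{u} A) ℤ) (q : ℤ)
    (w : CohIII.tensorAFunctor A F ⋙ CohIII.HAb X p ≅
      CohIII.TFun L q ⋙ forget₂ (ModuleCat.{u} A) AddCommGrpCat.{u}) (y : PrimeSpectrum A) :
    CohIII.fiberRank (X ↘ Spec (CommRingCat.of A)) F p y = CohIII.dRank L q y := by
  let f := X ↘ Spec (CommRingCat.of A)
  let k : Type u := (Spec (CommRingCat.of A)).residueField y
  let j : y.asIdeal.ResidueField →+* k := (Scheme.Spec.residueFieldIso (CommRingCat.of A) y).inv.hom
  let φ : CommRingCat.of A ⟶ (Spec (CommRingCat.of A)).residueField y :=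
    CommRingCat.ofHom (algebraMap A y.asIdeal.ResidueField) ≫ (Scheme.Spec.residueFieldIso (CommRingCat.of A) y).inv
  have hφ : Spec.map φ = (Spec (CommRingCat.of A)).fromSpecResidueField y := by
    rw [Spec.map_comp]
    exact Scheme.Spec.map_residueFieldIso_inv_eq_fromSpecResidueField (CommRingCat.of A) y
  letI : Algebra A k := φ.hom.toAlgebra
  letI : Field k := inferInstanceAs (Field ((Spec (CommRingCat.of A)).residueField y))
  letI : Algebra y.asIdeal.ResidueField k := j.toAlgebra
  let X' : Scheme.{u} := f.fiber y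
  letI : X'.Over (Spec (CommRingCat.of k)) := ⟨f.fiberToSpecResidueField y⟩
  have hsq : IsPullback (f.fiberι y) (X' ↘ Spec (CommRingCat.of k)) f
      (Spec.map (CommRingCat.ofHom (algebraMap A k))) := by
    show IsPullback (pullback.fst f _) (pullback.snd f _) f (Spec.map φ)
    rw [hφ]
    exact IsPullback.of_hasPullback _ _
  refine (finrank_HH_bc (A := A) (K := k) hsq F p L q w).trans ?_
  exact TFun.finrank_homology_factor L (κ := y.asIdeal.ResidueField) (κ' := k)
    (algebraMap A y.asIdeal.ResidueField) q

end Groth.Agent.BCCx
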