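import Groth.Agent.BCCx.ChartExact
import Groth.Agent.TFun.Rank2

/-!
# `dim H^p(X_y, F_y) = dim H_q(L ⊗ k(y))`
-/

set_option autoImplicit false
set_option linter.style.haveILetI false
set_option backward.isDefEq.respectTransparency false
universe u

open CategoryTheory CategoryTheory.Limits AlgebraicGeometry Opposite TensorProduct
open scoped MonoidalCategory

namespace Groth.Agent.BCCx

section generic

variable {A K : Type u} [CommRing A] [CommRing K] [Algebra A K] {X X' : Scheme.{u}}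
  [X.Over (Spec (CommRingCat.of A))] [X'.Over (Spec (CommRingCat.of K))] {g : X' ⟶ X}

/-- A natural map `T^p ⟶ C ⊗ -` gives a linear map on `T'^p(K)`. -/
theorem exists_linearMap_bc [IsSeparated (X ↘ Spec (CommRingCat.of A))] [CompactSpace X]
    (hsq : IsPullback g (X' ↘ Spec (CommRingCat.of K)) (X ↘ Spec (CommRingCat.of A))
      (Spec.map (CommRingCat.ofHom (algebraMap A K))))
    (F : X.Modules) [F.IsQuasicoherent] (p : ℕ) (C : ModuleCat.{u} A)
    (ν : CohIII.tensorAFunctor A F ⋙ CohIII.HAb X p ⟶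
      MonoidalCategory.tensorLeft C ⋙ forget₂ (ModuleCat.{u} A) AddCommGrpCat.{u}) :
    ∃ (ψ : Coh.HH X' ((Scheme.Modules.pullback g).obj F) p →ₗ[K] K ⊗[A] C)
      (e : Coh.HH X' ((Scheme.Modules.pullback g).obj F) p ≃+
        (CohIII.tensorAFunctor A F ⋙ CohIII.HAb X p).obj
          ((ModuleCat.restrictScalars (algebraMap A K)).obj (ModuleCat.of K K)))
      (c : C ⊗[A] ((ModuleCat.restrictScalars (algebraMap A K)).obj (ModuleCat.of K K)) ≃+ K ⊗[A] C),
      (∀ (m : C) (k : K), c (m ⊗ₜ k) = k ⊗ₜ m) ∧ ∀ x, ψ x = c ((ν.app _) (e x)) := by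
  obtain ⟨i⟩ := nonempty_bcT hsq F p
  let G := (Scheme.Modules.pullback g).obj F
  let ρ := ModuleCat.restrictScalars.{u} (algebraMap A K)
  let R := ρ.obj (ModuleCat.of K K)
  let Φ₀ : Coh.HH X' G p ≃+ (CohIII.tensorAFunctor K G ⋙ CohIII.HAb X' p).obj (ModuleCat.of K K) :=
    ((CohIII.HAb X' p).mapIso (rho K G).symm).addCommGroupIsoToAddEquiv
  have h0 : ∀ (a : K) (x : Coh.HH X' G p), Φ₀ (a • x) =
      (CohIII.tensorAFunctor K G ⋙ CohIII.HAb X' p).map (a • 𝟙 (ModuleCat.of K K)) (Φ₀ x) := fun a x => by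
    show (CohIII.HAb X' p).map (rho K G).inv ((CohIII.HAb X' p).map (Formal.smulMod K G a) x) =
      (CohIII.HAb X' p).map ((CohIII.tensorAFunctor K G).map (a • 𝟙 (ModuleCat.of K K)))
        ((CohIII.HAb X' p).map (rho K G).inv x)
    rw [← ConcreteCategory.comp_apply, ← ConcreteCategory.comp_apply, ← Functor.map_comp, ← Functor.map_comp,
      FormalFun.smulMod_natural]
    exact congrArg (fun φ => (CohIII.HAb X' p).map ((rho K G).inv ≫ φ) x) (TA_map_smul K G (ModuleCat.of K K) a).symm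
  let e : Coh.HH X' G p ≃+ (CohIII.tensorAFunctor A F ⋙ CohIII.HAb X p).obj R :=
    Φ₀.trans (i.app (ModuleCat.of K K)).addCommGroupIsoToAddEquiv
  have h1 : ∀ (a : K) (x : Coh.HH X' G p), (ν.app R) (e (a • x)) =
      (ρ.map (a • 𝟙 (ModuleCat.of K K))).hom.lTensor C ((ν.app R) (e x)) := fun a x => by
    show (ν.app R) ((i.hom.app _) (Φ₀ (a • x))) = _
    rw [h0]
    exact (congrArg (ν.app R) (ConcreteCategory.congr_hom (i.hom.naturality (a • 𝟙 (ModuleCat.of K K))) (Φ₀ x))).trans
      (ConcreteCategory.congr_hom (ν.naturality (ρ.map (a • 𝟙 (ModuleCat.of K K)))) _)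
  let r : R ≃ₗ[A] K :=
    { toFun := fun x => x, invFun := fun x => x, map_add' := fun _ _ => rfl,
      map_smul' := fun a x => (Algebra.smul_def a (show K from x)).symm }
  let c : C ⊗[A] R ≃+ K ⊗[A] C :=
    ((TensorProduct.congr (LinearEquiv.refl A C) r).trans (TensorProduct.comm A C K)).toAddEquiv
  have h2 : ∀ (a : K) (z : C ⊗[A] R), c ((ρ.map (a • 𝟙 (ModuleCat.of K K))).hom.lTensor C z) = a • c z := by
    intro a z
    induction z using TensorProduct.induction_on with
    | zero => simp only [map_zero, smul_zero]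
    | tmul h k => rfl
    | add y z hy hz => simp only [map_add, smul_add, hy, hz]
  refine ⟨{ toFun := fun x => c ((ν.app R) (e x)), map_add' := fun x y => ?_, map_smul' := fun a x => ?_ }, e, c,
    fun _ _ => rfl, fun _ => rfl⟩
  · exact (congrArg c ((congrArg (ν.app R) (map_add e x y)).trans (map_add _ _ _))).trans (map_add c _ _)
  · exact (congrArg c (h1 a x)).trans (h2 a _)

end generic

variable {A : Type u} [CommRing A]

/-- Cohomology of the base change is the homology of the base-changed complex, in dimension. -/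
theorem finrank_HH_bc {K : Type u} [CommRing K] [Algebra A K] {X X' : Scheme.{u}}
    [X.Over (Spec (CommRingCat.of A))] [X'.Over (Spec (CommRingCat.of K))] {g : X' ⟶ X}
    [IsSeparated (X ↘ Spec (CommRingCat.of A))] [CompactSpace X]
    (hsq : IsPullback g (X' ↘ Spec (CommRingCat.of K)) (X ↘ Spec (CommRingCat.of A))
      (Spec.map (CommRingCat.ofHom (algebraMap A K))))
    (F : X.Modules) [F.IsQuasicoherent] (p : ℕ) (L : ChainComplex (ModuleCat.{u} A) ℤ) (q : ℤ)
    (w : CohIII.tensorAFunctor A F ⋙ CohIII.HAb X p ≅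
      CohIII.TFun L q ⋙ forget₂ (ModuleCat.{u} A) AddCommGrpCat.{u}) :
    Module.finrank K (Coh.HH X' ((Scheme.Modules.pullback g).obj F) p) =
      Module.finrank K ((CohIII.bcCx (algebraMap A K) L).homology q) := by
  let C : ModuleCat.{u} A := ModuleCat.of A (TFun.coker L (q + 1) q)
  let μ : CohIII.TFun L q ⟶ MonoidalCategory.tensorLeft C :=
    { app := fun M => ModuleCat.ofHom (TFun.tι L (r := q + 1) rfl M)
      naturality := fun M M' g => ModuleCat.hom_ext (LinearMap.ext fun x => TFun.tι_natural L rfl g x) }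
  let ν := w.hom ≫ Functor.whiskerRight μ (forget₂ (ModuleCat.{u} A) AddCommGrpCat.{u})
  obtain ⟨ψ, e, c, hc, hψ⟩ := exists_linearMap_bc hsq F p C ν
  let R := (ModuleCat.restrictScalars (algebraMap A K)).obj (ModuleCat.of K K)
  have hb := ConcreteCategory.bijective_of_isIso (w.hom.app R)
  have hinj : Function.Injective ψ := fun x y h => by
    rw [hψ, hψ] at h
    exact e.injective (hb.1 (TFun.tι_injective L rfl R (c.injective h)))
  have hcomm : ∀ z, (TFun.toPred L (q + 1) q (q - 1)).baseChange K (c z) =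
      (TensorProduct.comm A _ _).toLinearMap ((LinearMap.lTensor _ (show R →ₗ[A] K from
        { toFun := fun x => x, map_add' := fun _ _ => rfl,
          map_smul' := fun a x => (Algebra.smul_def a (show K from x)).symm }))
        ((TFun.toPred L (q + 1) q (q - 1)).rTensor R z)) := by
    intro z
    induction z using TensorProduct.induction_on with
    | zero => simp only [map_zero]
    | tmul m k =>
      rw [hc m k]
      rfl
    | add y z hy hz => simp only [map_add, hy, hz]
  have hr : LinearMap.range ψ = LinearMap.ker ((TFun.toPred L (q + 1) q (q - 1)).baseChange K) := by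
    apply le_antisymm
    · rintro _ ⟨x, rfl⟩
      rw [LinearMap.mem_ker, hψ, hcomm]
      have h0 : (TFun.toPred L (q + 1) q (q - 1)).rTensor R ((ν.app R) (e x)) = 0 :=
        (TFun.tι_exact L rfl (sub_add_cancel q 1) R).apply_apply_eq_zero _
      rw [h0, map_zero, map_zero]
    · intro z hz
      obtain ⟨z, rfl⟩ := c.surjective z
      rw [LinearMap.mem_ker, hcomm] at hz
      have hz0 : (TFun.toPred L (q + 1) q (q - 1)).rTensor R z = 0 := by
        let l : R ≃ₗ[A] K :=
          { toFun := fun x => x, invFun := fun x => x, map_add' := fun _ _ => rfl,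
            map_smul' := fun a x => (Algebra.smul_def a (show K from x)).symm }
        refine ((TensorProduct.congr (LinearEquiv.refl A (L.X (q - 1))) l).trans
          (TensorProduct.comm A _ _)).injective ?_
        rw [map_zero]
        exact hz
      obtain ⟨t, ht⟩ := (TFun.tι_exact L rfl (sub_add_cancel q 1) R z).1 hz0
      obtain ⟨s, hs⟩ := hb.2 t
      obtain ⟨x, rfl⟩ := e.surjective s
      refine ⟨x, ?_⟩
      rw [hψ, ← ht, ← hs]
      rfl
  obtain ⟨ι, hι, hex⟩ := TFun.exists_bcι L K (r := q + 1) rfl (sub_add_cancel q 1)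
  exact ((LinearEquiv.ofInjective ψ hinj).trans ((LinearEquiv.ofEq _ _ (hr.trans hex.linearMap_ker_eq)).trans
    (LinearEquiv.ofInjective ι hι).symm)).finrank_eq

variable {X Y : Scheme.{u}} (f : X ⟶ Y) {V : Y.Opens}

theorem primeIdealOf_asIdeal (hV : IsAffineOpen V) (y : Y) (hy : y ∈ V) :
    (hV.primeIdealOf ⟨y, hy⟩).asIdeal = RingHom.ker (toK y hy).hom := by
  ext s
  have h1 : hV.primeIdealOf ⟨y, hy⟩ ∈ PrimeSpectrum.basicOpen s ↔ y ∈ Y.basicOpen s := by
    rw [← hV.fromSpec_preimage_basicOpen]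
    show hV.fromSpec (hV.primeIdealOf ⟨y, hy⟩) ∈ Y.basicOpen s ↔ _
    rw [hV.fromSpec_primeIdealOf]
  rw [PrimeSpectrum.mem_basicOpen, Y.mem_basicOpen s y hy] at h1
  rw [← not_iff_not, h1, RingHom.mem_ker]
  exact (IsLocalRing.residue_ne_zero_iff_isUnit _).symm

/-- Fibre ranks on a chart. -/
theorem fiberRank_eq_dRank [IsSeparated f] [QuasiCompact f] (F : X.Modules) [F.IsQuasicoherent]
    (hV : IsAffineOpen V) (y : Y) (hy : y ∈ V) (p : ℕ) (L : ChainComplex (ModuleCat.{u} Γ(Y, V)) ℤ) (q : ℤ)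
    (w : letI : (f ⁻¹ᵁ V).toScheme.Over (Spec (CommRingCat.of Γ(Y, V))) := ⟨HigherDirect.overSec f hV⟩
      CohIII.tensorAFunctor Γ(Y, V) (F.restrict (f ⁻¹ᵁ V).ι) ⋙ CohIII.HAb (f ⁻¹ᵁ V).toScheme p ≅
        CohIII.TFun L q ⋙ forget₂ (ModuleCat.{u} Γ(Y, V)) AddCommGrpCat.{u}) :
    CohIII.fiberRank f F p y = CohIII.dRank L q (hV.primeIdealOf ⟨y, hy⟩) := by
  letI : (f ⁻¹ᵁ V).toScheme.Over (Spec (CommRingCat.of Γ(Y, V))) := ⟨HigherDirect.overSec f hV⟩
  haveI : IsAffine V.toScheme := hV
  haveI : CompactSpace (f ⁻¹ᵁ V).toScheme := QuasiCompact.compactSpace_of_compactSpace (f ∣_ V)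
  haveI : IsSeparated (f ∣_ V) := MorphismProperty.of_isPullback (isPullback_morphismRestrict f V).flip ‹_›
  haveI : IsSeparated ((f ⁻¹ᵁ V).toScheme ↘ Spec (CommRingCat.of Γ(Y, V))) := by
    show IsSeparated ((f ∣_ V) ≫ hV.isoSpec.hom); infer_instance
  haveI : (F.restrict (f ⁻¹ᵁ V).ι).IsQuasicoherent :=
    have := QCohLib.isQuasicoherent_pullback (f ⁻¹ᵁ V).ι F
    QCohLib.isQuasicoherent_of_iso ((Scheme.Modules.restrictFunctorIsoPullback (f ⁻¹ᵁ V).ι).app F).symm
  obtain ⟨g, hg, hsq⟩ := exists_fiber_square f hV y hy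
  letI : (f.fiber y).Over (Spec (CommRingCat.of (Y.residueField y : Type u))) := ⟨f.fiberToSpecResidueField y⟩
  letI : Algebra Γ(Y, V) (Y.residueField y) := (toK y hy).hom.toAlgebra
  let m : (Scheme.Modules.pullback g).obj (F.restrict (f ⁻¹ᵁ V).ι) ≅ CohIII.fiberMod f F y :=
    (Scheme.Modules.pullback g).mapIso ((Scheme.Modules.restrictFunctorIsoPullback (f ⁻¹ᵁ V).ι).app F) ≪≫
      (Scheme.Modules.pullbackComp g (f ⁻¹ᵁ V).ι).app F ≪≫ (Scheme.Modules.pullbackCongr hg).app F
  let x := hV.primeIdealOf ⟨y, hy⟩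
  have hker : x.asIdeal = RingHom.ker (toK y hy).hom := primeIdealOf_asIdeal hV y hy
  have h₂ : x.asIdeal.primeCompl ≤ (IsUnit.submonoid (Y.residueField y : Type u)).comap (toK y hy).hom :=
    fun a ha => by
      simp only [Submonoid.mem_comap, IsUnit.mem_submonoid_iff, isUnit_iff_ne_zero, ne_eq, ← RingHom.mem_ker, ← hker]
      exact ha
  let j : x.asIdeal.ResidueField →+* (Y.residueField y : Type u) :=
    Ideal.ResidueField.lift x.asIdeal (toK y hy).hom hker.le h₂
  letI : Algebra x.asIdeal.ResidueField (Y.residueField y : Type u) := j.toAlgebra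
  have hcomp : (algebraMap x.asIdeal.ResidueField (Y.residueField y : Type u)).comp
      (algebraMap Γ(Y, V) x.asIdeal.ResidueField) = algebraMap Γ(Y, V) (Y.residueField y : Type u) :=
    RingHom.ext fun a => Ideal.ResidueField.lift_algebraMap x.asIdeal (toK y hy).hom hker.le h₂ a
  rw [CohIII.fiberRank, ← (HigherDirect.hhIso (A := (Y.residueField y : Type u)) m p).finrank_eq,
    finrank_HH_bc (A := Γ(Y, V)) (K := (Y.residueField y : Type u)) (X' := f.fiber y) hsq
      (F.restrict (f ⁻¹ᵁ V).ι) p L q w, ← hcomp,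
    TFun.finrank_homology_factor L (algebraMap Γ(Y, V) x.asIdeal.ResidueField) q]
  rfl

end Groth.Agent.BCCx
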