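import Groth.Agent.BCCx.Cech
import Groth.Agent.FlatDescent.Sheaf
import Groth.Agent.FlatDescent.Global
import Groth.Prelude.Def_FlatMod2

/-!
# Flatness of sections over affine opens
-/

set_option autoImplicit false
set_option linter.style.haveILetI false
set_option backward.isDefEq.respectTransparency false
universe u

open CategoryTheory CategoryTheory.Limits AlgebraicGeometry Opposite TopologicalSpace

namespace Groth.Agent.BCCx

open Groth.Agent.CechCmp

variable {A : Type u} [CommRing A] {X : Scheme.{u}} [X.Over (Spec (CommRingCat.of A))] (F : X.Modules)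

theorem flat_sections [F.IsQuasicoherent] (hfl : FlatMod.IsFlatOver (X ↘ Spec (CommRingCat.of A)) F)
    {U : X.Opens} (hU : IsAffineOpen U) : Module.Flat A ((rsh A F).F.obj.obj (op U)) := by
  let f := X ↘ Spec (CommRingCat.of A)
  have e : U ≤ f ⁻¹ᵁ ⊤ := le_top
  let ψ := (f.appLE ⊤ U e).hom
  letI : Algebra Γ(Spec (CommRingCat.of A), ⊤) Γ(X, U) := ψ.toAlgebra
  letI : Module Γ(Spec (CommRingCat.of A), ⊤) Γ(F, U) := FlatDescent.appLEModule f F ⊤ U e
  haveI : IsScalarTower Γ(Spec (CommRingCat.of A), ⊤) Γ(X, U) Γ(F, U) :=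
    IsScalarTower.of_algebraMap_smul fun _ _ => rfl
  have hflat : Module.Flat Γ(Spec (CommRingCat.of A), ⊤) Γ(F, U) := by
    refine FlatDescent.flat_of_flatAt (P := Γ(X, U)) fun Q hQ => ?_
    obtain ⟨x, hx⟩ : ∃ x : U, hU.primeIdealOf x = ⟨Q, hQ.isPrime⟩ :=
      ⟨hU.isoSpec.inv ⟨Q, hQ.isPrime⟩, congrArg (fun g => g.base ⟨Q, hQ.isPrime⟩) hU.isoSpec.inv_hom_id⟩
    have := (FlatDescent.isFlatOverAt_iff f F (isAffineOpen_top _) hU e x.2).1 (hfl x.1)
    rw [hx] at this
    exact this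
  let ι : A →+* Γ(Spec (CommRingCat.of A), ⊤) := (Scheme.ΓSpecIso (CommRingCat.of A)).inv.hom
  letI : Algebra A Γ(Spec (CommRingCat.of A), ⊤) := ι.toAlgebra
  have hbij : Function.Bijective ι := ConcreteCategory.bijective_of_isIso (Scheme.ΓSpecIso (CommRingCat.of A)).inv
  haveI : Module.Flat A Γ(Spec (CommRingCat.of A), ⊤) :=
    Module.Flat.of_linearEquiv (LinearEquiv.ofBijective (Algebra.linearMap A _) hbij).symm
  letI : Module A Γ(F, U) := (rsh A F).moduleSec U
  haveI : IsScalarTower A Γ(Spec (CommRingCat.of A), ⊤) Γ(F, U) := IsScalarTower.of_algebraMap_smul fun a m => rfl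
  haveI := hflat
  exact Module.Flat.trans A Γ(Spec (CommRingCat.of A), ⊤) Γ(F, U)

theorem flat_cx {ι : Type u} [DecidableEq ι] [Fintype ι] [F.IsQuasicoherent]
    (hfl : FlatMod.IsFlatOver (X ↘ Spec (CommRingCat.of A)) F) (U : ι → X.Opens)
    (hU : ∀ s : Finset ι, s.Nonempty → IsAffineOpen (RSh.meetOpen U s)) (i : ℤ) :
    Module.Flat A ((cx (sysOf (A := A) U F)).X i) := by
  classical
  cases i with
  | ofNat n =>
    haveI : ∀ σ : Fin (n + 1) → ι, Module.Flat A ((sysOf (A := A) U F).obj (img σ)) := fun σ =>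
      flat_sections F hfl (hU _ ⟨_, mem_img σ 0⟩)
    exact Module.Flat.of_linearEquiv (DFinsupp.linearEquivFunOnFintype (R := A)
      (M := fun σ : Fin (n + 1) → ι => (sysOf (A := A) U F).obj (img σ))).symm
  | negSucc n =>
    exact inferInstanceAs (Module.Flat A PUnit.{u + 1})

end Groth.Agent.BCCx
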