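import Groth.Agent.ModGroth.LocBasisHom
import Groth.Agent.ModGroth.StalkBasis
import Groth.Agent.ModGroth.SheafHomExact
import Groth.Agent.QCohLib.Basic

/-!
# Inverse image of the internal hom
-/

set_option autoImplicit false
set_option backward.isDefEq.respectTransparency false
set_option maxHeartbeats 1000000
set_option linter.style.haveILetI false
universe u

open CategoryTheory CategoryTheory.Limits Opposite AlgebraicGeometry TopologicalSpace MonoidalCategory
open scoped TensorProduct

namespace Groth.Agent.BCCx.HomBC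

open Groth.Agent.ModGroth Groth.Agent.ModGroth.LocBasis Groth.Agent.ModGroth.Stalk

section site

variable {C : Type u} [SmallCategory C] {J : GrothendieckTopology C} {O : Sheaf J CommRingCat.{u}}
  (F G : ModSite.Mod O) [ModSite.HasSheafHom F] {U : C}

theorem evSec_smul_left (c : O.obj.obj (op U)) (s : ((fg O).obj ((ModSite.sheafHom F).obj G)).obj (op U))
    (x : ((fg O).obj F).obj (op U)) : evSec F G (c • s) x = c • evSec F G s x :=
  (congrArg _ (TensorProduct.smul_tmul' c s x).symm).trans (map_smul _ _ _)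

theorem evSec_smul_right (c : O.obj.obj (op U)) (s : ((fg O).obj ((ModSite.sheafHom F).obj G)).obj (op U))
    (x : ((fg O).obj F).obj (op U)) : evSec F G s (c • x) = c • evSec F G s x :=
  (congrArg _ (TensorProduct.tmul_smul c s x)).trans (map_smul _ _ _)

theorem evSec_add_left (s t : ((fg O).obj ((ModSite.sheafHom F).obj G)).obj (op U))
    (x : ((fg O).obj F).obj (op U)) : evSec F G (s + t) x = evSec F G s x + evSec F G t x :=
  (congrArg _ (TensorProduct.add_tmul s t x)).trans (map_add _ _ _)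

theorem evSec_add_right (s : ((fg O).obj ((ModSite.sheafHom F).obj G)).obj (op U))
    (x y : ((fg O).obj F).obj (op U)) : evSec F G s (x + y) = evSec F G s x + evSec F G s y :=
  (congrArg _ (TensorProduct.tmul_add s x y)).trans (map_add _ _ _)

end site

variable {X X' : Scheme.{u}} (g : X' ⟶ X) (F G : X.Modules)

/-- The internal hom. -/
noncomputable abbrev hom₂ (F G : X.Modules) : X.Modules :=
  haveI := hasSheafHom (O := X.sheaf) F
  (ModSite.sheafHom (O := X.sheaf) F).obj G

/-- Evaluation on sections. -/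
noncomputable def ev {U : X.Opens} (s : Γ(hom₂ F G, U)) (x : Γ(F, U)) : Γ(G, U) :=
  haveI := hasSheafHom (O := X.sheaf) F
  evSec (O := X.sheaf) F G s x

/-- Inverse image of a section. -/
noncomputable def pull (M : X.Modules) {U : X.Opens} (m : Γ(M, U)) :
    Γ((Scheme.Modules.pullback g).obj M, g ⁻¹ᵁ U) := pSec g M m

/-- `g^*(H ⊗ F) ⟶ g^*G`, precomposed with the comparison. -/
noncomputable def evPull :
    ((DCoh.tensorBi (X := X')).obj ((Scheme.Modules.pullback g).obj (hom₂ F G))).obj
        ((Scheme.Modules.pullback g).obj F) ⟶ (Scheme.Modules.pullback g).obj G :=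
  haveI := hasSheafHom (O := X.sheaf) F
  @inv _ _ _ _ (mu g (hom₂ F G) F) (isIso_mu g (hom₂ F G) F) ≫ (Scheme.Modules.pullback g).map ((ModSite.sheafHomAdj (O := X.sheaf) F).counit.app G)

/-- The comparison `g^*Hom(F, G) ⟶ Hom(g^*F, g^*G)`. -/
noncomputable def cmp : (Scheme.Modules.pullback g).obj (hom₂ F G) ⟶
    hom₂ ((Scheme.Modules.pullback g).obj F) ((Scheme.Modules.pullback g).obj G) :=
  haveI := hasSheafHom (O := X'.sheaf) ((Scheme.Modules.pullback g).obj F)
  (ModSite.sheafHomAdj (O := X'.sheaf) ((Scheme.Modules.pullback g).obj F)).homEquiv _ _ (evPull g F G)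

/-- Evaluating the inverse image. -/
theorem ev_cmp {U : X.Opens} (s : Γ(hom₂ F G, U)) (x : Γ(F, U)) :
    ev _ _ ((cmp g F G).app (g ⁻¹ᵁ U) (pull g _ s)) (pull g F x) = pull g G (ev F G s x) := by
  haveI := hasSheafHom (O := X.sheaf) F
  let F' := (Scheme.Modules.pullback g).obj F
  let G' := (Scheme.Modules.pullback g).obj G
  haveI := hasSheafHom (O := X'.sheaf) F'
  let adj' := ModSite.sheafHomAdj (O := X'.sheaf) F'
  let H := hom₂ F G
  let κ := (ModSite.sheafHomAdj (O := X.sheaf) F).counit.app G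
  have hc : (tR (O := X'.sheaf) F').map (cmp g F G) ≫ adj'.counit.app G' = evPull g F G :=
    (adj'.homEquiv_counit (X := (Scheme.Modules.pullback g).obj H) (g := cmp g F G)).symm.trans
      ((adj'.homEquiv _ _).symm_apply_apply _)
  have hbeta : (fg X'.sheaf).map (cmp g F G) ▷ (fg X'.sheaf).obj F' ≫ beta (O := X'.sheaf) F' G' =
      eta' (O := X'.sheaf) _ ≫ (fg X'.sheaf).map (evPull g F G) := by
    rw [beta, ← Category.assoc, eta'_naturality, Category.assoc]
    exact congrArg (eta' _ ≫ ·) (((fg X'.sheaf).map_comp _ _).symm.trans (congrArg (fg X'.sheaf).map hc))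
  have h1 := congrArg (fun z : ((fg X'.sheaf).obj ((Scheme.Modules.pullback g).obj H) ⊗ (fg X'.sheaf).obj F' :
      PM X'.sheaf) ⟶ (fg X'.sheaf).obj G' => z.app (op (g ⁻¹ᵁ U))
        (tm' (toPres.obj ((Scheme.Modules.pullback g).obj H)) (toPres.obj F') (pSec g H s) (pSec g F x))) hbeta
  refine h1.trans ?_
  show (evPull g F G).app (g ⁻¹ᵁ U) (muSec g H F s x) = _
  rw [← mu_pSec g H F s x]
  show ((Scheme.Modules.pullback g).map κ).app _ ((inv (mu g H F)).app _ ((mu g H F).app _ _)) = _
  rw [show ∀ z, (inv (mu g H F)).app (g ⁻¹ᵁ U) ((mu g H F).app (g ⁻¹ᵁ U) z) = z from fun z =>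
    ConcreteCategory.congr_hom (congrArg (fun φ => Scheme.Modules.Hom.app φ (g ⁻¹ᵁ U)) (IsIso.hom_inv_id (mu g H F))) z]
  exact (ConcreteCategory.congr_hom (congrArg (fun φ => Scheme.Modules.Hom.app φ U)
    ((Scheme.Modules.pullbackPushforwardAdjunction g).unit.naturality κ)) _).symm

theorem pull_smul (M : X.Modules) {U : X.Opens} (r : Γ(X, U)) (m : Γ(M, U)) :
    pull g M (r • m) = (g.app U r : Γ(X', g ⁻¹ᵁ U)) • pull g M m := pSec_smul g M r m

theorem ev_smul_left {U : X.Opens} (c : Γ(X, U)) (s : Γ(hom₂ F G, U)) (x : Γ(F, U)) :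
    ev F G (c • s) x = c • ev F G s x := by
  haveI := hasSheafHom (O := X.sheaf) F
  exact evSec_smul_left (O := X.sheaf) F G c s x

theorem ev_add_left {U : X.Opens} (s t : Γ(hom₂ F G, U)) (x : Γ(F, U)) :
    ev F G (s + t) x = ev F G s x + ev F G t x := by
  haveI := hasSheafHom (O := X.sheaf) F
  exact evSec_add_left (O := X.sheaf) F G s t x

theorem ev_add_right {U : X.Opens} (s : Γ(hom₂ F G, U)) (x y : Γ(F, U)) :
    ev F G s (x + y) = ev F G s x + ev F G s y := by
  haveI := hasSheafHom (O := X.sheaf) F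
  exact evSec_add_right (O := X.sheaf) F G s x y

theorem ev_smul_right {U : X.Opens} (c : Γ(X, U)) (s : Γ(hom₂ F G, U)) (x : Γ(F, U)) :
    ev F G s (c • x) = c • ev F G s x := by
  haveI := hasSheafHom (O := X.sheaf) F
  exact evSec_smul_right (O := X.sheaf) F G c s x

theorem ev_res {U V : X.Opens} (h : V ≤ U) (s : Γ(hom₂ F G, U)) (x : Γ(F, U)) :
    G.presheaf.map (homOfLE h).op (ev F G s x) =
      ev F G ((hom₂ F G).presheaf.map (homOfLE h).op s) (F.presheaf.map (homOfLE h).op x) := by
  haveI := hasSheafHom (O := X.sheaf) F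
  exact evSec_res (O := X.sheaf) F G (homOfLE h) s x

/-- Sections of the internal hom are determined by values on a basis. -/
theorem ev_bijective {U : X.Opens} {n : ℕ} {e : Fin n → Γ(F, U)} (he : IsBasis (O := X.sheaf) F e) :
    Function.Bijective fun (s : Γ(hom₂ F G, U)) i => ev F G s (e i) := by
  haveI := hasSheafHom (O := X.sheaf) F
  exact bijective_evSec (O := X.sheaf) F G he

theorem isBasis_restr {E : X.Modules} {U V : X.Opens} {n : ℕ} {e : Fin n → Γ(E, U)}
    (he : IsBasis (O := X.sheaf) E e) (h : V ≤ U) :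
    IsBasis (O := X.sheaf) (U := V) E fun i => E.presheaf.map (homOfLE h).op (e i) := fun W k => by
  convert he W (k ≫ homOfLE h) using 5 with i
  exact (res_comp (O := X.sheaf) ((fg X.sheaf).obj E) _ _ _).symm

/-- Sums of basis elements determine the coefficients on every smaller open. -/
theorem basis_bijective {E : X.Modules} {U V : X.Opens} {n : ℕ} {e : Fin n → Γ(E, U)}
    (he : IsBasis (O := X.sheaf) E e) (h : V ≤ U) :
    Function.Bijective fun c : Fin n → Γ(X, V) => ∑ i, c i • E.presheaf.map (homOfLE h).op (e i) :=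
  (funext fun c => Fintype.linearCombination_apply _ _ _ :
    ⇑(Fintype.linearCombination (X.sheaf.obj.obj (op V))
      fun i => res (O := X.sheaf) ((fg X.sheaf).obj E) (homOfLE h).op (e i)) = _) ▸ he V (homOfLE h)

/-- The homs between basis elements form a basis. -/
theorem isBasis_hom {U : X.Opens} {n m k : ℕ} {e : Fin n → Γ(F, U)} {f : Fin m → Γ(G, U)}
    (he : IsBasis (O := X.sheaf) F e) (hf : IsBasis (O := X.sheaf) G f) (E : Fin k ≃ Fin n × Fin m)
    (s : Fin k → Γ(hom₂ F G, U)) (hs : ∀ l i, ev F G (s l) (e i) = if (E l).1 = i then f (E l).2 else 0) :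
    IsBasis (O := X.sheaf) (hom₂ F G) s := by
  intro W h
  let eW : Fin n → Γ(F, W) := fun i => F.presheaf.map h.op (e i)
  let fW : Fin m → Γ(G, W) := fun i => G.presheaf.map h.op (f i)
  let sW : Fin k → Γ(hom₂ F G, W) := fun l => (hom₂ F G).presheaf.map h.op (s l)
  let Φ : Γ(hom₂ F G, W) → Fin n → Γ(G, W) := fun σ i => ev F G σ (eW i)
  have hΦ : Function.Bijective Φ := ev_bijective F G (isBasis_restr he h.le)
  have hsW : ∀ l i, ev F G (sW l) (eW i) = if (E l).1 = i then fW (E l).2 else 0 := fun l i => by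
    refine (ev_res F G h.le (s l) (e i)).symm.trans ?_
    rw [hs, apply_ite (G.presheaf.map (homOfLE h.le).op), map_zero]
    rfl
  let ΦA : Γ(hom₂ F G, W) →+ (Fin n → Γ(G, W)) :=
    AddMonoidHom.mk' Φ fun a b => funext fun i => ev_add_left F G a b (eW i)
  have key : ∀ c : Fin k → Γ(X, W), Φ (∑ l, c l • sW l) = fun i => ∑ j, c (E.symm (i, j)) • fW j := fun c => by
    funext i
    show ΦA (∑ l, c l • sW l) i = _
    rw [map_sum, Finset.sum_apply]
    rw [← E.symm.sum_comp, Fintype.sum_prod_type, Finset.sum_eq_single i]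
    · refine Finset.sum_congr rfl fun j _ => ?_
      show ev F G (c _ • sW _) (eW i) = _
      rw [ev_smul_left, hsW, Equiv.apply_symm_apply, if_pos rfl]
    · intro i' _ hi'
      refine Finset.sum_eq_zero fun j _ => ?_
      show ev F G (c _ • sW _) (eW i) = _
      rw [ev_smul_left, hsW, Equiv.apply_symm_apply, if_neg hi', smul_zero]
    · intro hh
      exact absurd (Finset.mem_univ i) hh
  have hbig : Function.Bijective fun c : Fin k → Γ(X, W) => (fun i => ∑ j, c (E.symm (i, j)) • fW j) := by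
    have h1 : Function.Bijective fun c : Fin k → Γ(X, W) => fun (i : Fin n) (j : Fin m) => c (E.symm (i, j)) :=
      ((Equiv.arrowCongr E (Equiv.refl _)).trans (Equiv.curry _ _ _)).bijective
    exact (Function.Bijective.piMap fun _ : Fin n => basis_bijective hf h.le).comp h1
  refine (Function.Bijective.of_comp_iff' hΦ _).mp ?_
  refine (congrArg Function.Bijective (funext fun c => ?_)).mpr hbig
  show Φ (Fintype.linearCombination (X.sheaf.obj.obj (op W))
    (fun l => res (O := X.sheaf) ((fg X.sheaf).obj (hom₂ F G)) h.op (s l)) c) = _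
  rw [Fintype.linearCombination_apply]
  exact key c

variable {F G}

/-- The comparison carries a basis to a basis. -/
theorem isBasis_cmp {U : X.Opens} {n m : ℕ} {e : Fin n → Γ(F, U)} {f : Fin m → Γ(G, U)}
    (he : IsBasis (O := X.sheaf) F e) (hf : IsBasis (O := X.sheaf) G f) :
    ∃ (k : ℕ) (s : Fin k → Γ(hom₂ F G, U)), IsBasis (O := X.sheaf) (hom₂ F G) s ∧
      IsBasis (O := X'.sheaf) (U := g ⁻¹ᵁ U)
        (hom₂ ((Scheme.Modules.pullback g).obj F) ((Scheme.Modules.pullback g).obj G))
        fun l => (cmp g F G).app (g ⁻¹ᵁ U) (pull g _ (s l)) := by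
  let E : Fin (n * m) ≃ Fin n × Fin m := finProdFinEquiv.symm
  choose s hs using fun l => (ev_bijective F G he).2 fun i => if (E l).1 = i then f (E l).2 else 0
  refine ⟨n * m, s, isBasis_hom F G he hf E s fun l i => congrFun (hs l) i,
    isBasis_hom _ _ (e := fun i => pull g F (e i)) (f := fun j => pull g G (f j)) (isBasis_pSec g he)
      (isBasis_pSec g hf) E _ fun l i => ?_⟩
  rw [ev_cmp, show ev F G (s l) (e i) = _ from congrFun (hs l) i]
  split
  · rfl
  · exact map_zero ((pullSec g G).app (op U)).hom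

/-- `g^*Hom(F, G) ≅ Hom(g^*F, g^*G)` for finite locally free `F`, `G`. -/
theorem isIso_cmp (hF : FlatMod.IsFinLocFree F) (hG : FlatMod.IsFinLocFree G) : IsIso (cmp g F G) := by
  rw [QCohLib.isIso_iff_stalk_bijective]
  intro x
  obtain ⟨U₀, n, e, hx₀, he⟩ := exists_isBasis hF (g.base x)
  obtain ⟨U₁, m, f, hx₁, hf⟩ := exists_isBasis hG (g.base x)
  obtain ⟨k, s, hs, hs'⟩ := isBasis_cmp g (isBasis_restr he (inf_le_left : U₀ ⊓ U₁ ≤ U₀))
    (isBasis_restr hf (inf_le_right : U₀ ⊓ U₁ ≤ U₁))
  let V := g ⁻¹ᵁ (U₀ ⊓ U₁)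
  have hx : x ∈ V := ⟨hx₀, hx₁⟩
  let S := (Scheme.Modules.pullback g).obj (hom₂ F G)
  let T := hom₂ ((Scheme.Modules.pullback g).obj F) ((Scheme.Modules.pullback g).obj G)
  have hb := isStalkBasis_of_isBasis (E := S) (e := fun l => pull g (hom₂ F G) (s l)) (isBasis_pSec g hs) x hx
  have hb' := isStalkBasis_of_isBasis (E := T) hs' x hx
  have e1 : ∀ c, QCohLib.stalkLinearMap (cmp g F G) x
      (Fintype.linearCombination (stR X'.presheaf x) (fun l => gm (toPres.obj S) hx (pull g _ (s l))) c) =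
      Fintype.linearCombination (stR X'.presheaf x)
        (fun l => gm (toPres.obj T) hx ((cmp g F G).app V (pull g _ (s l)))) c := fun c => by
    rw [Fintype.linearCombination_apply, Fintype.linearCombination_apply]
    refine (map_sum (QCohLib.stalkLinearMap (cmp g F G) x) _ _).trans (Finset.sum_congr rfl fun l _ => ?_)
    refine (map_smul (QCohLib.stalkLinearMap (cmp g F G) x) (c l) _).trans (congrArg (c l • ·) ?_)
    rw [QCohLib.stalkLinearMap_apply]
    exact QCohLib.stalkHom_germ (cmp g F G) V x hx (pull g _ (s l))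
  have h2 : Function.Bijective (QCohLib.stalkLinearMap (cmp g F G) x) := by
    refine (Function.Bijective.of_comp_iff _ hb).mp ?_
    refine (congrArg Function.Bijective (funext fun c => ?_)).mpr hb'
    exact e1 c
  exact h2

/-- `Hom(F, G)` is finite locally free. -/
theorem exists_isBasis_hom₂ (hF : FlatMod.IsFinLocFree F) (hG : FlatMod.IsFinLocFree G) (x : X) :
    ∃ (U : X.Opens) (k : ℕ) (s : Fin k → Γ(hom₂ F G, U)), x ∈ U ∧ IsBasis (O := X.sheaf) (hom₂ F G) s := by
  obtain ⟨U₀, n, e, hx₀, he⟩ := exists_isBasis hF x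
  obtain ⟨U₁, m, f, hx₁, hf⟩ := exists_isBasis hG x
  obtain ⟨k, s, hs, -⟩ := isBasis_cmp (𝟙 X) (isBasis_restr he (inf_le_left : U₀ ⊓ U₁ ≤ U₀))
    (isBasis_restr hf (inf_le_right : U₀ ⊓ U₁ ≤ U₁))
  exact ⟨_, k, s, ⟨hx₀, hx₁⟩, hs⟩

end Groth.Agent.BCCx.HomBC
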