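import Groth.Agent.BCCx.HomBC
import Groth.Agent.InvPow.Basic

/-!
# Global sections of the internal hom as morphisms
-/

set_option autoImplicit false
set_option backward.isDefEq.respectTransparency false
set_option linter.style.haveILetI false
set_option maxHeartbeats 1000000
universe u

open CategoryTheory CategoryTheory.Limits Opposite AlgebraicGeometry TopologicalSpace

namespace Groth.Agent.BCCx.HomBC

open Groth.Agent.ModGroth.LocBasis Groth.Agent.ProjUniv Groth.Agent.InvPow

variable {X X' : Scheme.{u}} (F G : X.Modules)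

/-- A global section of the internal hom as a morphism. -/
noncomputable def secHom (σ : Γ(hom₂ F G, ⊤)) : F ⟶ G :=
  ⟨PresheafOfModules.homMk
    { app := fun W => AddCommGrpCat.ofHom (AddMonoidHom.mk'
        (fun x : Γ(F, W.unop) => ev F G (gres (hom₂ F G) σ W.unop) x)
        fun x y => ev_add_right F G _ x y)
      naturality := fun {W W'} i => by
        ext (x : Γ(F, W.unop))
        show ev F G (gres (hom₂ F G) σ W'.unop) (F.presheaf.map (homOfLE (leOfHom i.unop)).op x) =
          G.presheaf.map (homOfLE (leOfHom i.unop)).op (ev F G (gres (hom₂ F G) σ W.unop) x)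
        rw [ev_res]
        exact congrArg (fun t => ev F G t _) (res_gres (hom₂ F G) σ (leOfHom i.unop)).symm }
    (fun W r x => ev_smul_right F G r (gres (hom₂ F G) σ W.unop) x)⟩

theorem secHom_app (σ : Γ(hom₂ F G, ⊤)) (W : X.Opens) (x : Γ(F, W)) :
    (secHom F G σ).app W x = ev F G (gres (hom₂ F G) σ W) x := rfl

variable {F G}

/-- Sections of the hom with equal values near every point agree. -/
theorem hom₂_ext (hF : FlatMod.IsFinLocFree F) {U : X.Opens} {s t : Γ(hom₂ F G, U)}
    (h : ∀ (W : X.Opens) (hW : W ≤ U) (x : Γ(F, W)),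
      ev F G (res (hom₂ F G) hW s) x = ev F G (res (hom₂ F G) hW t) x) : s = t := by
  choose U₀ n e hx he using exists_isBasis hF
  refine sections_ext (hom₂ F G) U₀ (fun x => ⟨x, hx x⟩) fun x => ?_
  exact (ev_bijective F G (isBasis_restr (he x) (inf_le_right : U ⊓ U₀ x ≤ U₀ x))).1
    (funext fun i => h _ inf_le_left _)

/-- Every morphism is a global section of the internal hom. -/
theorem exists_section_of_hom (hF : FlatMod.IsFinLocFree F) (u : F ⟶ G) :
    ∃ σ : Γ(hom₂ F G, ⊤), secHom F G σ = u := by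
  choose U₀ n e hx he using exists_isBasis hF
  choose s hs using fun x => (ev_bijective F G (he x)).2 fun i => u.app (U₀ x) (e x i)
  have hval : ∀ (x : X) (W : X.Opens) (hW : W ≤ U₀ x) (z : Γ(F, W)),
      ev F G (res (hom₂ F G) hW (s x)) z = u.app W z := by
    intro x W hW z
    obtain ⟨c, rfl⟩ := (basis_bijective (he x) hW).2 z
    show ev F G _ (∑ i, c i • F.presheaf.map (homOfLE hW).op (e x i)) =
      u.app W (∑ i, c i • F.presheaf.map (homOfLE hW).op (e x i))
    let φ : Γ(F, W) →+ Γ(G, W) := AddMonoidHom.mk' (fun z => ev F G (res (hom₂ F G) hW (s x)) z)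
      fun a b => ev_add_right F G _ a b
    show φ (∑ i, c i • F.presheaf.map (homOfLE hW).op (e x i)) = _
    rw [map_sum, map_sum]
    refine Finset.sum_congr rfl fun i _ => ?_
    show ev F G _ (c i • _) = _
    rw [ev_smul_right, ← ev_res, show ev F G (s x) (e x i) = _ from congrFun (hs x) i,
      Scheme.Modules.Hom.app_smul]
    exact congrArg (c i • ·) (QCohLib.app_map u hW (e x i)).symm
  obtain ⟨σ, hσ⟩ := exists_glue_sections (hom₂ F G) U₀ (fun x => ⟨x, hx x⟩) s fun i j =>
    hom₂_ext hF fun W hW z => by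
      rw [res_res, res_res, hval, hval]
  refine ⟨σ, Scheme.Modules.hom_ext _ _ fun W => ?_⟩
  ext z
  show ev F G (gres (hom₂ F G) σ W) z = u.app W z
  refine sections_ext G U₀ (fun x => ⟨x, hx x⟩) fun x => ?_
  show G.presheaf.map (homOfLE (inf_le_left : W ⊓ U₀ x ≤ W)).op (ev F G (gres (hom₂ F G) σ W) z) =
    G.presheaf.map (homOfLE (inf_le_left : W ⊓ U₀ x ≤ W)).op (u.app W z)
  rw [ev_res, ← QCohLib.app_map, ← hval x _ inf_le_right]
  refine congrArg (fun t => ev F G t _) ?_
  show res (hom₂ F G) inf_le_left (gres (hom₂ F G) σ W) = _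
  rw [res_gres, ← hσ x, res_gres]

/-- The inverse image of the morphism of a section. -/
theorem map_secHom (g : X' ⟶ X) (σ : Γ(hom₂ F G, ⊤)) :
    (Scheme.Modules.pullback g).map (secHom F G σ) =
      secHom ((Scheme.Modules.pullback g).obj F) ((Scheme.Modules.pullback g).obj G)
        ((cmp g F G).app (g ⁻¹ᵁ ⊤) (pull g _ σ)) := by
  apply ((Scheme.Modules.pullbackPushforwardAdjunction g).homEquiv _ _).injective
  rw [Adjunction.homEquiv_unit, Adjunction.homEquiv_unit]
  refine Scheme.Modules.hom_ext _ _ fun W => ?_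
  ext x
  show ((Scheme.Modules.pullback g).map (secHom F G σ)).app (g ⁻¹ᵁ W) (pull g F x) =
    ev _ _ (gres _ ((cmp g F G).app (g ⁻¹ᵁ ⊤) (pull g _ σ)) (g ⁻¹ᵁ W)) (pull g F x)
  have h1 : ((Scheme.Modules.pullback g).map (secHom F G σ)).app (g ⁻¹ᵁ W) (pull g F x) =
      pull g G ((secHom F G σ).app W x) :=
    (ConcreteCategory.congr_hom (congrArg (fun φ => Scheme.Modules.Hom.app φ W)
      ((Scheme.Modules.pullbackPushforwardAdjunction g).unit.naturality (secHom F G σ))) x).symm
  have h2 : gres (hom₂ ((Scheme.Modules.pullback g).obj F) ((Scheme.Modules.pullback g).obj G))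
      ((cmp g F G).app (g ⁻¹ᵁ ⊤) (pull g _ σ)) (g ⁻¹ᵁ W) =
      (cmp g F G).app (g ⁻¹ᵁ W) (pull g _ (gres (hom₂ F G) σ W)) :=
    (QCohLib.app_map (cmp g F G) _ _).symm.trans (congrArg ((cmp g F G).app (g ⁻¹ᵁ W))
      (QCohLib.app_map ((Scheme.Modules.pullbackPushforwardAdjunction g).unit.app (hom₂ F G))
        (le_top : W ≤ ⊤) σ).symm)
  rw [h1, h2, ev_cmp, secHom_app]

end Groth.Agent.BCCx.HomBC
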