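import Groth.Agent.BCCx.HomBC
import Groth.Agent.InvPow.Basic
import Groth.Agent.InvBasic.OfBasis
import Mathlib.LinearAlgebra.Matrix.NonsingularInverse
import Mathlib.LinearAlgebra.InvariantBasisNumber

/-!
# A morphism of finite locally free modules, iso after inverse image, is iso nearby
-/

set_option autoImplicit false
set_option backward.isDefEq.respectTransparency false
set_option linter.style.haveILetI false
set_option maxHeartbeats 1000000
universe u

open CategoryTheory CategoryTheory.Limits Opposite AlgebraicGeometry TopologicalSpace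

namespace Groth.Agent.BCCx.HomBC

open Groth.Agent.ModGroth.LocBasis Groth.Agent.ProjUniv Groth.Agent.InvPow

variable {X X' : Scheme.{u}}

theorem resR_self {U : X.Opens} (c : Γ(X, U)) : resR (le_refl U) c = c := by
  show X.presheaf.map (homOfLE (le_refl U)).op c = c
  rw [show (homOfLE (le_refl U)).op = 𝟙 (op U) from rfl, X.presheaf.map_id]
  rfl

/-- A morphism on coefficients. -/
theorem app_sum {F G : X.Modules} (u : F ⟶ G) {U W : X.Opens} (h : W ≤ U) {n m : ℕ} (e : Fin n → Γ(F, U))
    (f : Fin m → Γ(G, U)) (M : Matrix (Fin n) (Fin m) Γ(X, U)) (hM : ∀ i, u.app U (e i) = ∑ j, M i j • f j)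
    (c : Fin n → Γ(X, W)) :
    u.app W (∑ i, c i • res F h (e i)) = ∑ j, Matrix.vecMul c (M.map (resR h)) j • res G h (f j) := by
  rw [map_sum]
  calc ∑ i, u.app W (c i • res F h (e i))
      = ∑ i, ∑ j, (c i * resR h (M i j)) • res G h (f j) := Finset.sum_congr rfl fun i _ => by
        rw [Scheme.Modules.Hom.app_smul, show u.app W (res F h (e i)) = res G h (u.app U (e i)) from
          QCohLib.app_map u h (e i), hM, show res G h (∑ j, M i j • f j) = ∑ j, res G h (M i j • f j) from
          map_sum _ _ _, Finset.smul_sum]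
        exact Finset.sum_congr rfl fun j _ => by rw [res_smul, smul_smul]
    _ = _ := by
      rw [Finset.sum_comm]
      refine Finset.sum_congr rfl fun j _ => ?_
      rw [← Finset.sum_smul]
      rfl

/-- Bijectivity in terms of coefficients. -/
theorem app_bijective_iff {F G : X.Modules} (u : F ⟶ G) {U W : X.Opens} (h : W ≤ U) {n m : ℕ}
    {e : Fin n → Γ(F, U)} {f : Fin m → Γ(G, U)} (he : IsBasis (O := X.sheaf) F e)
    (hf : IsBasis (O := X.sheaf) G f) (M : Matrix (Fin n) (Fin m) Γ(X, U))
    (hM : ∀ i, u.app U (e i) = ∑ j, M i j • f j) :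
    Function.Bijective (u.app W) ↔ Function.Bijective fun c : Fin n → Γ(X, W) => Matrix.vecMul c (M.map (resR h)) := by
  have h1 := basis_bijective he h
  have h2 := basis_bijective hf h
  rw [← Function.Bijective.of_comp_iff _ h1, ← Function.Bijective.of_comp_iff' h2
    (fun c : Fin n → Γ(X, W) => Matrix.vecMul c (M.map (resR h)))]
  exact iff_of_eq (congrArg Function.Bijective (funext fun c => app_sum u h e f M hM c))

/-- A matrix invertible after `φ` has a determinant whose inversion makes it invertible. -/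
theorem exists_det {R S : Type u} [CommRing R] [CommRing S] [Nontrivial S] (φ : R →+* S) {n m : ℕ}
    (M : Matrix (Fin n) (Fin m) R) (h : Function.Bijective fun c : Fin n → S => Matrix.vecMul c (M.map φ)) :
    ∃ d : R, IsUnit (φ d) ∧ ∀ {T : Type u} [CommRing T] (χ : R →+* T), IsUnit (χ d) →
      Function.Bijective fun c : Fin n → T => Matrix.vecMul c (M.map χ) := by
  have hnm : n = m := by
    simpa using card_eq_of_linearEquiv S (LinearEquiv.ofBijective (Matrix.vecMulLinear (M.map φ)) h)
  subst hnm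
  refine ⟨M.det, ?_, fun χ hχ => ?_⟩
  · rw [RingHom.map_det, ← Matrix.isUnit_iff_isUnit_det, RingHom.mapMatrix_apply]
    exact Matrix.vecMul_surjective_iff_isUnit.1 h.2
  · rw [RingHom.map_det, ← Matrix.isUnit_iff_isUnit_det, RingHom.mapMatrix_apply] at hχ
    exact ⟨Matrix.vecMul_injective_of_isUnit hχ, Matrix.vecMul_surjective_iff_isUnit.2 hχ⟩

theorem app_bijective_of_isIso {F G : X.Modules} (u : F ⟶ G) [IsIso u] (W : X.Opens) :
    Function.Bijective (u.app W) := by
  refine ⟨Function.LeftInverse.injective (g := (inv u).app W) fun r => ?_,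
    Function.RightInverse.surjective (g := (inv u).app W) fun r => ?_⟩
  · exact ConcreteCategory.congr_hom (congrArg (fun φ => Scheme.Modules.Hom.app φ W) (IsIso.hom_inv_id u)) r
  · exact ConcreteCategory.congr_hom (congrArg (fun φ => Scheme.Modules.Hom.app φ W) (IsIso.inv_hom_id u)) r

/-- An isomorphism after inverse image is one near the image. -/
theorem exists_iso_nhd (g : X' ⟶ X) {F G : X.Modules} (hF : FlatMod.IsFinLocFree F) (hG : FlatMod.IsFinLocFree G)
    (u : F ⟶ G) [IsIso ((Scheme.Modules.pullback g).map u)] :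
    ∃ D : X.Opens, (∀ x', g.base x' ∈ D) ∧ IsIso ((Scheme.Modules.restrictFunctor D.ι).map u) := by
  have key : ∀ x' : X', ∃ N : X.Opens, g.base x' ∈ N ∧ ∀ W ≤ N, Function.Bijective (u.app W) := by
    intro x'
    obtain ⟨U₀, n, e₀, hx₀, he₀⟩ := exists_isBasis hF (g.base x')
    obtain ⟨U₁, m, f₀, hx₁, hf₀⟩ := exists_isBasis hG (g.base x')
    let U := U₀ ⊓ U₁
    let e : Fin n → Γ(F, U) := fun i => F.presheaf.map (homOfLE (inf_le_left : U ≤ U₀)).op (e₀ i)
    let f : Fin m → Γ(G, U) := fun i => G.presheaf.map (homOfLE (inf_le_right : U ≤ U₁)).op (f₀ i)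
    have he : IsBasis (O := X.sheaf) F e := isBasis_restr he₀ _
    have hf : IsBasis (O := X.sheaf) G f := isBasis_restr hf₀ _
    choose M hM using fun i => (basis_bijective hf (le_refl U)).2 (u.app U (e i))
    have hM' : ∀ i, u.app U (e i) = ∑ j, M i j • f j := fun i => (hM i).symm.trans
      (Finset.sum_congr rfl fun j _ => congrArg (M i j • ·) (QCohLib.map_self G le_rfl (f j)))
    let V := g ⁻¹ᵁ U
    let φ := (g.app U).hom
    have hM2 : ∀ i, ((Scheme.Modules.pullback g).map u).app V (pull g F (e i)) =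
        ∑ j, φ (M i j) • pull g G (f j) := fun i => by
      refine ((ConcreteCategory.congr_hom (congrArg (fun t => Scheme.Modules.Hom.app t U)
        ((Scheme.Modules.pullbackPushforwardAdjunction g).unit.naturality u)) (e i)).symm.trans ?_)
      show pull g G (u.app U (e i)) = _
      rw [hM']
      refine (map_sum ((Groth.Agent.ModGroth.Stalk.pullSec g G).app (op U)).hom _ _).trans ?_
      exact Finset.sum_congr rfl fun j _ => pull_smul g G (M i j) (f j)
    have hb := (app_bijective_iff ((Scheme.Modules.pullback g).map u) (le_refl V)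
      (e := fun i => pull g F (e i)) (f := fun j => pull g G (f j)) (isBasis_pSec g he) (isBasis_pSec g hf)
      (fun i j => φ (M i j)) hM2).1 (app_bijective_of_isIso _ V)
    haveI : Nontrivial Γ(X', V) := by
      refine ⟨⟨0, 1, fun h => ?_⟩⟩
      have := congrArg (X'.presheaf.germ V x' (show g.base x' ∈ U from ⟨hx₀, hx₁⟩)) h
      rw [map_zero, map_one] at this
      exact zero_ne_one this
    obtain ⟨ψ, hu, hψ⟩ := exists_det φ M (congrArg Function.Bijective (funext fun c => congrArg (Matrix.vecMul c)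
      (Matrix.ext fun i j => resR_self (φ (M i j)))) ▸ hb)
    refine ⟨X.basicOpen ψ, ?_, fun W hW => ?_⟩
    · have h1 : x' ∈ g ⁻¹ᵁ X.basicOpen ψ := by
        rw [Scheme.preimage_basicOpen, Scheme.basicOpen_of_isUnit _ hu]
        exact (show g.base x' ∈ U from ⟨hx₀, hx₁⟩)
      exact h1
    · have hWU : W ≤ U := hW.trans (X.basicOpen_le ψ)
      refine (app_bijective_iff u hWU he hf M hM').2 (hψ (X.presheaf.map (homOfLE hWU).op).hom ?_)
      have := (X.toRingedSpace.isUnit_res_basicOpen ψ).map (X.presheaf.map (homOfLE hW).op).hom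
      change IsUnit (resR hW (resR (X.basicOpen_le ψ) ψ)) at this
      rwa [resR_resR] at this
  choose N hxN hN using key
  let D : X.Opens := ⨆ x', N x'
  refine ⟨D, fun x' => Opens.mem_iSup.2 ⟨x', hxN x'⟩, ?_⟩
  rw [isIso_iff_mono_and_epi, QCohLib.mono_iff_app_injective]
  refine ⟨fun W => ?_, QCohLib.epi_of_app_surjective _ (B := {W | ∃ x', D.ι ''ᵁ W ≤ N x'})
    (Opens.isBasis_iff_nbhd.mpr fun {W z} hz => ?_) fun W ⟨x', hW⟩ => (hN x' _ hW).2⟩
  · intro a b hab
    refine TopCat.Sheaf.eq_of_locally_eq' ⟨F.presheaf, F.isSheaf⟩ (fun x' => D.ι ''ᵁ W ⊓ N x') (D.ι ''ᵁ W)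
      (fun _ => homOfLE inf_le_left) ?_ a b fun x' => (hN x' _ inf_le_right).1 ?_
    · intro z hz
      obtain ⟨x', hx'⟩ := Opens.mem_iSup.1 (InvBasic.ι_image_le D W hz)
      exact Opens.mem_iSup.2 ⟨x', hz, hx'⟩
    · refine (QCohLib.app_map u _ _).trans (Eq.trans ?_ (QCohLib.app_map u _ _).symm)
      exact congrArg (res G (inf_le_left : D.ι ''ᵁ W ⊓ N x' ≤ D.ι ''ᵁ W)) hab
  · obtain ⟨x', hx'⟩ := Opens.mem_iSup.1 z.2
    refine ⟨W ⊓ D.ι ⁻¹ᵁ N x', ⟨x', ?_⟩, ⟨hz, hx'⟩, inf_le_left⟩
    exact (D.ι.image_mono inf_le_right).trans (D.ι.image_preimage_le _)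

end Groth.Agent.BCCx.HomBC
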