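import Groth.Agent.TFun.Powers
import Groth.Agent.TFun.DVR
import Groth.Agent.MatlisLib.Completion
import Mathlib.RingTheory.Length
import Mathlib.RingTheory.Filtration

/-!
# Exactness of `TFun` over a Noetherian local ring, detected by lengths
-/

set_option autoImplicit false
set_option backward.isDefEq.respectTransparency false
universe u

open CategoryTheory CategoryTheory.Limits TensorProduct HomologicalComplex Function IsLocalRing

namespace Groth.Agent.BCCx

open Groth.Agent.TFun

variable {A : Type u} [CommRing A] (P : ChainComplex (ModuleCat.{u} A) ℤ)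

theorem length_le_add {X Y Z : Type u} [AddCommGroup X] [Module A X] [AddCommGroup Y]
    [Module A Y] [AddCommGroup Z] [Module A Z] {f : X →ₗ[A] Y} {g : Y →ₗ[A] Z} (h : Exact f g) :
    Module.length A Y ≤ Module.length A X + Module.length A (LinearMap.range g) := by
  rw [Module.length_eq_add_of_exact (LinearMap.ker g).subtype g.rangeRestrict
    Subtype.val_injective g.surjective_rangeRestrict (fun y => by
      rw [← LinearMap.mem_ker, LinearMap.ker_rangeRestrict]
      exact ⟨fun hy => ⟨⟨y, hy⟩, rfl⟩, fun ⟨a, ha⟩ => ha ▸ a.2⟩)]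
  refine add_le_add ?_ le_rfl
  exact Module.length_le_of_surjective (f.codRestrict (LinearMap.ker g) fun x => h.apply_apply_eq_zero x)
    fun ⟨y, hy⟩ => by
      obtain ⟨x, hx⟩ := (h y).1 hy
      exact ⟨x, Subtype.ext hx⟩

theorem exact_map' (hP : ∀ i, Module.Flat A (P.X i)) {r p q : ℤ} (hrp : p + 1 = r) (hpq : q + 1 = p)
    {L M N : ModuleCat.{u} A} (i : L ⟶ M) (g : M ⟶ N) (hi : Injective i.hom)
    (hex : Exact i.hom g.hom) (hg : Surjective g.hom) :
    Exact ((CohIII.TFun P p).map i).hom ((CohIII.TFun P p).map g).hom := by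
  have := hP q
  intro x
  constructor
  · intro hx
    obtain ⟨z, rfl⟩ := homologyπ_surjective (K := CohIII.tensorObj P M) (p := p) x
    obtain ⟨z', h1, h2⟩ := homologyMap_π (CohIII.tensorMap P g) z
    obtain ⟨w, hw⟩ := (homologyπ_eq_zero_iff hrp z').1 (h1.symm.trans hx)
    rw [h2] at hw
    obtain ⟨w', rfl⟩ := LinearMap.lTensor_surjective (P.X r) hg w
    set e : P.X p ⊗[A] M := (CohIII.tensorObj P M).iCycles p z with he
    have hd : (P.d p q).hom.rTensor M e = 0 := d_iCycles (K := CohIII.tensorObj P M) z
    have h0 : g.hom.lTensor (P.X p) (e - (P.d r p).hom.rTensor M w') = 0 := by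
      rw [map_sub, ← TFun.comm, sub_eq_zero]
      exact hw.symm
    obtain ⟨n, hn⟩ := (lTensor_exact (P.X p) hex hg _).1 h0
    have hdn : (P.d p q).hom.rTensor L n = 0 := by
      apply Module.Flat.lTensor_preserves_injective_linearMap (M := P.X q) i.hom hi
      rw [map_zero, ← TFun.comm, hn, map_sub, hd, ← LinearMap.comp_apply, ← LinearMap.rTensor_comp,
        d_d, LinearMap.rTensor_zero, LinearMap.zero_apply, sub_zero]
    obtain ⟨c, hc⟩ := exists_cycle (K := CohIII.tensorObj P L) hpq n hdn
    obtain ⟨c', k1, k2⟩ := homologyMap_π (CohIII.tensorMap P i) c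
    refine ⟨(CohIII.tensorObj P L).homologyπ p c, k1.trans ?_⟩
    refine (homologyπ_eq_iff hrp _ _).2 ⟨-w', ?_⟩
    rw [k2, hc]
    change (P.d r p).hom.rTensor M (-w') = i.hom.lTensor (P.X p) n - e
    rw [hn, map_neg]
    abel
  · rintro ⟨y, rfl⟩
    obtain ⟨z, rfl⟩ := homologyπ_surjective (K := CohIII.tensorObj P L) (p := p) y
    obtain ⟨z', h1, h2⟩ := homologyMap_π (CohIII.tensorMap P i) z
    obtain ⟨z'', h3, h4⟩ := homologyMap_π (CohIII.tensorMap P g) z'
    refine (congrArg _ h1).trans (h3.trans ((homologyπ_eq_zero_iff hrp z'').2 ⟨0, ?_⟩))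
    rw [map_zero, h4, h2]
    change 0 = g.hom.lTensor (P.X p) (i.hom.lTensor (P.X p) _)
    rw [← LinearMap.comp_apply, ← LinearMap.lTensor_comp, hex.linearMap_comp_eq_zero, LinearMap.lTensor_zero,
      LinearMap.zero_apply]

variable [IsLocalRing A]

theorem length_T_le' (hP : ∀ i, Module.Flat A (P.X i)) (p : ℤ) (M : Type u) [AddCommGroup M]
    [Module A M] (hM : IsFiniteLength A M) :
    Module.length A (CohIII.T P p (ModuleCat.of A M)) ≤
      Module.length A (CohIII.T P p (ModuleCat.of A (ResidueField A))) * Module.length A M := by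
  induction hM with
  | @of_subsingleton M _ _ _ =>
    have hz : Subsingleton ((CohIII.TFun P p).obj (ModuleCat.of A M)) :=
      (tι_injective P (r := p + 1) rfl (ModuleCat.of A M)).subsingleton
    have : Module.length A (CohIII.T P p (ModuleCat.of A M)) = 0 := Module.length_eq_zero_iff.2 hz
    rw [this]
    exact zero_le
  | @of_simple_quotient M _ _ N _ _ ih =>
    obtain ⟨I, hI, ⟨e⟩⟩ := isSimpleModule_iff_quot_maximal.1 (inferInstance : IsSimpleModule A (M ⧸ N))
    obtain rfl := IsLocalRing.eq_maximalIdeal hI
    let g : ModuleCat.of A M ⟶ ModuleCat.of A (ResidueField A) :=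
      ModuleCat.ofHom (e.toLinearMap ∘ₗ N.mkQ)
    have hex := exact_map' P hP (r := p + 1) (q := p - 1) rfl (sub_add_cancel p 1)
      (ModuleCat.ofHom N.subtype) g Subtype.val_injective (fun x => by
        refine (map_eq_zero_iff e.toLinearMap e.injective).trans ?_
        rw [Submodule.mkQ_apply, Submodule.Quotient.mk_eq_zero]
        exact ⟨fun hx => ⟨⟨x, hx⟩, rfl⟩, fun ⟨a, ha⟩ => ha ▸ a.2⟩)
      (e.surjective.comp N.mkQ_surjective)
    have hlen : Module.length A M = Module.length A N + 1 := by
      rw [Module.length_eq_add_of_exact N.subtype N.mkQ N.subtype_injective N.mkQ_surjective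
        (LinearMap.exact_subtype_mkQ N), Module.length_eq_one A (M ⧸ N)]
    rw [hlen, mul_add, mul_one]
    exact (length_le_add hex).trans (add_le_add ih
      (Module.length_le_of_injective _ (Submodule.subtype_injective _)))

theorem length_residueField : Module.length A (ResidueField A) = 1 := by
  have : IsSimpleModule A (ResidueField A) :=
    isSimpleModule_iff_quot_maximal.2 ⟨_, maximalIdeal.isMaximal A, ⟨LinearEquiv.refl A _⟩⟩
  exact Module.length_eq_one A _

theorem length_residue_tensor (H : Type u) [AddCommGroup H] [Module A H] [Module.Finite A H] :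
    Module.length A (H ⊗[A] ResidueField A) = Module.finrank (ResidueField A) (ResidueField A ⊗[A] H) := by
  rw [((TensorProduct.comm A H (ResidueField A)).trans
    (((Module.finBasis (ResidueField A) (ResidueField A ⊗[A] H)).repr.restrictScalars A))).length_eq,
    Module.length_finsupp, length_residueField, mul_one, ENat.card_eq_coe_fintype_card, Fintype.card_fin]

/-- **Exactness and lengths.** -/
theorem exact_iff_length_powers [IsNoetherianRing A]
    (hP : ∀ i, Module.Finite A (P.X i) ∧ Module.Flat A (P.X i)) (p : ℤ) :
    ((CohIII.TFun P p).PreservesMonomorphisms ∧ (CohIII.TFun P p).PreservesEpimorphisms) ↔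
      ∃ n₀ : ℕ, ∀ n : ℕ, n₀ ≤ n →
        Module.length A (CohIII.T P p (ModuleCat.of A (A ⧸ maximalIdeal A ^ (n + 1)))) =
          Module.length A (CohIII.T P p (ModuleCat.of A (ResidueField A))) *
            Module.length A (A ⧸ maximalIdeal A ^ (n + 1)) := by
  have hF := fun i => (hP i).2
  haveI : Module.Finite A (P.X p) := (hP p).1
  haveI hH : Module.Finite A (P.homology p) := TFun.finite_homology P
  let d : ℕ := Module.finrank (ResidueField A) (ResidueField A ⊗[A] P.homology p)
  constructor
  · intro h
    obtain ⟨h1, h2⟩ := (exact_iff_epi_and_flat P hF).1 h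
    haveI := h2
    haveI : Module.Free A (P.homology p) := Module.free_of_flat_of_isLocalRing
    let b := Module.Free.chooseBasis A (P.homology p)
    have hlen : ∀ M : ModuleCat.{u} A, Module.length A (CohIII.T P p M) =
        ENat.card (Module.Free.ChooseBasisIndex A (P.homology p)) * Module.length A M := fun M => by
      obtain ⟨e, -⟩ := exists_obj_equiv_tensor P (r := p + 1) rfl (sub_add_cancel p 1) (hF _) M
        (.inr ((preservesEpi_iff P hF (sub_add_cancel p 1)).1 h1))
      classical
      refine (e.trans ((TensorProduct.congr b.repr (LinearEquiv.refl A M)).trans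
        (TensorProduct.finsuppScalarLeft A M _))).length_eq.trans ?_
      rw [Module.length_finsupp]
    refine ⟨0, fun n _ => ?_⟩
    rw [hlen, hlen (ModuleCat.of A (ResidueField A))]
    simp only [length_residueField, mul_one]
  · rintro ⟨n₀, hn⟩
    -- the length of `T(k)` is finite
    have hk : Module.length A (CohIII.T P p (ModuleCat.of A (ResidueField A))) ≠ ⊤ := by
      haveI : Module.Finite A (coker P (p + 1) p) := Module.Finite.quotient A _
      refine ne_top_of_le_ne_top ?_ (Module.length_le_of_injective
        (tι P (r := p + 1) rfl (ModuleCat.of A (ResidueField A))) (tι_injective P rfl _))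
      exact (length_residue_tensor (A := A) (coker P (p + 1) p)).symm ▸ ENat.coe_ne_top _
    have hepi : (CohIII.TFun P p).PreservesEpimorphisms := by
      refine preservesEpi_of_surjective_powers P hP n₀ fun n hn0 => ?_
      have hle : maximalIdeal A ^ (n + 1) ≤ maximalIdeal A := Ideal.pow_le_self n.succ_ne_zero
      let g := (Ideal.Quotient.factorₐ A hle).toLinearMap
      have hg : Surjective g := Ideal.Quotient.factor_surjective hle
      have hfl := MatlisLib.isFiniteLength_quotient_pow (maximalIdeal A) (n + 1)
      have hker : IsFiniteLength A (LinearMap.ker g) := by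
        obtain ⟨h1, h2⟩ := isFiniteLength_iff_isNoetherian_isArtinian.1 hfl
        exact isFiniteLength_iff_isNoetherian_isArtinian.2 ⟨inferInstance, inferInstance⟩
      have hex := exact_map' P hF (r := p + 1) rfl (sub_add_cancel p 1) (ModuleCat.ofHom (LinearMap.ker g).subtype)
        (ModuleCat.ofHom g) Subtype.val_injective g.exact_subtype_ker_map hg
      have hl : Module.length A (A ⧸ maximalIdeal A ^ (n + 1)) = Module.length A (LinearMap.ker g) + 1 := by
        rw [Module.length_eq_add_of_exact (LinearMap.ker g).subtype g (Submodule.subtype_injective _) hg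
          g.exact_subtype_ker_map]
        exact congrArg _ length_residueField
      set T := ((CohIII.TFun P p).map (ModuleCat.ofHom g)).hom
      set dd := Module.length A (CohIII.T P p (ModuleCat.of A (ResidueField A)))
      have h1 : dd * Module.length A (LinearMap.ker g) + dd ≤
          dd * Module.length A (LinearMap.ker g) + Module.length A (LinearMap.range T) := by
        calc _ = Module.length A (CohIII.T P p (ModuleCat.of A (A ⧸ maximalIdeal A ^ (n + 1)))) := by
              rw [hn n hn0, hl, mul_add, mul_one]
          _ ≤ _ := (length_le_add hex).trans (add_le_add (length_T_le' P hF p _ hker) le_rfl)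
      have h2 : dd ≤ Module.length A (LinearMap.range T) := by
        rwa [ENat.add_le_add_iff_left (WithTop.mul_ne_top hk (Module.length_ne_top_iff.2 hker))] at h1
      rw [← LinearMap.range_eq_top]
      obtain ⟨hnn, haa⟩ := isFiniteLength_iff_isNoetherian_isArtinian.1 (Module.length_ne_top_iff.1 hk)
      have : IsArtinian A ((CohIII.TFun P p).obj (ModuleCat.of A (A ⧸ maximalIdeal A))) := haa
      have : IsNoetherian A ((CohIII.TFun P p).obj (ModuleCat.of A (A ⧸ maximalIdeal A))) := hnn
      by_contra hne
      exact (Submodule.length_lt hne).not_ge h2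
    have hcoker := (preservesEpi_iff P hF (sub_add_cancel p 1)).1 hepi
    have htens : ∀ M : ModuleCat.{u} A, Module.length A (CohIII.T P p M) =
        Module.length A (P.homology p ⊗[A] M) := fun M => by
      obtain ⟨e, -⟩ := exists_obj_equiv_tensor P (r := p + 1) rfl (sub_add_cancel p 1) (hF _) M (.inr hcoker)
      exact e.length_eq
    have hdk : Module.length A (CohIII.T P p (ModuleCat.of A (ResidueField A))) = (d : ℕ∞) :=
      (htens _).trans (length_residue_tensor _)
    obtain ⟨v, hv⟩ := exists_minimal_generators (A := A) (P.homology p)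
    have hinj : Injective v := by
      rw [injective_iff_map_eq_zero]
      intro x hx
      funext i
      show x i = 0
      rw [← Submodule.mem_bot A, ← Ideal.iInf_pow_eq_bot_of_isLocalRing (maximalIdeal A)
        (maximalIdeal.isMaximal A).ne_top]
      refine Ideal.mem_iInf.2 fun j => Ideal.pow_le_pow_right
        (show j ≤ max n₀ j + 1 from (le_max_right _ _).trans (Nat.le_succ _)) ?_
      have hlenQ := hn (max n₀ j) (le_max_left _ _)
      rw [hdk, htens] at hlenQ
      let Q := A ⧸ maximalIdeal A ^ (max n₀ j + 1)
      let w : (Fin d → A) ⊗[A] Q ≃ₗ[A] (Fin d → Q) :=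
        (TensorProduct.comm A _ _).trans (TensorProduct.piScalarRight A A Q (Fin d))
      have hlenF : Module.length A ((Fin d → A) ⊗[A] Q) = (d : ℕ∞) * Module.length A Q := by
        rw [(w.trans (Finsupp.linearEquivFunOnFinite A Q (Fin d)).symm).length_eq, Module.length_finsupp,
          ENat.card_eq_coe_fintype_card, Fintype.card_fin]
      have hfl : Module.length A Q ≠ ⊤ :=
        Module.length_ne_top_iff.2 (MatlisLib.isFiniteLength_quotient_pow (maximalIdeal A) _)
      have hs : Surjective (v.rTensor Q) := LinearMap.rTensor_surjective Q hv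
      let K : Submodule A ((Fin d → A) ⊗[A] Q) := LinearMap.ker (v.rTensor Q)
      have h3 : Module.length A ((Fin d → A) ⊗[A] Q) = Module.length A K + Module.length A (P.homology p ⊗[A] Q) :=
        Module.length_eq_add_of_exact K.subtype (v.rTensor Q) K.subtype_injective hs
          (LinearMap.exact_subtype_ker_map (v.rTensor Q))
      have hlenQ' : Module.length A (P.homology p ⊗[A] Q) = (d : ℕ∞) * Module.length A Q := hlenQ
      rw [hlenF, hlenQ'] at h3
      have h4 : (0 : ℕ∞) + (d : ℕ∞) * Module.length A Q =
          Module.length A (LinearMap.ker (v.rTensor Q)) + (d : ℕ∞) * Module.length A Q := by rw [zero_add, ← h3]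
      replace h4 := WithTop.add_right_cancel (WithTop.mul_ne_top (ENat.coe_ne_top _) hfl) h4
      haveI := Module.length_eq_zero_iff.1 h4.symm
      have hx1 : (x ⊗ₜ[A] (1 : Q)) = 0 := congrArg Subtype.val (Subsingleton.elim
        (⟨x ⊗ₜ[A] (1 : Q), by rw [LinearMap.mem_ker, LinearMap.rTensor_tmul, hx, zero_tmul]⟩ :
          LinearMap.ker (v.rTensor Q)) 0)
      have h5 := congrFun (congrArg w hx1) i
      rw [map_zero] at h5
      simp only [w, LinearEquiv.trans_apply, TensorProduct.comm_tmul, TensorProduct.piScalarRight_apply,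
        TensorProduct.piScalarRightHom_tmul, Pi.zero_apply] at h5
      rw [← Ideal.Quotient.eq_zero_iff_mem]
      rw [Algebra.smul_def, mul_one] at h5
      exact h5
    haveI : Module.Free A (P.homology p) := Module.Free.of_equiv (LinearEquiv.ofBijective v ⟨hinj, hv⟩)
    rw [exact_iff_epi_and_flat P hF]
    exact ⟨hepi, inferInstance⟩

end Groth.Agent.BCCx
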