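import Groth.Agent.TFun.Cx
import Groth.Prelude.Def_ega3

/-!
# Cochain complexes as chain complexes
-/

set_option autoImplicit false
set_option backward.isDefEq.respectTransparency false
universe u v w

open CategoryTheory CategoryTheory.Limits HomologicalComplex

namespace Groth.Agent.BCCx

section

variable {C : Type v} [Category.{w} C] [Preadditive C]

/-- `n ↦ P (N - n)`. -/
def revF (N : ℤ) : CochainComplex C ℤ ⥤ ChainComplex C ℤ where
  obj P :=
    { X := fun n => P.X (N - n)
      d := fun i j => P.d (N - i) (N - j)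
      shape := fun i j h => P.shape _ _ fun h' => h (by
        simp only [ComplexShape.up_Rel, ComplexShape.down_Rel] at h' ⊢; omega)
      d_comp_d' := fun i j k _ _ => P.d_comp_d _ _ _ }
  map φ :=
    { f := fun n => φ.f (N - n)
      comm' := fun i j _ => φ.comm _ _ }

/-- `n ↦ P (N - n)`, from chain complexes. -/
def revF' (N : ℤ) : ChainComplex C ℤ ⥤ CochainComplex C ℤ where
  obj P :=
    { X := fun n => P.X (N - n)
      d := fun i j => P.d (N - i) (N - j)
      shape := fun i j h => P.shape _ _ fun h' => h (by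
        simp only [ComplexShape.up_Rel, ComplexShape.down_Rel] at h' ⊢; omega)
      d_comp_d' := fun i j k _ _ => P.d_comp_d _ _ _ }
  map φ :=
    { f := fun n => φ.f (N - n)
      comm' := fun i j _ => φ.comm _ _ }

/-- Homology of the reversed complex. -/
noncomputable def revHomIso [CategoryWithHomology C] (N p : ℤ) :
    revF N ⋙ homologyFunctor C (ComplexShape.down ℤ) p ≅ homologyFunctor C (ComplexShape.up ℤ) (N - p) :=
  Functor.isoWhiskerLeft (revF N) (homologyFunctorIso' C (ComplexShape.down ℤ) (p + 1) p (p - 1)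
      ((ComplexShape.down ℤ).prev_eq' rfl) ((ComplexShape.down ℤ).next_eq' (sub_add_cancel p 1))) ≪≫
    (homologyFunctorIso' C (ComplexShape.up ℤ) (N - (p + 1)) (N - p) (N - (p - 1))
      ((ComplexShape.up ℤ).prev_eq' (by simp only [ComplexShape.up_Rel]; omega))
      ((ComplexShape.up ℤ).next_eq' (by simp only [ComplexShape.up_Rel]; omega))).symm

/-- Homology of the reversed complex. -/
noncomputable def revHomIso' [CategoryWithHomology C] (N p : ℤ) :
    revF' N ⋙ homologyFunctor C (ComplexShape.up ℤ) p ≅ homologyFunctor C (ComplexShape.down ℤ) (N - p) :=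
  Functor.isoWhiskerLeft (revF' N) (homologyFunctorIso' C (ComplexShape.up ℤ) (p - 1) p (p + 1)
      ((ComplexShape.up ℤ).prev_eq' (sub_add_cancel p 1)) ((ComplexShape.up ℤ).next_eq' rfl)) ≪≫
    (homologyFunctorIso' C (ComplexShape.down ℤ) (N - (p - 1)) (N - p) (N - (p + 1))
      ((ComplexShape.down ℤ).prev_eq' (by simp only [ComplexShape.down_Rel]; omega))
      ((ComplexShape.down ℤ).next_eq' (by simp only [ComplexShape.down_Rel]; omega))).symm

end

variable {A : Type u} [CommRing A]

theorem rev_tensorObj (N : ℤ) (P : CochainComplex (ModuleCat.{u} A) ℤ) (M : ModuleCat.{u} A) :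
    (revF N).obj (CohIII.tensorObj P M) = CohIII.tensorObj ((revF N).obj P) M := rfl

theorem rev'_tensorObj (N : ℤ) (P : ChainComplex (ModuleCat.{u} A) ℤ) (M : ModuleCat.{u} A) :
    (revF' N).obj (CohIII.tensorObj P M) = CohIII.tensorObj ((revF' N).obj P) M := rfl

theorem rev_tensorMap (N : ℤ) (P : CochainComplex (ModuleCat.{u} A) ℤ) {M M' : ModuleCat.{u} A} (g : M ⟶ M') :
    (revF N).map (CohIII.tensorMap P g) = CohIII.tensorMap ((revF N).obj P) g := rfl

end Groth.Agent.BCCx
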