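import Groth.Agent.BCCx.Flat
import Groth.Agent.BCCx.Approx
import Groth.Agent.BCCx.Rev
import Groth.Agent.CohFinite.ProperFinite
import Groth.Agent.CohVanish.MV

/-!
# Cohomology and base change: the universal complex of a flat coherent sheaf
-/

set_option autoImplicit false
set_option linter.style.haveILetI false
set_option backward.isDefEq.respectTransparency false
set_option backward.isDefEq.respectTransparency.types false
universe u

open CategoryTheory CategoryTheory.Limits AlgebraicGeometry Opposite TopologicalSpace HomologicalComplex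

namespace Groth.Agent.BCCx

open Groth.Agent.CechCmp

section cover

/-- A finite affine cover with affine intersections. -/
theorem exists_cover (X : Scheme.{u}) [CompactSpace X] [X.IsSeparated] :
    ∃ (ι : Type u) (_ : Fintype ι) (U : ι → X.Opens), (⨆ i, U i = ⊤) ∧
      ∀ s : Finset ι, s.Nonempty → IsAffineOpen (RSh.meetOpen U s) := by
  obtain ⟨t, ht⟩ := isCompact_univ.elim_finite_subcover (fun V : X.affineOpens => (V.1 : Set X))
    (fun V => V.1.isOpen) (fun x _ => by
      obtain ⟨V, hV, hx, -⟩ := Opens.isBasis_iff_nbhd.1 X.isBasis_affineOpens (show x ∈ (⊤ : X.Opens) from trivial)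
      exact Set.mem_iUnion.2 ⟨⟨V, hV⟩, hx⟩)
  refine ⟨↥t, inferInstance, fun V => V.1.1, eq_top_iff.2 fun x _ => ?_, fun s hs => ?_⟩
  · obtain ⟨V, hVt, hx⟩ := Set.mem_iUnion₂.1 (ht (Set.mem_univ x))
    exact Opens.mem_iSup.2 ⟨⟨V, hVt⟩, hx⟩
  · haveI : Nonempty ↥s := hs.to_subtype
    have h : RSh.meetOpen (fun V : ↥t => V.1.1) s = ⨅ i : ↥s, (i.1.1.1 : X.Opens) := iInf_subtype'
    rw [h]
    exact IsAffineOpen.iInf fun i => i.1.1.2

end cover

variable {A : Type u} [CommRing A] {X : Scheme.{u}} [X.Over (Spec (CommRingCat.of A))]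

section cech

variable {ι : Type u} [DecidableEq ι] (U : ι → X.Opens) (hcov : ⨆ i, U i = ⊤)
  (hU : ∀ s : Finset ι, s.Nonempty → IsAffineOpen (RSh.meetOpen U s))

/-- Cohomology as the homology of the Čech complex. -/
noncomputable def hhCx (G : X.Modules) [G.IsQuasicoherent] (p : ℕ) :
    Coh.HH X G p ≃ₗ[A] (cx (sysOf (A := A) U G)).homology (p : ℤ) :=
  (({ hhCmp (Coh.toGlobal (X ↘ Spec (CommRingCat.of A))) U hcov hU G p with
      map_smul' := fun a x => hhCmp_smul (Coh.toGlobal (X ↘ Spec (CommRingCat.of A))) U hcov hU G p a x } :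
    Coh.HH X G p ≃ₗ[A] (sysOf (A := A) U G).H p)) ≪≫ₗ (hEquiv (sysOf (A := A) U G) p).symm

theorem hhCx_natural {G G' : X.Modules} [G.IsQuasicoherent] [G'.IsQuasicoherent] (f : G ⟶ G') (p : ℕ)
    (x : Coh.HH X G p) :
    hhCx U hcov hU G' p (Sheaf.H.map ((SheafOfModules.toSheaf X.ringCatSheaf).map f) p x) =
      homologyMap (cxMap (sysMap (A := A) U f)) (p : ℤ) (hhCx U hcov hU G p x) := by
  apply (hEquiv (sysOf (A := A) U G') p).injective
  rw [hEquiv_natural]
  simp only [hhCx, LinearEquiv.trans_apply, LinearEquiv.apply_symm_apply]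
  exact hhCmp_natural (Coh.toGlobal (X ↘ Spec (CommRingCat.of A))) U hcov hU f p x

theorem isZero_homology_neg (S : Sys A ι) (n : ℕ) : IsZero ((cx S).homology (Int.negSucc n)) :=
  ((cx S).exactAt_iff_isZero_homology _).1 (ShortComplex.exact_of_isZero_X₂ _ (isZero_cx_neg S n))

include hcov hU in
theorem finite_homology_cx [IsNoetherianRing A] [IsProper (X ↘ Spec (CommRingCat.of A))] (F : X.Modules)
    (hF : Coh.IsCoh F) : ∀ i : ℤ, Module.Finite A ((cx (sysOf (A := A) U F)).homology i)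
  | Int.ofNat m => by
    haveI : F.IsQuasicoherent := hF.1
    haveI := CohFinite.finite_HH_of_allFin (CohFinite.allFin_of_isProper (X ↘ Spec (CommRingCat.of A)) F hF) m
    exact Module.Finite.equiv (hhCx U hcov hU F m)
  | Int.negSucc m => by
    haveI := ModuleCat.isZero_iff_subsingleton.1 (isZero_homology_neg (sysOf (A := A) U F) m)
    exact Module.Finite.of_finite

end cech

/-- **The universal complex.** There is a complex of finite free modules computing the cohomology of
`F ⊗_A M`, linearly and naturally in `M`. -/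
theorem exists_main' [IsNoetherianRing A] [IsProper (X ↘ Spec (CommRingCat.of A))] (F : X.Modules)
    (hF : Coh.IsCoh F) (hfl : FlatMod.IsFlatOver (X ↘ Spec (CommRingCat.of A)) F) :
    ∃ (N : ℕ) (L : ChainComplex (ModuleCat.{u} A) ℤ),
      (∀ i, Module.Finite A (L.X i) ∧ Module.Free A (L.X i)) ∧ (∀ i < 0, IsZero (L.X i)) ∧
      (∀ q : ℤ, (N : ℤ) < q → ∀ M : ModuleCat.{u} A, IsZero ((CohIII.TFun L q).obj M)) ∧
      ∀ (p : ℕ) (q : ℤ), (N : ℤ) - q = (p : ℤ) →
        ∃ e : ∀ M : ModuleCat.{u} A, Coh.HH X ((TA A F).obj M) p ≃ₗ[A] (CohIII.TFun L q).obj M,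
          ∀ (M M' : ModuleCat.{u} A) (g : M ⟶ M') (x : Coh.HH X ((TA A F).obj M) p),
            e M' (Sheaf.H.map ((SheafOfModules.toSheaf X.ringCatSheaf).map ((TA A F).map g)) p x) =
              (CohIII.TFun L q).map g (e M x) := by
  classical
  haveI : F.IsQuasicoherent := hF.1
  haveI : CompactSpace X := QuasiCompact.compactSpace_of_compactSpace (X ↘ Spec (CommRingCat.of A))
  haveI : X.IsSeparated := ⟨by
    rw [← terminal.comp_from (X ↘ Spec (CommRingCat.of A))]; infer_instance⟩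
  haveI : QuasiSeparatedSpace X := inferInstance
  obtain ⟨ι, _, U, hcov, hU⟩ := exists_cover X
  obtain ⟨d, hd⟩ := CohVanish.exists_cohomological_bound (Y := X)
  let C := cx (sysOf (A := A) U F)
  let K := (revF (d : ℤ)).obj C
  let idx : ∀ (q : ℤ) (i : ℤ), (d : ℤ) - q = i →
      (revF (C := ModuleCat.{u} A) (d : ℤ) ⋙ homologyFunctor _ (ComplexShape.down ℤ) q ≅
        homologyFunctor _ (ComplexShape.up ℤ) i) := fun q i h =>
    revHomIso (d : ℤ) q ≪≫ eqToIso (congrArg (fun j => homologyFunctor (ModuleCat.{u} A) (ComplexShape.up ℤ) j) h)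
  haveI hpsi : ∀ M : ModuleCat.{u} A, IsIso (psiCx F U M) := fun M => isIso_psiCx F U hU M
  obtain ⟨L, f, hL, hL0, hiso⟩ := exists_approx_univ K (fun i => flat_cx F hfl U hU _)
    (fun n => by
      haveI : Module.Finite A ((homologyFunctor (ModuleCat.{u} A) (ComplexShape.up ℤ) ((d : ℤ) - n)).obj C) :=
        finite_homology_cx (A := A) U hcov hU F hF ((d : ℤ) - n)
      exact Module.Finite.equiv ((idx n _ rfl).app C).toLinearEquiv.symm)
    (fun n hn => by
      obtain ⟨m, hm⟩ : ∃ m : ℕ, (d : ℤ) - n = (m : ℤ) := ⟨((d : ℤ) - n).toNat, by omega⟩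
      refine IsZero.of_iso (ModuleCat.isZero_iff_subsingleton.2 ?_) ((idx n _ hm).app C)
      haveI := hd F m (by omega)
      exact (hhCx (A := A) U hcov hU F m).surjective.subsingleton)
    (fun n hn M => by
      obtain ⟨m, hm⟩ : ∃ m : ℕ, (d : ℤ) - n = (m : ℤ) := ⟨((d : ℤ) - n).toNat, by omega⟩
      refine IsZero.of_iso (ModuleCat.isZero_iff_subsingleton.2 ?_)
        ((idx n _ hm).app (CohIII.tensorObj C M) ≪≫ asIso (homologyMap (psiCx F U M) (m : ℤ)))
      haveI := hd ((TA A F).obj M) m (by omega)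
      exact (hhCx (A := A) U hcov hU ((TA A F).obj M) m).surjective.subsingleton)
  refine ⟨d, L, hL, fun i hi => haveI := hL0 i hi; ModuleCat.isZero_of_subsingleton _,
    fun q hq M => ?_, fun p q hpq => ?_⟩
  · obtain ⟨m, hm⟩ : ∃ m : ℕ, (d : ℤ) - q = Int.negSucc m := ⟨(q - d - 1).toNat, by omega⟩
    haveI := hiso q M
    exact IsZero.of_iso (isZero_homology_neg _ m)
      (asIso (homologyMap (((MonoidalCategory.tensorRight M).mapHomologicalComplex _).map f) q) ≪≫
        (idx q _ hm).app (CohIII.tensorObj C M) ≪≫ asIso (homologyMap (psiCx F U M) (Int.negSucc m)))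
  let tf : ∀ M : ModuleCat.{u} A, CohIII.tensorObj L M ⟶ (revF (d : ℤ)).obj (CohIII.tensorObj C M) :=
    fun M => ((MonoidalCategory.tensorRight M).mapHomologicalComplex _).map f
  have htf : ∀ M, IsIso (homologyMap (tf M) q) := fun M => hiso q M
  let E : ∀ M : ModuleCat.{u} A, (CohIII.TFun L q).obj M ≅ (cx (sysOf (A := A) U ((TA A F).obj M))).homology (p : ℤ) :=
    fun M => @asIso _ _ _ _ (homologyMap (tf M) q) (htf M) ≪≫ (idx q _ hpq).app (CohIII.tensorObj C M) ≪≫
      asIso (homologyMap (psiCx F U M) (p : ℤ))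
  refine ⟨fun M => hhCx U hcov hU ((TA A F).obj M) p ≪≫ₗ (E M).toLinearEquiv.symm, fun M M' g x => ?_⟩
  have hE : (CohIII.TFun L q).map g ≫ (E M').hom =
      (E M).hom ≫ homologyMap (cxMap (sysMap (A := A) U ((TA A F).map g))) (p : ℤ) := by
    have h1 : CohIII.tensorMap L g ≫ tf M' = tf M ≫ (revF (d : ℤ)).map (CohIII.tensorMap C g) :=
      HomologicalComplex.hom_ext _ _ fun i => ModuleCat.hom_ext (TensorProduct.ext' fun _ _ => rfl)
    show homologyMap (CohIII.tensorMap L g) q ≫ homologyMap (tf M') q ≫ _ ≫ homologyMap (psiCx F U M') (p : ℤ) =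
      (homologyMap (tf M) q ≫ _ ≫ homologyMap (psiCx F U M) (p : ℤ)) ≫ _
    rw [← homologyMap_comp_assoc, h1, homologyMap_comp_assoc, Category.assoc, Category.assoc,
      ← homologyMap_comp (psiCx F U M), ← psiCx_natural, homologyMap_comp]
    congr 1
    exact (reassoc_of% ((idx q _ hpq).hom.naturality (CohIII.tensorMap C g))) _
  rw [LinearEquiv.trans_apply, LinearEquiv.trans_apply, hhCx_natural, LinearEquiv.symm_apply_eq]
  refine Eq.trans ?_ (ConcreteCategory.congr_hom hE ((E M).toLinearEquiv.symm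
    (hhCx U hcov hU ((TA A F).obj M) p x))).symm
  exact (congrArg _ ((E M).toLinearEquiv.apply_symm_apply _)).symm

/-- **The universal complex.** There is a complex of finite free modules computing the cohomology of
`F ⊗_A M`, linearly and naturally in `M`. -/
theorem exists_main [IsNoetherianRing A] [IsProper (X ↘ Spec (CommRingCat.of A))] (F : X.Modules)
    (hF : Coh.IsCoh F) (hfl : FlatMod.IsFlatOver (X ↘ Spec (CommRingCat.of A)) F) :
    ∃ (N : ℕ) (L : ChainComplex (ModuleCat.{u} A) ℤ),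
      (∀ i, Module.Finite A (L.X i) ∧ Module.Free A (L.X i)) ∧ (∀ i < 0, IsZero (L.X i)) ∧
      ∀ (p : ℕ) (q : ℤ), (N : ℤ) - q = (p : ℤ) →
        ∃ e : ∀ M : ModuleCat.{u} A, Coh.HH X ((TA A F).obj M) p ≃ₗ[A] (CohIII.TFun L q).obj M,
          ∀ (M M' : ModuleCat.{u} A) (g : M ⟶ M') (x : Coh.HH X ((TA A F).obj M) p),
            e M' (Sheaf.H.map ((SheafOfModules.toSheaf X.ringCatSheaf).map ((TA A F).map g)) p x) =
              (CohIII.TFun L q).map g (e M x) := by
  obtain ⟨N, L, hL, hL0, -, h⟩ := exists_main' F hF hfl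
  exact ⟨N, L, hL, hL0, h⟩

/-- The universal complex, as isomorphisms of functors. -/
theorem exists_natIso [IsNoetherianRing A] [IsProper (X ↘ Spec (CommRingCat.of A))] (F : X.Modules)
    (hF : Coh.IsCoh F) (hfl : FlatMod.IsFlatOver (X ↘ Spec (CommRingCat.of A)) F) :
    ∃ (N : ℕ) (L : ChainComplex (ModuleCat.{u} A) ℤ),
      (∀ i, Module.Finite A (L.X i) ∧ Module.Free A (L.X i)) ∧ (∀ i < 0, IsZero (L.X i)) ∧
      ∀ (p : ℕ) (q : ℤ), (N : ℤ) - q = (p : ℤ) →
        Nonempty (CohIII.tensorAFunctor A F ⋙ CohIII.HAb X p ≅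
          CohIII.TFun L q ⋙ forget₂ (ModuleCat.{u} A) AddCommGrpCat.{u}) := by
  obtain ⟨N, L, hL, hL0, h⟩ := exists_main F hF hfl
  refine ⟨N, L, hL, hL0, fun p q hpq => ?_⟩
  obtain ⟨e, he⟩ := h p q hpq
  exact ⟨NatIso.ofComponents (fun M => AddEquiv.toAddCommGrpIso (X := (TA A F ⋙ CohIII.HAb X p).obj M)
    (Y := (CohIII.TFun L q ⋙ forget₂ (ModuleCat.{u} A) AddCommGrpCat.{u}).obj M) (e M).toAddEquiv)
    fun {M M'} g => AddCommGrpCat.ext fun x => he M M' g x⟩

end Groth.Agent.BCCx
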