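import Groth.Agent.BCCx.Tensor
import Groth.Prelude.Def_Formal
import Mathlib.Algebra.Category.ModuleCat.Colimits

/-!
# `F/IF = F ⊗_A A/I`
-/

set_option autoImplicit false
set_option linter.style.haveILetI false
set_option backward.isDefEq.respectTransparency false
universe u

open CategoryTheory CategoryTheory.Limits AlgebraicGeometry

namespace Groth.Agent.BCCx

variable (A : Type u) [CommRing A] {X : Scheme.{u}} [X.Over (Spec (CommRingCat.of A))] (F : X.Modules)

/-- `A → A/J`. -/
noncomputable abbrev quotMap (J : Ideal A) : ModuleCat.of A A ⟶ ModuleCat.of A (A ⧸ J) :=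
  ModuleCat.ofHom (Submodule.mkQ J)

theorem exists_iso_cokernel_smulFamily (J : Ideal A) :
    ∃ e : cokernel (Formal.smulFamily J F) ≅ (TA A F).obj (ModuleCat.of A (A ⧸ J)),
      cokernel.π (Formal.smulFamily J F) ≫ e.hom = (rho A F).inv ≫ (TA A F).map (quotMap A J) := by
  let f : J → ModuleCat.{u} A := fun _ => ModuleCat.of A A
  let s : ∐ f ⟶ ModuleCat.of A A := Sigma.desc fun a : J => (a : A) • 𝟙 (ModuleCat.of A A)
  have hsg : s ≫ quotMap A J = 0 := Sigma.hom_ext _ _ fun a => by
    rw [Sigma.ι_desc_assoc, comp_zero]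
    refine ModuleCat.hom_ext (LinearMap.ext fun x => ?_)
    exact (Submodule.Quotient.mk_eq_zero J).2 (J.mul_mem_right x a.2)
  have hex : (ShortComplex.mk s (quotMap A J) hsg).Exact := by
    rw [ShortComplex.moduleCat_exact_iff]
    intro x hx
    have hxJ : (x : A) ∈ J := (Submodule.Quotient.mk_eq_zero J).1 hx
    refine ⟨(Sigma.ι f ⟨x, hxJ⟩) (1 : A), ?_⟩
    refine (ConcreteCategory.congr_hom (Sigma.ι_desc (fun a : J => (a : A) • 𝟙 (ModuleCat.of A A)) ⟨x, hxJ⟩) (1 : A)).trans ?_
    exact mul_one (x : A)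
  haveI : Epi (ShortComplex.mk s (quotMap A J) hsg).g :=
    (ModuleCat.epi_iff_surjective _).2 (Submodule.mkQ_surjective J)
  haveI : PreservesColimit (parallelPair s 0) (TA A F) := inferInstance
  have hT := CokernelCofork.mapIsColimit (CokernelCofork.ofπ (quotMap A J) hsg) hex.gIsCokernel (TA A F)
  -- the two families agree
  let σ : (∐ fun _ : J => F) ≅ (TA A F).obj (∐ f) :=
    Sigma.mapIso (fun _ => (rho A F).symm) ≪≫ (PreservesCoproduct.iso (TA A F) f).symm
  have hσ : σ.hom ≫ (TA A F).map s = Formal.smulFamily J F ≫ (rho A F).inv := by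
    refine Sigma.hom_ext _ _ fun a => ?_
    have h1 : Sigma.ι (fun j => (TA A F).obj (f j)) a ≫ (PreservesCoproduct.iso (TA A F) f).inv =
        (TA A F).map (Sigma.ι f a) := ι_comp_sigmaComparison (TA A F) f a
    rw [show Formal.smulFamily J F = Sigma.desc fun a : J => Formal.smulMod A F (a : A) from rfl,
      Sigma.ι_desc_assoc]
    simp only [σ, Iso.trans_hom, Iso.symm_hom, Category.assoc]
    rw [show (Sigma.mapIso fun _ : J => (rho A F).symm).hom = Limits.Sigma.map fun _ : J => (rho A F).inv from rfl]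
    rw [Sigma.ι_map_assoc, reassoc_of% h1, ← Functor.map_comp, Sigma.ι_desc, TA_map_smul,
      FormalFun.smulMod_natural]
  refine ⟨cokernel.mapIso _ _ σ (rho A F).symm hσ.symm ≪≫
    (cokernelIsCokernel _).coconePointUniqueUpToIso hT, ?_⟩
  rw [Iso.trans_hom, cokernel.mapIso_hom, cokernel.map, cokernel.π_desc_assoc, Category.assoc]
  congr 1
  exact (cokernelIsCokernel ((TA A F).map s)).comp_coconePointUniqueUpToIso_hom hT WalkingParallelPair.one

end Groth.Agent.BCCx
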