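import Groth.Agent.BCCx.Near
import Groth.Agent.BCCx.HomSec
import Groth.Agent.BCCx.IsoLocus
import Groth.Agent.SSExist.ExtSheafHom
import Groth.Agent.DCohPerf.Coherent
import Groth.Agent.HilbLoc.ConormalFree
import Groth.Agent.ModGroth.FinLocFree

/-!
# Lifting morphisms of finite locally free modules from a fibre
-/

set_option autoImplicit false
set_option linter.style.haveILetI false
set_option backward.isDefEq.respectTransparency false
set_option maxHeartbeats 1600000
universe u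

open CategoryTheory CategoryTheory.Limits AlgebraicGeometry Opposite TopologicalSpace

namespace Groth.Agent.BCCx.HomBC

open Groth.Agent.ModGroth Groth.Agent.ModGroth.LocBasis Groth.Agent.ProjUniv Groth.Agent.InvPow
  Groth.Agent.HigherDirect

variable {X X' : Scheme.{u}}

theorem isFinLocFree_of_bases {M : X.Modules}
    (h : ∀ x : X, ∃ (U : X.Opens) (k : ℕ) (s : Fin k → Γ(M, U)), x ∈ U ∧ IsBasis (O := X.sheaf) M s) :
    FlatMod.IsFinLocFree M :=
  HilbLoc.isFinLocFree_of_affine_basis M fun x => by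
    obtain ⟨U, k, s, hx, hs⟩ := h x
    exact ⟨U, k, s, hx, fun W hW => basis_bijective hs hW⟩

theorem isFinLocFree_pull (g : X' ⟶ X) {F : X.Modules} (hF : FlatMod.IsFinLocFree F) :
    FlatMod.IsFinLocFree ((Scheme.Modules.pullback g).obj F) :=
  isFinLocFree_of_bases fun x => by
    obtain ⟨U, n, e, hx, he⟩ := exists_isBasis hF (g.base x)
    exact ⟨g ⁻¹ᵁ U, n, fun i => pull g F (e i), hx, isBasis_pSec g he⟩

theorem isFlatOver_of_finLocFree (f : X ⟶ X') [Flat f] {M : X.Modules} (hM : FlatMod.IsFinLocFree M) :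
    FlatMod.IsFlatOver f M := fun x => by
  letI := FlatMod.moduleStalkOver f M x
  letI : Algebra (X'.presheaf.stalk (f.base x)) (X.presheaf.stalk x) := (f.stalkMap x).hom.toAlgebra
  haveI : IsScalarTower (X'.presheaf.stalk (f.base x)) (X.presheaf.stalk x) (M.presheaf.stalk x) :=
    IsScalarTower.of_algebraMap_smul fun _ _ => rfl
  haveI : Module.Flat (X'.presheaf.stalk (f.base x)) (X.presheaf.stalk x) := Flat.stalkMap f x
  haveI : Module.Flat (X.presheaf.stalk x) (M.presheaf.stalk x) := Perf.isFlat_of_isFinLocFree hM x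
  exact Module.Flat.trans (X'.presheaf.stalk (f.base x)) (X.presheaf.stalk x) (M.presheaf.stalk x)

/-- Functoriality of the internal hom in the target. -/
noncomputable def hom₂MapIso (F : X.Modules) {G G' : X.Modules} (e : G ≅ G') : hom₂ F G ≅ hom₂ F G' :=
  haveI := hasSheafHom (O := X.sheaf) F
  (ModSite.sheafHom (O := X.sheaf) F).mapIso e

theorem isIso_secHom_smul (F G : X.Modules) (u : Γ(X, ⊤)) (hu : IsUnit u) (t : Γ(hom₂ F G, ⊤))
    [IsIso (secHom F G t)] : IsIso (secHom F G (u • t)) := by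
  have key : ∀ W : X.Opens, Function.Bijective ((secHom F G (u • t)).app W) := fun W => by
    have h1 : ∀ x, (secHom F G (u • t)).app W x = resR (le_top : W ≤ ⊤) u • (secHom F G t).app W x := fun x => by
      rw [secHom_app, secHom_app, show gres (hom₂ F G) (u • t) W =
        resR (le_top : W ≤ ⊤) u • gres (hom₂ F G) t W from ProjUniv.res_smul _ _ _ _, ev_smul_left]
    rw [show ⇑((secHom F G (u • t)).app W) =
      (fun z => resR (le_top : W ≤ ⊤) u • z) ∘ ⇑((secHom F G t).app W) from funext h1]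
    exact ((hu.map (X.presheaf.map (homOfLE (le_top : W ≤ ⊤)).op).hom).smul_bijective).comp
      (app_bijective_of_isIso _ W)
  rw [isIso_iff_mono_and_epi, QCohLib.mono_iff_app_injective]
  exact ⟨fun W => (key W).1, QCohLib.epi_of_app_surjective _ (B := Set.univ)
    (Opens.isBasis_iff_nbhd.mpr fun {W z} hz => ⟨W, trivial, hz, le_rfl⟩) fun W _ => (key W).2⟩

/-- Finite locally free modules isomorphic on a fibre without `H¹(End)` are isomorphic near it. -/
theorem exists_iso_near_fibre {X Y : Scheme.{u}} (f : X ⟶ Y) [IsProper f] [Flat f] [IsLocallyNoetherian Y]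
    (y : Y) {F G : X.Modules} (hF : FlatMod.IsFinLocFree F) (hG : FlatMod.IsFinLocFree G)
    (τ : CohIII.fiberMod f F y ≅ CohIII.fiberMod f G y)
    (h1 : Subsingleton (Coh.HH (f.fiber y) (hom₂ (CohIII.fiberMod f F y) (CohIII.fiberMod f F y)) 1)) :
    ∃ (D : Scheme.{u}) (j : D ⟶ X) (_ : IsOpenImmersion j), (∀ x : X, f.base x = y → x ∈ Set.range j.base) ∧
      Nonempty ((Scheme.Modules.pullback j).obj F ≅ (Scheme.Modules.pullback j).obj G) := by
  obtain ⟨V, hV, hyV, -⟩ := exists_isAffineOpen_mem_and_subset (x := y) (U := (⊤ : Y.Opens)) trivial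
  let H := hom₂ F G
  have hH : FlatMod.IsFinLocFree H := isFinLocFree_of_bases (exists_isBasis_hom₂ hF hG)
  haveI hc : IsIso (cmp (f.fiberι y) F G) := isIso_cmp _ hF hG
  let m : CohIII.fiberMod f H y ≅ hom₂ (CohIII.fiberMod f F y) (CohIII.fiberMod f F y) :=
    asIso (cmp (f.fiberι y) F G) ≪≫ hom₂MapIso _ τ.symm
  have hsub : Subsingleton (CohIII.fiberH f H y 1) := ⟨fun a b =>
    ((CohIII.HAb (f.fiber y) 1).mapIso m).addCommGroupIsoToAddEquiv.injective (@Subsingleton.elim _ h1 _ _)⟩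
  obtain ⟨g, hg, hsq⟩ := exists_fiber_square f hV y hyV
  let i := (f ⁻¹ᵁ V).ι
  let Fp := (Scheme.Modules.pullback i).obj F
  let Gp := (Scheme.Modules.pullback i).obj G
  have hFp : FlatMod.IsFinLocFree Fp := isFinLocFree_pull i hF
  have hGp : FlatMod.IsFinLocFree Gp := isFinLocFree_pull i hG
  haveI hci : IsIso (cmp i F G) := isIso_cmp _ hF hG
  haveI hcg : IsIso (cmp g Fp Gp) := isIso_cmp _ hFp hGp
  let ρ : H.restrict i ≅ hom₂ Fp Gp := (Scheme.Modules.restrictFunctorIsoPullback i).app H ≪≫ asIso (cmp i F G)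
  let a : ∀ M : X.Modules, (Scheme.Modules.pullback g).obj ((Scheme.Modules.pullback i).obj M) ≅
      CohIII.fiberMod f M y :=
    fun M => (Scheme.Modules.pullbackComp g i).app M ≪≫ (Scheme.Modules.pullbackCongr hg).app M
  obtain ⟨t₀, ht₀⟩ := exists_section_of_hom (isFinLocFree_pull g hFp) (a F ≪≫ τ ≪≫ (a G).symm).hom
  let e' : (Scheme.Modules.pullback g).obj (H.restrict i) ≅
      hom₂ ((Scheme.Modules.pullback g).obj Fp) ((Scheme.Modules.pullback g).obj Gp) :=
    (Scheme.Modules.pullback g).mapIso ρ ≪≫ asIso (cmp g Fp Gp)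
  obtain ⟨σ, a₀, ha₀, hσ⟩ := exists_lift_fibre f H (DCohPerf.isCoh_finLocFree hH) (isFlatOver_of_finLocFree f hH) hV y hyV
    g hsq hsub (e'.inv.app ⊤ t₀)
  let u : Γ(f.fiber y, g ⁻¹ᵁ ⊤) := g.appTop (Coh.toGlobal (overSec f hV) a₀)
  have hu : IsUnit u := isUnit_appTop f hV y hyV g hsq a₀ ha₀
  change _ = u • _ at hσ
  let v : Fp ⟶ Gp := secHom Fp Gp (ρ.hom.app ⊤ σ)
  have hv : (cmp g Fp Gp).app (g ⁻¹ᵁ ⊤) (pull g (hom₂ Fp Gp) (ρ.hom.app ⊤ σ)) =
      u • gres _ t₀ (g ⁻¹ᵁ ⊤) := by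
    have e1 : pull g (hom₂ Fp Gp) (ρ.hom.app ⊤ σ) =
        ((Scheme.Modules.pullback g).map ρ.hom).app (g ⁻¹ᵁ ⊤) (pullLoc g (H.restrict i) σ) :=
      ConcreteCategory.congr_hom (congrArg (fun φ => Scheme.Modules.Hom.app φ ⊤)
        ((Scheme.Modules.pullbackPushforwardAdjunction g).unit.naturality ρ.hom)) σ
    rw [e1]
    show e'.hom.app (g ⁻¹ᵁ ⊤) (pullLoc g (H.restrict i) σ) = _
    rw [hσ, Scheme.Modules.Hom.app_smul]
    refine congrArg (u • ·) ?_
    refine (QCohLib.app_map e'.hom _ _).trans (congrArg (res _ _) ?_)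
    exact ConcreteCategory.congr_hom (congrArg (fun φ => Scheme.Modules.Hom.app φ ⊤) e'.inv_hom_id) t₀
  haveI : IsIso (secHom ((Scheme.Modules.pullback g).obj Fp) ((Scheme.Modules.pullback g).obj Gp) t₀) := by
    rw [ht₀]; infer_instance
  haveI : IsIso ((Scheme.Modules.pullback g).map v) := by
    rw [map_secHom, hv]
    haveI : IsIso (secHom ((Scheme.Modules.pullback g).obj Fp) ((Scheme.Modules.pullback g).obj Gp)
        (gres _ t₀ ⊤)) := by
      rw [show gres _ t₀ ⊤ = t₀ from QCohLib.map_self _ le_top t₀]; assumption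
    exact isIso_secHom_smul _ _ u hu (gres _ t₀ ⊤)
  obtain ⟨D, hD, hiso⟩ := exists_iso_nhd g hFp hGp v
  let θ : (Scheme.Modules.pullback D.ι).obj Fp ≅ (Scheme.Modules.pullback D.ι).obj Gp :=
    ((Scheme.Modules.restrictFunctorIsoPullback D.ι).app Fp).symm ≪≫
      @asIso _ _ _ _ ((Scheme.Modules.restrictFunctor D.ι).map v) hiso ≪≫
      (Scheme.Modules.restrictFunctorIsoPullback D.ι).app Gp
  refine ⟨D, D.ι ≫ i, inferInstance, fun x hx => ?_,
    ⟨((Scheme.Modules.pullbackComp D.ι i).app F).symm ≪≫ θ ≪≫ (Scheme.Modules.pullbackComp D.ι i).app G⟩⟩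
  obtain ⟨x', rfl⟩ : x ∈ Set.range (f.fiberι y).base := by rw [f.range_fiberι y]; exact hx
  exact ⟨⟨g.base x', hD x'⟩, by rw [← hg]; rfl⟩

end Groth.Agent.BCCx.HomBC
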