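import Groth.Agent.BCCx.NearFree

/-!
# Lifting morphisms from the closed fibre
-/

set_option autoImplicit false
set_option linter.style.haveILetI false
set_option backward.isDefEq.respectTransparency false
set_option maxHeartbeats 1600000
universe u

open CategoryTheory CategoryTheory.Limits AlgebraicGeometry Opposite TopologicalSpace

namespace Groth.Agent.BCCx.HomBC

open Groth.Agent.ModGroth Groth.Agent.ModGroth.LocBasis Groth.Agent.ProjUniv Groth.Agent.InvPow
  Groth.Agent.HigherDirect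

theorem eq_top_of_closedPoint_mem {A : Type u} [CommRing A] [IsLocalRing A]
    (U : (Spec (CommRingCat.of A)).Opens) (h : (IsLocalRing.closedPoint A : Spec (CommRingCat.of A)) ∈ U) : U = ⊤ :=
  eq_top_iff.2 fun x _ => ((IsLocalRing.specializes_closedPoint (R := A) x).mem_open U.2 h)

/-- A global section restricted, then pulled back. -/
theorem restrictIso_res {X X' : Scheme.{u}} (i : X' ⟶ X) [IsOpenImmersion i] (M : X.Modules) (s : Γ(M, ⊤)) :
    ((Scheme.Modules.restrictFunctorIsoPullback i).app M).hom.app (i ⁻¹ᵁ ⊤)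
      (M.presheaf.map (homOfLE (i.image_preimage_le ⊤)).op s) = pull i M s :=
  ConcreteCategory.congr_hom (congrArg (fun φ => Scheme.Modules.Hom.app φ ⊤)
    (Adjunction.unit_leftAdjointUniq_hom_app (Scheme.Modules.restrictAdjunction i)
      (Scheme.Modules.pullbackPushforwardAdjunction i) M)) s

/-- A morphism on the closed fibre lifts. -/
theorem exists_hom_lift {A : Type u} [CommRing A] [IsNoetherianRing A] [IsLocalRing A] {X : Scheme.{u}}
    (f : X ⟶ Spec (CommRingCat.of A)) [IsProper f] [Flat f] {F G : X.Modules} (hF : FlatMod.IsFinLocFree F)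
    (hG : FlatMod.IsFinLocFree G)
    (u₀ : CohIII.fiberMod f F (IsLocalRing.closedPoint A) ⟶ CohIII.fiberMod f G (IsLocalRing.closedPoint A))
    (h1 : Subsingleton (Coh.HH (f.fiber (IsLocalRing.closedPoint A))
      (hom₂ (CohIII.fiberMod f F (IsLocalRing.closedPoint A)) (CohIII.fiberMod f G (IsLocalRing.closedPoint A))) 1)) :
    ∃ u : F ⟶ G, (Scheme.Modules.pullback (f.fiberι (IsLocalRing.closedPoint A))).map u = u₀ := by
  let y : Spec (CommRingCat.of A) := IsLocalRing.closedPoint A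
  let V : (Spec (CommRingCat.of A)).Opens := ⊤
  have hV : IsAffineOpen V := isAffineOpen_top _
  have hyV : y ∈ V := trivial
  let H := hom₂ F G
  have hH : FlatMod.IsFinLocFree H := isFinLocFree_of_bases (exists_isBasis_hom₂ hF hG)
  haveI hc : IsIso (cmp (f.fiberι y) F G) := isIso_cmp _ hF hG
  have hsub : Subsingleton (CohIII.fiberH f H y 1) := ⟨fun a b =>
    ((CohIII.HAb (f.fiber y) 1).mapIso (asIso (cmp (f.fiberι y) F G))).addCommGroupIsoToAddEquiv.injective
      (@Subsingleton.elim _ h1 _ _)⟩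
  obtain ⟨g, hg, hsq⟩ := exists_fiber_square f hV y hyV
  let i := (f ⁻¹ᵁ V).ι
  let Fp := (Scheme.Modules.pullback i).obj F
  let Gp := (Scheme.Modules.pullback i).obj G
  have hFp : FlatMod.IsFinLocFree Fp := isFinLocFree_pull i hF
  have hGp : FlatMod.IsFinLocFree Gp := isFinLocFree_pull i hG
  haveI hci : IsIso (cmp i F G) := isIso_cmp _ hF hG
  haveI hcg : IsIso (cmp g Fp Gp) := isIso_cmp _ hFp hGp
  let ρ : H.restrict i ≅ hom₂ Fp Gp := (Scheme.Modules.restrictFunctorIsoPullback i).app H ≪≫ asIso (cmp i F G)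
  let a : ∀ M : X.Modules, (Scheme.Modules.pullback g).obj ((Scheme.Modules.pullback i).obj M) ≅
      CohIII.fiberMod f M y :=
    fun M => (Scheme.Modules.pullbackComp g i).app M ≪≫ (Scheme.Modules.pullbackCongr hg).app M
  obtain ⟨t₀, ht₀⟩ := exists_section_of_hom (isFinLocFree_pull g hFp) ((a F).hom ≫ u₀ ≫ (a G).inv)
  let e' : (Scheme.Modules.pullback g).obj (H.restrict i) ≅
      hom₂ ((Scheme.Modules.pullback g).obj Fp) ((Scheme.Modules.pullback g).obj Gp) :=
    (Scheme.Modules.pullback g).mapIso ρ ≪≫ asIso (cmp g Fp Gp)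
  obtain ⟨σ₁, c, hc0, hσ₁⟩ := exists_lift_fibre f H (DCohPerf.isCoh_finLocFree hH) (isFlatOver_of_finLocFree f hH)
    hV y hyV g hsq hsub (e'.inv.app ⊤ t₀)
  have hcu : IsUnit c := (Spec (CommRingCat.of A)).toRingedSpace.isUnit_of_isUnit_germ _ c fun z hz => by
    have h2 := eq_top_of_closedPoint_mem ((Spec (CommRingCat.of A)).basicOpen c)
      (mem_basicOpen_of_notMem_ker y hyV c fun h => hc0 (RingHom.mem_ker.1 h))
    exact ((Spec (CommRingCat.of A)).mem_basicOpen c z hz).1 (h2.ge trivial)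
  let cX : Γ((f ⁻¹ᵁ V).toScheme, ⊤) := Coh.toGlobal (overSec f hV) c
  obtain ⟨r, hr⟩ := isUnit_iff_exists_inv'.1 (show IsUnit cX from hcu.map (Coh.toGlobal (overSec f hV)))
  let σ : Γ(H.restrict i, ⊤) := r • σ₁
  have hσ : pullLoc g (H.restrict i) σ = gres _ (e'.inv.app ⊤ t₀) (g ⁻¹ᵁ ⊤) := by
    show pullLoc g (H.restrict i) (r • σ₁) = _
    rw [pullLoc_smul, hσ₁, smul_smul]
    have e : (g.app ⊤ r : Γ(f.fiber y, g ⁻¹ᵁ ⊤)) * g.app ⊤ cX = 1 := by rw [← map_mul, hr, map_one]
    exact (congrArg (· • gres _ (e'.inv.app ⊤ t₀) (g ⁻¹ᵁ ⊤)) e).trans (one_smul _ _)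
  let v : Fp ⟶ Gp := secHom Fp Gp (ρ.hom.app ⊤ σ)
  have hv : (cmp g Fp Gp).app (g ⁻¹ᵁ ⊤) (pull g (hom₂ Fp Gp) (ρ.hom.app ⊤ σ)) = gres _ t₀ (g ⁻¹ᵁ ⊤) := by
    have e1 : pull g (hom₂ Fp Gp) (ρ.hom.app ⊤ σ) =
        ((Scheme.Modules.pullback g).map ρ.hom).app (g ⁻¹ᵁ ⊤) (pullLoc g (H.restrict i) σ) :=
      ConcreteCategory.congr_hom (congrArg (fun φ => Scheme.Modules.Hom.app φ ⊤)
        ((Scheme.Modules.pullbackPushforwardAdjunction g).unit.naturality ρ.hom)) σ
    rw [e1]
    show e'.hom.app (g ⁻¹ᵁ ⊤) (pullLoc g (H.restrict i) σ) = _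
    rw [hσ]
    refine (QCohLib.app_map e'.hom _ _).trans (congrArg (res _ _) ?_)
    exact ConcreteCategory.congr_hom (congrArg (fun φ => Scheme.Modules.Hom.app φ ⊤) e'.inv_hom_id) t₀
  have hgv : (Scheme.Modules.pullback g).map v = (a F).hom ≫ u₀ ≫ (a G).inv := by
    rw [map_secHom, hv, ← ht₀]
    exact congrArg _ (QCohLib.map_self _ le_top t₀)
  have hle : (⊤ : X.Opens) ≤ i ''ᵁ ⊤ := (Scheme.Opens.ι_image_top (f ⁻¹ᵁ V)).ge
  let σ₀ : Γ(H, ⊤) := res H hle σ
  have hiv : (Scheme.Modules.pullback i).map (secHom F G σ₀) = v := by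
    rw [map_secHom]
    refine congrArg (secHom Fp Gp) ?_
    rw [← restrictIso_res i H σ₀]
    refine congrArg (fun z => (cmp i F G).app ⊤
      (((Scheme.Modules.restrictFunctorIsoPullback i).app H).hom.app ⊤ z)) ?_
    exact (QCohLib.map_map H _ hle σ).trans (QCohLib.map_self H _ σ)
  refine ⟨secHom F G σ₀, ?_⟩
  have n1 := (Scheme.Modules.pullbackCongr hg).hom.naturality (secHom F G σ₀)
  have n2 := (Scheme.Modules.pullbackComp g i).hom.naturality (secHom F G σ₀)
  have n3 : (Scheme.Modules.pullback g).map v ≫ (a G).hom =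
      (a F).hom ≫ (Scheme.Modules.pullback (f.fiberι y)).map (secHom F G σ₀) := by
    rw [← hiv]
    show (Scheme.Modules.pullback g).map ((Scheme.Modules.pullback i).map (secHom F G σ₀)) ≫ _ ≫ _ =
      (_ ≫ _) ≫ _
    rw [← Category.assoc, show (Scheme.Modules.pullback g).map ((Scheme.Modules.pullback i).map (secHom F G σ₀)) =
      (Scheme.Modules.pullback i ⋙ Scheme.Modules.pullback g).map (secHom F G σ₀) from rfl]
    erw [n2]
    rw [Category.assoc, Category.assoc]
    exact congrArg (_ ≫ ·) n1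
  rw [hgv, Category.assoc, Category.assoc, Iso.inv_hom_id, Category.comp_id] at n3
  exact ((cancel_epi _).1 n3).symm

end Groth.Agent.BCCx.HomBC
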