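import Groth.Agent.BCCx.ResidueInj
import Groth.Agent.BCCx.HomBC
import Groth.Agent.BCCx.NearFree
import Groth.Agent.FlatDescent.Scheme
import Groth.Agent.QCohLib.StalkLoc
import Groth.Agent.QCohLib.Coherent

/-!
# Morphisms injective or surjective on the closed fibre
-/

set_option autoImplicit false
set_option linter.style.haveILetI false
set_option backward.isDefEq.respectTransparency false
set_option maxHeartbeats 1600000
universe u

open CategoryTheory CategoryTheory.Limits AlgebraicGeometry Opposite TopologicalSpace TensorProduct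

namespace Groth.Agent.BCCx.HomBC

open Groth.Agent.ModGroth Groth.Agent.ModGroth.LocBasis

theorem finite_stalk_of_finLocFree {X : Scheme.{u}} {F : X.Modules} (hF : FlatMod.IsFinLocFree F) (x : X) :
    Module.Finite (X.presheaf.stalk x) (F.presheaf.stalk x) := by
  obtain ⟨U, n, e, hx, he⟩ := exists_isBasis hF x
  exact Module.Finite.of_surjective _ (isStalkBasis_of_isBasis (E := F) he x hx).2

/-- `(B/I) ⊗ u` for a surjection `φ` with kernel `I`. -/
theorem mem_smul_iff_tmul_eq_zero {B S E : Type u} [CommRing B] [CommRing S] [Algebra B S] [AddCommGroup E]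
    [Module B E] (hs : Function.Surjective (algebraMap B S)) (I : Ideal B)
    (hI : RingHom.ker (algebraMap B S) = I) (x : E) :
    (1 : S) ⊗ₜ[B] x = 0 ↔ x ∈ I • (⊤ : Submodule B E) := by
  let eR : (B ⧸ I) ≃ₐ[B] S :=
    (Ideal.quotientEquivAlgOfEq _ hI.symm).trans (Ideal.quotientKerAlgEquivOfSurjective (f := Algebra.ofId B S) hs)
  let c : (B ⧸ I) ⊗[B] E ≃ₗ[B] S ⊗[B] E := TensorProduct.congr eR.toLinearEquiv (LinearEquiv.refl B E)
  have h1 : c ((1 : B ⧸ I) ⊗ₜ[B] x) = (1 : S) ⊗ₜ[B] x := by
    show eR 1 ⊗ₜ[B] x = _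
    rw [map_one]
  rw [← h1, map_eq_zero_iff c c.injective, ← map_eq_zero_iff _ (TensorProduct.quotTensorEquivQuotSMul E I).injective,
    ← TensorProduct.quotTensorEquivQuotSMul_symm_mk I x, LinearEquiv.apply_symm_apply, Submodule.Quotient.mk_eq_zero]

variable {X Y : Scheme.{u}} (f : X ⟶ Y) (y : Y) (v : f.fiber y) {F G : X.Modules} (u : F ⟶ G)

theorem stalkHom_zero (F G : X.Modules) (x : X) : QCohLib.stalkHom (0 : F ⟶ G) x = 0 := by
  refine ConcreteCategory.hom_ext _ _ fun z => ?_
  obtain ⟨U, hx, s, rfl⟩ := TopCat.Presheaf.exists_germ_eq _ z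
  rw [QCohLib.stalkHom_germ]
  exact map_zero _

open scoped ModuleCat in
/-- Reduction of a linear map along a surjection. -/
theorem mem_of_extendScalars {R S : Type u} [CommRing R] [CommRing S] (φ : R →+* S) (hs : Function.Surjective φ)
    (I : Ideal R) (hI : RingHom.ker φ = I) {M N : ModuleCat.{u} R} (g : M ⟶ N) :
    (Function.Injective ((ModuleCat.extendScalars.{u, u, u} φ).map g) →
      ∀ z : M, g z ∈ I • (⊤ : Submodule R N) → z ∈ I • (⊤ : Submodule R M)) ∧
    (Function.Surjective ((ModuleCat.extendScalars.{u, u, u} φ).map g) →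
      ∀ z : N, ∃ w : M, g w - z ∈ I • (⊤ : Submodule R N)) := by
  letI := φ.toAlgebra
  refine ⟨fun h z hz => ?_, fun h z => ?_⟩
  · refine (mem_smul_iff_tmul_eq_zero (S := S) hs I hI z).1 (h ?_)
    rw [map_zero]
    exact (mem_smul_iff_tmul_eq_zero (S := S) hs I hI (g z)).2 hz
  · have h1 : ∀ w : S ⊗[R] M, ∃ w₀, (1 : S) ⊗ₜ[R] w₀ = w := fun w => by
      induction w using TensorProduct.induction_on with
      | zero => exact ⟨0, tmul_zero _ _⟩
      | tmul s e =>
        obtain ⟨b, rfl⟩ := hs s
        refine ⟨b • e, ?_⟩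
        rw [← TensorProduct.smul_tmul]
        congr 1
        exact mul_one (φ b)
      | add p q hp hq =>
        obtain ⟨a, rfl⟩ := hp
        obtain ⟨b, rfl⟩ := hq
        exact ⟨a + b, tmul_add _ _ _⟩
    obtain ⟨w, hw⟩ := h ((1 : S) ⊗ₜ[R] z)
    obtain ⟨w₀, rfl⟩ := h1 w
    change (1 : S) ⊗ₜ[R] g w₀ = (1 : S) ⊗ₜ[R] z at hw
    refine ⟨w₀, (mem_smul_iff_tmul_eq_zero (S := S) hs I hI _).1 ?_⟩
    rw [tmul_sub, hw, sub_self]

/-- The stalk of a pulled back morphism. -/
theorem stalk_extendScalars :
    (Function.Injective (QCohLib.stalkHom ((Scheme.Modules.pullback (f.fiberι y)).map u) v) →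
      Function.Injective ((ModuleCat.extendScalars.{u, u, u} ((f.fiberι y).stalkMap v).hom).map
        ((DerSch.stalkFunctor X (f.fiberι y v)).map u))) ∧
    (Function.Surjective (QCohLib.stalkHom ((Scheme.Modules.pullback (f.fiberι y)).map u) v) →
      Function.Surjective ((ModuleCat.extendScalars.{u, u, u} ((f.fiberι y).stalkMap v).hom).map
        ((DerSch.stalkFunctor X (f.fiberι y v)).map u))) := by
  let P := Stalk.pullStalkIso (f.fiberι y) v
  let T := ((Scheme.Modules.pullback (f.fiberι y) ⋙ DerSch.stalkFunctor (f.fiber y) v).map u)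
  have hT : ⇑(QCohLib.stalkHom ((Scheme.Modules.pullback (f.fiberι y)).map u) v) = ⇑T := rfl
  have e : ⇑(P.app G).toLinearEquiv ∘ ⇑T =
      ⇑((ModuleCat.extendScalars.{u, u, u} ((f.fiberι y).stalkMap v).hom).map
        ((DerSch.stalkFunctor X (f.fiberι y v)).map u)) ∘ ⇑(P.app F).toLinearEquiv :=
    funext fun z => ConcreteCategory.congr_hom (P.hom.naturality u) z
  rw [hT]
  constructor
  · intro hh
    exact (Function.Injective.of_comp_iff' _ (P.app F).toLinearEquiv.bijective).1
      (e ▸ (P.app G).toLinearEquiv.injective.comp hh)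
  · intro hh
    exact Function.Surjective.of_comp (g := ⇑(P.app F).toLinearEquiv)
      (by rw [← e]; exact (P.app G).toLinearEquiv.surjective.comp hh)

theorem map_maxExt_le :
    FlatDescent.maxExt f (f.fiberι y v) ≤ IsLocalRing.maximalIdeal (X.presheaf.stalk (f.fiberι y v)) :=
  Ideal.map_le_iff_le_comap.2 fun c hc => map_nonunit (f.stalkMap (f.fiberι y v)).hom c hc

/-- Injective on the fibre, between flat modules: injective. -/
theorem injective_stalk [IsLocallyNoetherian X] (hF : FlatMod.IsFinLocFree F) (hfl : FlatMod.IsFlatOver f G)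
    (h : Function.Injective (QCohLib.stalkHom ((Scheme.Modules.pullback (f.fiberι y)).map u) v)) :
    Function.Injective (QCohLib.stalkHom u (f.fiberι y v)) := by
  let x := f.fiberι y v
  have hB := (mem_of_extendScalars _ ((f.fiberι y).stalkMap_surjective v) _ (FlatDescent.ker_stalkMap_fiberι f y v)
    ((DerSch.stalkFunctor X x).map u)).1 ((stalk_extendScalars f y v u).1 h)
  letI : Algebra (Y.presheaf.stalk (f.base x)) (X.presheaf.stalk x) := (f.stalkMap x).hom.toAlgebra
  letI := FlatMod.moduleStalkOver f F x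
  letI := FlatMod.moduleStalkOver f G x
  haveI : IsScalarTower (Y.presheaf.stalk (f.base x)) (X.presheaf.stalk x) (F.presheaf.stalk x) :=
    IsScalarTower.of_algebraMap_smul fun _ _ => rfl
  haveI : IsScalarTower (Y.presheaf.stalk (f.base x)) (X.presheaf.stalk x) (G.presheaf.stalk x) :=
    IsScalarTower.of_algebraMap_smul fun _ _ => rfl
  haveI : Module.Flat (Y.presheaf.stalk (f.base x)) (G.presheaf.stalk x) := hfl x
  haveI := finite_stalk_of_finLocFree hF x
  have key := injective_of_injective_mod (B := X.presheaf.stalk x) (IsLocalRing.maximalIdeal (Y.presheaf.stalk (f.base x)))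
    (map_maxExt_le f y v) (Algz.stalkMapₗ u x) fun z hz => hB z hz
  exact key

/-- Surjective on the fibre: surjective. -/
theorem surjective_stalk [IsLocallyNoetherian X] (hG : FlatMod.IsFinLocFree G)
    (h : Function.Surjective (QCohLib.stalkHom ((Scheme.Modules.pullback (f.fiberι y)).map u) v)) :
    Function.Surjective (QCohLib.stalkHom u (f.fiberι y v)) := by
  let x := f.fiberι y v
  have hB := (mem_of_extendScalars _ ((f.fiberι y).stalkMap_surjective v) _ (FlatDescent.ker_stalkMap_fiberι f y v)
    ((DerSch.stalkFunctor X x).map u)).2 ((stalk_extendScalars f y v u).2 h)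
  haveI := finite_stalk_of_finLocFree hG x
  let R := LinearMap.range (Algz.stalkMapₗ u x)
  suffices hR : (⊤ : Submodule (X.presheaf.stalk x) (G.presheaf.stalk x)) ≤
      R ⊔ FlatDescent.maxExt f x • (⊤ : Submodule (X.presheaf.stalk x) (G.presheaf.stalk x)) by
    have := Submodule.le_of_le_smul_of_le_jacobson_bot (N := R) Module.Finite.fg_top
      ((map_maxExt_le f y v).trans (IsLocalRing.maximalIdeal_le_jacobson _)) hR
    exact LinearMap.range_eq_top.1 (top_le_iff.1 this)
  intro z _
  obtain ⟨w₀, hw⟩ := hB z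
  rw [← sub_sub_cancel (Algz.stalkMapₗ u x w₀) z]
  exact Submodule.sub_mem _ (Submodule.mem_sup_left ⟨w₀, rfl⟩) (Submodule.mem_sup_right hw)

/-- Over a local base, properness spreads injectivity and surjectivity from the closed fibre. -/
theorem mono_epi_of_closedFibre {A : Type u} [CommRing A] [IsNoetherianRing A] [IsLocalRing A] {X : Scheme.{u}}
    (f : X ⟶ Spec (CommRingCat.of A)) [IsProper f] [Flat f] {F G : X.Modules} (hF : FlatMod.IsFinLocFree F)
    (hG : FlatMod.IsFinLocFree G) (u : F ⟶ G) :
    (Mono ((Scheme.Modules.pullback (f.fiberι (IsLocalRing.closedPoint A))).map u) → Mono u) ∧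
      (Epi ((Scheme.Modules.pullback (f.fiberι (IsLocalRing.closedPoint A))).map u) → Epi u) := by
  haveI : IsLocallyNoetherian X := LocallyOfFiniteType.isLocallyNoetherian f
  let y : Spec (CommRingCat.of A) := IsLocalRing.closedPoint A
  have hcF := DCohPerf.isCoh_finLocFree hF
  have hcG := DCohPerf.isCoh_finLocFree hG
  have key : ∀ K : X.Modules, Coh.IsCoh K → (∀ v : f.fiber y, Subsingleton (K.presheaf.stalk (f.fiberι y v))) →
      ∀ x : X, Subsingleton (K.presheaf.stalk x) := by
    intro K hK h x
    by_contra hx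
    have hcl : IsClosed (f.base '' CohB1.support K) := f.isClosedMap _ (QCohLib.isClosed_support hK.2)
    obtain ⟨z, hz, hzy⟩ := ((IsLocalRing.specializes_closedPoint (R := A) (f.base x)).mem_closed hcl ⟨x, hx, rfl⟩ :
      y ∈ f.base '' CohB1.support K)
    obtain ⟨v, rfl⟩ : z ∈ Set.range (f.fiberι y).base := by rw [f.range_fiberι y]; exact hzy
    exact hz (h v)
  constructor
  · intro hm
    have hz := key _ (QCohLib.isCoh_kernel u hcF hcG.1) fun v => by
      refine subsingleton_of_forall_eq 0 fun k => ?_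
      have h1 := injective_stalk f y v u hF (isFlatOver_of_finLocFree f hG)
        ((QCohLib.mono_iff_stalk_injective _).1 hm v)
      refine (QCohLib.mono_iff_stalk_injective (kernel.ι u)).1 inferInstance _ (h1 ?_)
      rw [map_zero, map_zero, ← QCohLib.stalkHom_comp, kernel.condition]
      exact ConcreteCategory.congr_hom (stalkHom_zero (kernel u) G _) k
    refine Preadditive.mono_of_kernel_zero ?_
    refine QCohLib.eq_of_stalkHom_eq _ _ fun x => ?_
    ext k
    haveI := hz x
    rw [Subsingleton.elim k 0, map_zero, map_zero]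
  · intro he
    have hz := key _ (QCohLib.isCoh_cokernel u hcF.1 hcG) fun v => by
      refine subsingleton_of_forall_eq 0 fun k => ?_
      obtain ⟨m, rfl⟩ := (QCohLib.epi_iff_stalk_surjective (cokernel.π u)).1 inferInstance _ k
      obtain ⟨w, rfl⟩ := surjective_stalk f y v u hG ((QCohLib.epi_iff_stalk_surjective _).1 he v) m
      rw [← QCohLib.stalkHom_comp, cokernel.condition]
      exact ConcreteCategory.congr_hom (stalkHom_zero F (cokernel u) _) w
    refine Preadditive.epi_of_cokernel_zero ?_
    refine QCohLib.eq_of_stalkHom_eq _ _ fun x => ?_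
    ext k
    haveI := hz x
    exact Subsingleton.elim _ _

end Groth.Agent.BCCx.HomBC
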