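import Groth.Agent.TFun.Cx
import Mathlib.Algebra.Category.ModuleCat.Products
import Mathlib.LinearAlgebra.TensorProduct.Basis

/-!
# `TFun` of a complex of finite free modules commutes with products
-/

set_option autoImplicit false
set_option backward.isDefEq.respectTransparency false
universe u

open CategoryTheory CategoryTheory.Limits TensorProduct HomologicalComplex

namespace Groth.Agent.BCCx

variable {A : Type u} [CommRing A]

theorem bijective_lTensor_proj (C : Type u) [AddCommGroup C] [Module A C] [Module.Finite A C] [Module.Free A C]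
    {J : Type u} (M : J → Type u) [∀ j, AddCommGroup (M j)] [∀ j, Module A (M j)] :
    Function.Bijective fun (x : C ⊗[A] (∀ j, M j)) (j : J) => (LinearMap.proj j : _ →ₗ[A] M j).lTensor C x := by
  classical
  obtain hA | hA := subsingleton_or_nontrivial A
  · haveI := Module.subsingleton A (C ⊗[A] (∀ j, M j))
    haveI : ∀ j, Subsingleton (C ⊗[A] M j) := fun j => Module.subsingleton A _
    exact ⟨fun x y _ => Subsingleton.elim x y, fun y => ⟨0, Subsingleton.elim _ _⟩⟩
  let b := Module.Free.chooseBasis A C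
  have key : ∀ (j : J) (x : C ⊗[A] (∀ j, M j)) i,
      TensorProduct.equivFinsuppOfBasisLeft b ((LinearMap.proj j : _ →ₗ[A] M j).lTensor C x) i =
        TensorProduct.equivFinsuppOfBasisLeft b x i j := by
    intro j x i
    induction x using TensorProduct.induction_on with
    | zero => simp
    | tmul c m => simp
    | add x y hx hy => simp [map_add, hx, hy]
  constructor
  · intro x y hxy
    refine (TensorProduct.equivFinsuppOfBasisLeft b).injective (Finsupp.ext fun i => funext fun j => ?_)
    rw [← key, ← key, show (LinearMap.proj j : _ →ₗ[A] M j).lTensor C x = _ from congrFun hxy j]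
  · intro y
    refine ⟨(TensorProduct.equivFinsuppOfBasisLeft b).symm (Finsupp.equivFunOnFinite.symm
      fun i j => TensorProduct.equivFinsuppOfBasisLeft b (y j) i), funext fun j => ?_⟩
    refine (TensorProduct.equivFinsuppOfBasisLeft b).injective (Finsupp.ext fun i => ?_)
    rw [key, LinearEquiv.apply_symm_apply]
    rfl

variable (P : ChainComplex (ModuleCat.{u} A) ℤ)

set_option maxHeartbeats 1600000 in
theorem bijective_TFun_proj (hP : ∀ i, Module.Finite A (P.X i) ∧ Module.Free A (P.X i)) (p : ℤ) {J : Type u}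
    (M : J → ModuleCat.{u} A) :
    Function.Bijective fun (x : (CohIII.TFun P p).obj (ModuleCat.of A (∀ j, M j))) (j : J) =>
      ((CohIII.TFun P p).map (ModuleCat.ofHom (LinearMap.proj j : _ →ₗ[A] M j) : _ ⟶ M j)).hom x := by
  let pr := fun j => (ModuleCat.ofHom (LinearMap.proj j : _ →ₗ[A] M j) : ModuleCat.of A (∀ j, M j) ⟶ M j)
  have hb : ∀ i, Function.Bijective fun (x : P.X i ⊗[A] (∀ j, M j)) (j : J) =>
      (pr j).hom.lTensor (P.X i) x := fun i =>
    haveI := (hP i).1
    haveI := (hP i).2
    bijective_lTensor_proj (P.X i) fun j => M j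
  have hnat : ∀ (j : J) (a b : ℤ) (x : P.X a ⊗[A] (∀ j, M j)),
      (pr j).hom.lTensor (P.X b) ((P.d a b).hom.rTensor (∀ j, M j) x) =
        (P.d a b).hom.rTensor (M j) ((pr j).hom.lTensor (P.X a) x) := fun j a b x =>
    LinearMap.congr_fun ((LinearMap.lTensor_comp_rTensor _ _ _).trans (LinearMap.rTensor_comp_lTensor _ _ _).symm) x
  constructor
  · intro x y hxy
    rw [← sub_eq_zero]
    have hx0 : ∀ j, ((CohIII.TFun P p).map (pr j)).hom (x - y) = 0 := fun j => by
      rw [map_sub, sub_eq_zero]; exact congrFun hxy j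
    obtain ⟨z, hz⟩ := TFun.homologyπ_surjective (K := CohIII.tensorObj P (ModuleCat.of A (∀ j, M j))) (p := p) (x - y)
    rw [← hz] at hx0 ⊢
    have hw : ∀ j, ∃ w, (P.d (p + 1) p).hom.rTensor (M j) w =
        (pr j).hom.lTensor (P.X p) ((CohIII.tensorObj P _).iCycles p z) := fun j => by
      obtain ⟨z', h1, h2⟩ := TFun.homologyMap_π (CohIII.tensorMap P (pr j)) z
      obtain ⟨w, hw⟩ := (TFun.homologyπ_eq_zero_iff rfl z').1 (h1.symm.trans (hx0 j))
      exact ⟨w, hw.trans h2⟩
    choose w hw using hw
    obtain ⟨W, hW⟩ := (hb (p + 1)).2 w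
    refine (TFun.homologyπ_eq_zero_iff rfl z).2 ⟨W, (hb p).1 (funext fun j => ?_)⟩
    exact (hnat j _ _ W).trans ((congrArg _ (congrFun hW j)).trans (hw j))
  · intro y
    choose z hz using fun j => TFun.homologyπ_surjective (K := CohIII.tensorObj P (M j)) (p := p) (y j)
    obtain ⟨Z, hZ⟩ := (hb p).2 fun j => (CohIII.tensorObj P (M j)).iCycles p (z j)
    have hd : (P.d p (p - 1)).hom.rTensor (∀ j, M j) Z = 0 := (hb (p - 1)).1 (funext fun j => by
      show (pr j).hom.lTensor (P.X (p - 1)) _ = (pr j).hom.lTensor (P.X (p - 1)) 0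
      rw [map_zero, hnat]
      exact (congrArg _ (congrFun hZ j)).trans (TFun.d_iCycles (z j)))
    obtain ⟨c, hc⟩ := TFun.exists_cycle (K := CohIII.tensorObj P (ModuleCat.of A (∀ j, M j))) (sub_add_cancel p 1) Z hd
    refine ⟨(CohIII.tensorObj P _).homologyπ p c, funext fun j => ?_⟩
    obtain ⟨c', h1, h2⟩ := TFun.homologyMap_π (CohIII.tensorMap P (pr j)) c
    refine h1.trans ((congrArg _ ?_).trans (hz j))
    exact TFun.iCycles_injective (h2.trans ((congrArg _ hc).trans (congrFun hZ j)))

/-- A functor commutes with products if it does so on elements. -/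
theorem preservesProducts_of_bijective (T : ModuleCat.{u} A ⥤ ModuleCat.{u} A) (J : Type u)
    (h : ∀ M : J → ModuleCat.{u} A, Function.Bijective fun (x : T.obj (ModuleCat.of A (∀ j, M j))) (j : J) =>
      (T.map (ModuleCat.ofHom (LinearMap.proj j : _ →ₗ[A] M j) : _ ⟶ M j)).hom x) :
    PreservesLimitsOfShape (Discrete J) T := by
  refine ⟨fun {K} => ?_⟩
  let M : J → ModuleCat.{u} A := fun j => K.obj ⟨j⟩
  haveI : PreservesLimit (Discrete.functor (K.obj ∘ Discrete.mk)) T := by
    show PreservesLimit (Discrete.functor M) T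
    refine preservesLimit_of_preserves_limit_cone (ModuleCat.productConeIsLimit M)
      ((isLimitMapConeFanMkEquiv T M fun j =>
        (ModuleCat.ofHom (LinearMap.proj j) : ModuleCat.of A (∀ j, M j) ⟶ M j)).symm ?_)
    let e : T.obj (ModuleCat.of A (∀ j, M j)) ≅ ModuleCat.of A (∀ j, T.obj (M j)) :=
      (LinearEquiv.ofBijective (LinearMap.pi fun j =>
        (T.map (ModuleCat.ofHom (LinearMap.proj j : _ →ₗ[A] M j) : _ ⟶ M j)).hom) (h M)).toModuleIso
    refine IsLimit.ofIsoLimit (ModuleCat.productConeIsLimit fun j => T.obj (M j)) (Cone.ext e.symm fun j => ?_)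
    exact (Iso.eq_inv_comp e).2 rfl
  exact preservesLimit_of_iso_diagram _ (Discrete.natIsoFunctor (F := K)).symm

theorem preservesProducts_TFun (hP : ∀ i, Module.Finite A (P.X i) ∧ Module.Free A (P.X i)) (p : ℤ) (J : Type u) :
    PreservesLimitsOfShape (Discrete J) (CohIII.TFun P p) :=
  preservesProducts_of_bijective _ J fun M => bijective_TFun_proj P hP p M

end Groth.Agent.BCCx
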