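import Mathlib.RingTheory.Flat.Basic
import Mathlib.Algebra.Module.Torsion.Basic
import Mathlib.RingTheory.Filtration
import Mathlib.LinearAlgebra.TensorProduct.Quotient
import Mathlib.RingTheory.Nakayama
import Mathlib.LinearAlgebra.TensorProduct.RightExactness
import Mathlib.RingTheory.TensorProduct.Basic
import Mathlib.LinearAlgebra.Basis.VectorSpace
import Mathlib.LinearAlgebra.FreeModule.Basic

/-!
# Maps of flat modules that are injective modulo the maximal ideal of the base
-/

set_option autoImplicit false
set_option linter.style.haveILetI false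
universe u

open TensorProduct

namespace Groth.Agent.BCCx

/-- Injective modulo `m`, between flat modules: injective after tensoring with modules killed by `m`. -/
theorem lTensor_injective_of_mod {A E F V : Type u} [CommRing A] [AddCommGroup E] [Module A E] [AddCommGroup F]
    [Module A F] [AddCommGroup V] [Module A V] (m : Ideal A) [m.IsMaximal]
    (hV : Module.IsTorsionBySet A V m) (u : E →ₗ[A] F)
    (h0 : ∀ x, u x ∈ m • (⊤ : Submodule A F) → x ∈ m • (⊤ : Submodule A E)) :
    Function.Injective (u.lTensor V) := by
  letI : Field (A ⧸ m) := Ideal.Quotient.field m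
  letI : Module (A ⧸ m) V := hV.module
  haveI : IsScalarTower A (A ⧸ m) V := IsScalarTower.of_algebraMap_smul fun a v => hV.mk_smul a v
  have hk : Function.Injective (u.baseChange (A ⧸ m)) := by
    rw [injective_iff_map_eq_zero]
    intro z hz
    obtain ⟨x, rfl⟩ : ∃ x, (1 : A ⧸ m) ⊗ₜ[A] x = z := by
      obtain ⟨q, rfl⟩ := (TensorProduct.quotTensorEquivQuotSMul E m).symm.surjective z
      obtain ⟨x, rfl⟩ := Submodule.mkQ_surjective _ q
      exact ⟨x, (TensorProduct.quotTensorEquivQuotSMul_symm_mk m x).symm⟩
    rw [LinearMap.baseChange_tmul] at hz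
    have hz' := congrArg (TensorProduct.quotTensorEquivQuotSMul F m) hz
    rw [← TensorProduct.quotTensorEquivQuotSMul_symm_mk m (u x), LinearEquiv.apply_symm_apply, map_zero,
      Submodule.Quotient.mk_eq_zero] at hz'
    rw [← TensorProduct.quotTensorEquivQuotSMul_symm_mk m x, (Submodule.Quotient.mk_eq_zero _).2 (h0 x hz'),
      map_zero]
  haveI : Module.Flat (A ⧸ m) V := inferInstance
  let cE := TensorProduct.AlgebraTensorModule.cancelBaseChange A (A ⧸ m) (A ⧸ m) V E
  let cF := TensorProduct.AlgebraTensorModule.cancelBaseChange A (A ⧸ m) (A ⧸ m) V F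
  have e : ∀ w, u.lTensor V (cE w) = cF ((u.baseChange (A ⧸ m)).lTensor V w) := by
    intro w
    induction w using TensorProduct.induction_on with
    | zero => simp only [map_zero]
    | tmul v z =>
      induction z using TensorProduct.induction_on with
      | zero => simp only [tmul_zero, map_zero]
      | tmul a x => rfl
      | add p q hp hq => rw [tmul_add, map_add, map_add, map_add, map_add, hp, hq]
    | add p q hp hq => simp only [map_add, hp, hq]
  intro p q hpq
  obtain ⟨p, rfl⟩ := cE.surjective p
  obtain ⟨q, rfl⟩ := cE.surjective q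
  rw [e, e] at hpq
  exact congrArg cE (Module.Flat.lTensor_preserves_injective_linearMap (M := V) _ hk (cF.injective hpq))

/-- Injective modulo `mB` between `A`-flat finite modules over a local Noetherian `B`: injective. -/
theorem injective_of_injective_mod {A B E F : Type u} [CommRing A] [CommRing B] [IsLocalRing B]
    [IsNoetherianRing B] [Algebra A B] [AddCommGroup E] [Module A E] [Module B E] [IsScalarTower A B E]
    [AddCommGroup F] [Module A F] [Module B F] [IsScalarTower A B F] [Module.Finite B E] [Module.Flat A F]
    (m : Ideal A) [m.IsMaximal] (hm : m.map (algebraMap A B) ≤ IsLocalRing.maximalIdeal B) (u : E →ₗ[B] F)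
    (h0 : ∀ x, u x ∈ m.map (algebraMap A B) • (⊤ : Submodule B F) →
      x ∈ m.map (algebraMap A B) • (⊤ : Submodule B E)) :
    Function.Injective u := by
  let w := u.restrictScalars A
  have hA : ∀ (I : Ideal A) {M : Type u} [AddCommGroup M] [Module A M] [Module B M] [IsScalarTower A B M] (x : M),
      x ∈ I.map (algebraMap A B) • (⊤ : Submodule B M) ↔ x ∈ I • (⊤ : Submodule A M) := fun I M _ _ _ _ x => by
    rw [← Submodule.restrictScalars_mem A, Submodule.restrictScalars_map_smul_eq, Submodule.restrictScalars_top]
  have h0' : ∀ x, w x ∈ m • (⊤ : Submodule A F) → x ∈ m • (⊤ : Submodule A E) := fun x hx =>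
    (hA m x).1 (h0 x ((hA m _).2 hx))
  have key : ∀ k : ℕ, ∀ x, w x = 0 → x ∈ (m ^ k) • (⊤ : Submodule A E) := by
    intro k
    induction k with
    | zero => intro x _; rw [pow_zero, Ideal.one_eq_top, Submodule.top_smul]; trivial
    | succ k ih =>
      intro x hx
      let J : Ideal A := m ^ k
      let μE : J ⊗[A] E →ₗ[A] E := TensorProduct.lift ((LinearMap.lsmul A E).comp J.subtype)
      let μF : J ⊗[A] F →ₗ[A] F := TensorProduct.lift ((LinearMap.lsmul A F).comp J.subtype)
      have hμ : ∀ z, μF (w.lTensor J z) = w (μE z) := fun z => by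
        induction z using TensorProduct.induction_on with
        | zero => simp only [map_zero]
        | tmul j e => exact (map_smul w (j : A) e).symm
        | add p q hp hq => simp only [map_add, hp, hq]
      have hinj : Function.Injective μF := by
        have e : μF = (TensorProduct.lid A F).toLinearMap ∘ₗ J.subtype.rTensor F :=
          TensorProduct.ext' fun j f => rfl
        rw [e]
        exact (TensorProduct.lid A F).injective.comp
          (Module.Flat.rTensor_preserves_injective_linearMap (M := F) _ J.injective_subtype)
      obtain ⟨z, rfl⟩ : ∃ z, μE z = x := by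
        refine Submodule.smul_induction_on (ih x hx) (fun r hr e _ => ⟨(⟨r, hr⟩ : J) ⊗ₜ e, rfl⟩) ?_
        rintro a b ⟨p, rfl⟩ ⟨q, rfl⟩
        exact ⟨p + q, map_add _ _ _⟩
      have hz : w.lTensor J z = 0 := hinj (by rw [hμ, hx, map_zero])
      let S : Submodule A J := m • ⊤
      have hV : Module.IsTorsionBySet A (J ⧸ S) m := fun v a => by
        obtain ⟨j, rfl⟩ := Submodule.mkQ_surjective _ v
        rw [← map_smul, Submodule.mkQ_apply, Submodule.Quotient.mk_eq_zero]
        exact Submodule.smul_mem_smul a.2 trivial
      have hq : S.mkQ.rTensor E z = 0 := lTensor_injective_of_mod m hV w h0' (by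
        rw [map_zero, ← LinearMap.comp_apply, LinearMap.lTensor_comp_rTensor, ← LinearMap.rTensor_comp_lTensor,
          LinearMap.comp_apply, hz, map_zero])
      suffices hp : ∀ p : S ⊗[A] E, μE (S.subtype.rTensor E p) ∈ (m ^ (k + 1)) • (⊤ : Submodule A E) by
        obtain ⟨p, rfl⟩ := (rTensor_exact E (LinearMap.exact_subtype_mkQ S) (Submodule.mkQ_surjective S) z).1 hq
        exact hp p
      intro p
      induction p using TensorProduct.induction_on with
      | zero => rw [map_zero, map_zero]; exact zero_mem _
      | tmul s e =>
        show ((s : J) : A) • e ∈ (m ^ (k + 1)) • (⊤ : Submodule A E)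
        refine Submodule.smul_mem_smul ?_ trivial
        have hs := Submodule.mem_map_of_mem (f := J.subtype) s.2
        rw [Submodule.map_smul'', Submodule.map_top, Submodule.range_subtype] at hs
        rw [pow_succ', ← smul_eq_mul]
        exact hs
      | add p q hp hq' =>
        rw [map_add, map_add]
        exact add_mem hp hq' 
  rw [injective_iff_map_eq_zero]
  intro x hx
  have hbot := Ideal.iInf_pow_smul_eq_bot_of_isLocalRing (R := B) (M := E) (IsLocalRing.maximalIdeal B)
    (IsLocalRing.maximalIdeal.isMaximal B).ne_top
  refine (Submodule.mem_bot B).1 (hbot.le ((Submodule.mem_iInf _).2 fun k => ?_))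
  refine Submodule.smul_mono_left ?_ ((hA (m ^ k) x).2 (key k x hx))
  rw [Ideal.map_pow]
  exact Ideal.pow_right_mono hm k

end Groth.Agent.BCCx
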