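import Groth.Agent.TensorQCoh.Basic
import Groth.Agent.ModGroth.SheafHomExact
import Groth.Agent.QCohLib.Pullback
import Groth.Agent.FormalFun.AdicFilt
import Groth.Prelude.Def_ega3
import Groth.Prelude.Def_DDual2
import Groth.Prelude.Def_Omega4

/-!
# The functor `M ↦ F ⊗_A M`: colimits, linearity, sections at elements
-/

set_option autoImplicit false
set_option linter.style.haveILetI false
set_option backward.isDefEq.respectTransparency false
set_option backward.isDefEq.respectTransparency.types false
universe u

open CategoryTheory CategoryTheory.Limits AlgebraicGeometry Opposite TopologicalSpace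

namespace Groth.Agent.BCCx

open Groth.Agent.QCohLib Groth.Agent.ModGroth

variable (A : Type u) [CommRing A] {X : Scheme.{u}} [X.Over (Spec (CommRingCat.of A))] (F : X.Modules)

/-- `M ↦ F ⊗_A M`. -/
noncomputable abbrev TA : ModuleCat.{u} A ⥤ X.Modules := CohIII.tensorAFunctor A F

instance preservesColimits_TA : PreservesColimitsOfSize.{u, u} (TA A F) := by
  haveI : PreservesColimitsOfSize.{u, u} (DCoh.tensorRightMod F) := Perf.preservesColimits_tensorBi_flip F
  haveI : PreservesColimitsOfSize.{u, u} (Scheme.Modules.pullback (X ↘ Spec (CommRingCat.of A))) :=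
    (Scheme.Modules.pullbackPushforwardAdjunction _).leftAdjoint_preservesColimits
  haveI : PreservesColimitsOfSize.{u, u} (tilde.functor (CommRingCat.of A)) :=
    (tilde.adjunction (R := CommRingCat.of A)).leftAdjoint_preservesColimits
  show PreservesColimitsOfSize.{u, u} (tilde.functor (CommRingCat.of A) ⋙ Scheme.Modules.pullback (X ↘ Spec (CommRingCat.of A)) ⋙ DCoh.tensorRightMod F)
  exact inferInstance

instance additive_TA : (TA A F).Additive := by
  haveI : (Scheme.Modules.pullback (X ↘ Spec (CommRingCat.of A))).Additive :=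
    haveI := preservesBinaryBiproducts_of_preservesBinaryCoproducts (Scheme.Modules.pullback (X ↘ Spec (CommRingCat.of A)))
    Functor.additive_of_preservesBinaryBiproducts _
  haveI : PreservesColimitsOfSize.{u, u} (tilde.functor (CommRingCat.of A)) :=
    (tilde.adjunction (R := CommRingCat.of A)).leftAdjoint_preservesColimits
  haveI : (tilde.functor (CommRingCat.of A)).Additive :=
    haveI : PreservesColimitsOfShape (Discrete WalkingPair) (tilde.functor (CommRingCat.of A)) :=
      (tilde.adjunction (R := CommRingCat.of A)).leftAdjoint_preservesColimits.preservesColimitsOfShape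
    haveI := preservesBinaryBiproducts_of_preservesBinaryCoproducts (tilde.functor (CommRingCat.of A))
    Functor.additive_of_preservesBinaryBiproducts _
  show (tilde.functor (CommRingCat.of A) ⋙ Scheme.Modules.pullback (X ↘ Spec (CommRingCat.of A)) ⋙ DCoh.tensorRightMod F).Additive
  exact inferInstance

instance isQuasicoherent_TA [F.IsQuasicoherent] (M : ModuleCat.{u} A) : ((TA A F).obj M).IsQuasicoherent := by
  haveI : ((tilde.functor (CommRingCat.of A)).obj M).IsQuasicoherent := isQuasicoherent_tilde_obj (R := CommRingCat.of A) M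
  haveI := isQuasicoherent_pullback (X ↘ Spec (CommRingCat.of A)) ((tilde.functor (CommRingCat.of A)).obj M)
  exact TensorQCoh.isQuasicoherent_tensorMod
    ((Scheme.Modules.pullback (X ↘ Spec (CommRingCat.of A))).obj ((tilde.functor (CommRingCat.of A)).obj M)) F

/-- `F ⊗_A A ≅ F`. -/
noncomputable def rho : (TA A F).obj (ModuleCat.of A A) ≅ F :=
  (DCoh.tensorRightMod F).mapIso
    ((Scheme.Modules.pullback (X ↘ Spec (CommRingCat.of A))).mapIso (tildeSelf (R := CommRingCat.of A)) ≪≫
      pullbackUnitIso (X ↘ Spec (CommRingCat.of A))) ≪≫ Perf.unitTensorIso F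

theorem tilde_map_smul (M : ModuleCat.{u} A) (a : A) :
    (tilde.functor (CommRingCat.of A)).map (a • 𝟙 M) =
      Formal.smulModΓ ((tilde.functor (CommRingCat.of A)).obj M) ((Scheme.ΓSpecIso (CommRingCat.of A)).inv a) := by
  apply ((tilde.adjunction (R := CommRingCat.of A)).homEquiv _ _).injective
  rw [Adjunction.homEquiv_unit, Adjunction.homEquiv_unit, Adjunction.unit_naturality]
  refine ModuleCat.hom_ext (LinearMap.ext fun m => ?_)
  refine (map_smul ((tilde.adjunction (R := CommRingCat.of A)).unit.app M).hom a m).trans ?_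
  refine congrArg (fun r : Γ(Spec (CommRingCat.of A), ⊤) =>
    r • (show Γ((tilde.functor (CommRingCat.of A)).obj M, ⊤) from
      ((tilde.adjunction (R := CommRingCat.of A)).unit.app M).hom m)) ?_
  exact (ConcreteCategory.congr_hom ((Spec (CommRingCat.of A)).presheaf.map_id (op ⊤))
    ((Scheme.ΓSpecIso (CommRingCat.of A)).inv a)).symm

theorem pullback_map_smulModΓ {Y : Scheme.{u}} (g : X ⟶ Y) (N : Y.Modules) (r : Coh.Γtop Y) :
    (Scheme.Modules.pullback g).map (Formal.smulModΓ N r) =
      Formal.smulModΓ ((Scheme.Modules.pullback g).obj N) (g.appTop r) := by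
  apply ((Scheme.Modules.pullbackPushforwardAdjunction g).homEquiv _ _).injective
  rw [Adjunction.homEquiv_unit, Adjunction.homEquiv_unit, Adjunction.unit_naturality]
  refine Scheme.Modules.hom_ext _ _ fun U => AddCommGrpCat.ext fun m => ?_
  let r' : Γ(Y, U) := Coh.resTop Y (op U) r
  let m' : Γ(N, U) := m
  show OmegaSh.pullSect g N U (r' • m') = _
  rw [OmegaSh.pullSect_smul]
  exact congrArg (fun t : Γ(X, g ⁻¹ᵁ U) => t • OmegaSh.pullSect g N U m')
    (ConcreteCategory.congr_hom (g.naturality (homOfLE (le_top (a := U))).op) r)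

/-- Linearity of `F ⊗_A -`. -/
theorem TA_map_smul (M : ModuleCat.{u} A) (a : A) :
    (TA A F).map (a • 𝟙 M) = Formal.smulMod A ((TA A F).obj M) a := by
  show (DCoh.tensorRightMod F).map ((Scheme.Modules.pullback (X ↘ Spec (CommRingCat.of A))).map
    ((tilde.functor (CommRingCat.of A)).map (a • 𝟙 M))) = _
  rw [tilde_map_smul, pullback_map_smulModΓ]
  haveI := ModGroth.hasSheafHom (O := X.sheaf) F
  exact SheafHomExact.tR_map_smulModΓ F _ _

theorem TA_map_smul_hom {M N : ModuleCat.{u} A} (g : M ⟶ N) (a : A) :
    (TA A F).map (a • g) = (TA A F).map g ≫ Formal.smulMod A ((TA A F).obj N) a := by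
  rw [← TA_map_smul, ← Functor.map_comp]
  congr 1


/-- The element `m`, as a map. -/
noncomputable def el {M : ModuleCat.{u} A} (m : M) : ModuleCat.of A A ⟶ M :=
  ModuleCat.ofHom (LinearMap.toSpanSingleton A M m)

/-- `f ↦ f ⊗ m`. -/
noncomputable def theta {M : ModuleCat.{u} A} (m : M) : F ⟶ (TA A F).obj M :=
  (rho A F).inv ≫ (TA A F).map (el A m)

theorem theta_add {M : ModuleCat.{u} A} (m n : M) : theta A F (m + n) = theta A F m + theta A F n := by
  rw [theta, theta, theta, ← Preadditive.comp_add, ← Functor.map_add]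
  congr 2
  exact ModuleCat.hom_ext (LinearMap.ext fun r => smul_add (r : A) m n)

theorem theta_smul {M : ModuleCat.{u} A} (a : A) (m : M) :
    theta A F (a • m) = Formal.smulMod A F a ≫ theta A F m := by
  have h : el A (a • m) = a • el A m := ModuleCat.hom_ext (LinearMap.ext fun r => smul_comm (r : A) a m)
  rw [theta, theta, h, TA_map_smul_hom, ← Category.assoc]
  exact (FormalFun.smulMod_natural ((rho A F).inv ≫ (TA A F).map (el A m)) a).symm

theorem theta_comp {M N : ModuleCat.{u} A} (g : M ⟶ N) (m : M) :
    theta A F m ≫ (TA A F).map g = theta A F (g m) := by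
  rw [theta, theta, Category.assoc, ← Functor.map_comp]
  congr 2
  exact ModuleCat.hom_ext (LinearMap.ext fun r => map_smul g.hom (r : A) m)

end Groth.Agent.BCCx
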