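import Groth.Agent.BCCx.EW
import Groth.Agent.BCCx.Tensor
import Groth.Agent.CechCmp.Natural

/-!
# Sections of `F ⊗_A M` over affine opens
-/

set_option autoImplicit false
set_option linter.style.haveILetI false
set_option backward.isDefEq.respectTransparency false
set_option backward.isDefEq.respectTransparency.types false
universe u

open CategoryTheory CategoryTheory.Limits AlgebraicGeometry Opposite TopologicalSpace TensorProduct

namespace Groth.Agent.BCCx

open Groth.Agent.QCohLib Groth.Agent.CechCmp

variable (A : Type u) [CommRing A] {X : Scheme.{u}} [X.Over (Spec (CommRingCat.of A))] (F : X.Modules)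

/-- The action of `A` on modules. -/
noncomputable abbrev rsh (M : X.Modules) : RSh A (CohVanish.sp X) :=
  modRSh (Coh.toGlobal (X ↘ Spec (CommRingCat.of A))) M

/-- `f ⊗ m ↦ f ⊗ m` on sections. -/
noncomputable def beta (V : X.Opens) (M : ModuleCat.{u} A) :
    ((rsh A F).F.obj.obj (op V)) ⊗[A] M →ₗ[A] ((rsh A ((TA A F).obj M)).F.obj.obj (op V)) :=
  TensorProduct.lift (LinearMap.mk₂ A
    (fun f m => (modHom (Coh.toGlobal (X ↘ Spec (CommRingCat.of A))) (theta A F m)).app V f)
    (fun f f' m => map_add _ f f') (fun a f m => map_smul _ a f)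
    (fun f m m' => by
      show (theta A F (m + m')).app V f = _
      rw [theta_add]
      rfl)
    (fun a f m => by
      show (theta A F (a • m)).app V f = _
      rw [theta_smul]
      exact map_smul ((modHom (Coh.toGlobal (X ↘ Spec (CommRingCat.of A))) (theta A F m)).app V) a f))

theorem beta_tmul (V : X.Opens) (M : ModuleCat.{u} A) (f : (rsh A F).F.obj.obj (op V)) (m : M) :
    beta A F V M (f ⊗ₜ[A] m) = (modHom (Coh.toGlobal (X ↘ Spec (CommRingCat.of A))) (theta A F m)).app V f := rfl

/-- Sections on an affine open, as a functor. -/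
noncomputable abbrev secR {V : X.Opens} (hV : IsAffineOpen V) : ModuleCat.{u} A ⥤ ModuleCat.{u} Γ(X, V) :=
  TA A F ⋙ Scheme.Modules.restrictFunctor hV.fromSpec ⋙ moduleSpecΓFunctor (R := Γ(X, V))

variable [F.IsQuasicoherent]

theorem preservesColimits_secR {V : X.Opens} (hV : IsAffineOpen V) :
    PreservesColimitsOfSize.{u, u} (secR A F hV) := by
  haveI : ∀ M, ((TA A F ⋙ Scheme.Modules.restrictFunctor hV.fromSpec).obj M).IsQuasicoherent := fun M =>
    (QCohLib.isQuasicoherent_iff_affine.1 (isQuasicoherent_TA A F M)) ⟨V, hV⟩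
  let w : secR A F hV ⋙ tilde.functor Γ(X, V) ≅ TA A F ⋙ Scheme.Modules.restrictFunctor hV.fromSpec :=
    NatIso.ofComponents (fun M => counitIso ((TA A F ⋙ Scheme.Modules.restrictFunctor hV.fromSpec).obj M))
      fun {M N} g => (tilde.adjunction (R := Γ(X, V))).counit.naturality
        ((TA A F ⋙ Scheme.Modules.restrictFunctor hV.fromSpec).map g)
  haveI : (tilde.functor Γ(X, V)).Full := (tilde.fullyFaithfulFunctor (R := Γ(X, V))).full
  haveI : (tilde.functor Γ(X, V)).Faithful := (tilde.fullyFaithfulFunctor (R := Γ(X, V))).faithful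
  haveI : PreservesColimitsOfSize.{u, u} (Scheme.Modules.restrictFunctor hV.fromSpec) :=
    (Scheme.Modules.restrictAdjunction hV.fromSpec).leftAdjoint_preservesColimits
  haveI : PreservesColimitsOfSize.{u, u} (secR A F hV ⋙ tilde.functor Γ(X, V)) :=
    preservesColimits_of_natIso w.symm
  exact ⟨fun {J} _ => preservesColimitsOfShape_of_reflects_of_preserves (secR A F hV) (tilde.functor Γ(X, V))⟩

/-- Sections of `F ⊗_A M` over affines. -/
theorem beta_bijective {V : X.Opens} (hV : IsAffineOpen V) (M : ModuleCat.{u} A) :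
    Function.Bijective (beta A F V M) := by
  let α : A →+* Γ(X, V) := FormalFun.toSec V
  let Φ : ModuleCat.{u} A ⥤ ModuleCat.{u} A := secR A F hV ⋙ ModuleCat.restrictScalars α
  haveI := preservesColimits_secR A F hV
  haveI : PreservesColimitsOfSize.{u, u} (ModuleCat.restrictScalars.{u} α) := inferInstance
  haveI : PreservesColimitsOfSize.{u, u} Φ := inferInstance
  haveI : Φ.Additive := by
    haveI : PreservesColimitsOfSize.{0, 0} Φ := preservesColimitsOfSize_shrink Φ
    haveI := preservesBinaryBiproducts_of_preservesBinaryCoproducts Φ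
    exact Functor.additive_of_preservesBinaryBiproducts _
  let s : ∀ N : ModuleCat.{u} A, Φ.obj N ≃ₗ[A] (rsh A ((TA A F).obj N)).F.obj.obj (op V) := fun N =>
    AddEquiv.toLinearEquiv
      (show Φ.obj N ≃+ (rsh A ((TA A F).obj N)).F.obj.obj (op V) from (onSpecΓ ((TA A F).obj N) hV).toAddEquiv)
      fun a x => (onSpecΓ ((TA A F).obj N) hV).map_smul (α a) x
  have hs : ∀ {N N' : ModuleCat.{u} A} (g : N ⟶ N') (x : Φ.obj N),
      s N' ((Φ.map g).hom x) = ((TA A F).map g).app V (s N x) := fun g x =>
    (QCohLib.app_map ((TA A F).map g) _ _).symm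
  have hΦ : ∀ {N N' : ModuleCat.{u} A} (a : A) (g : N ⟶ N'), Φ.map (a • g) = a • Φ.map g := by
    intro N N' a g
    refine ModuleCat.hom_ext (LinearMap.ext fun x => (s N').injective ?_)
    rw [hs, TA_map_smul_hom, ModuleCat.hom_smul, LinearMap.smul_apply, map_smul, hs]
    rfl
  let i : (rsh A F).F.obj.obj (op V) ≃ₗ[A] Φ.obj (ModuleCat.of A A) :=
    (LinearEquiv.ofBijective ((modHom (Coh.toGlobal (X ↘ Spec (CommRingCat.of A))) (rho A F).inv).app V)
      (ConcreteCategory.bijective_of_isIso ((rho A F).inv.app V))).trans (s _).symm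
  have e : ∀ z, beta A F V M z = s M (ewMap Φ hΦ M (TensorProduct.congr i (LinearEquiv.refl A M) z)) := by
    intro z
    induction z using TensorProduct.induction_on with
    | zero => simp only [map_zero]
    | tmul f m =>
      rw [TensorProduct.congr_tmul, ewMap_tmul, hs]
      show (theta A F m).app V f = ((TA A F).map (elm m)).app V (s _ (i f))
      rw [show s _ (i f) = (rho A F).inv.app V f from (s _).apply_symm_apply _]
      rfl
    | add a b ha hb => simp only [map_add, ha, hb]
  rw [funext e]
  exact (s M).bijective.comp ((ewMap_bijective Φ hΦ M).comp (LinearEquiv.bijective _))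

end Groth.Agent.BCCx
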