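import Groth.Agent.BCCx.Fibre
import Groth.Agent.TFun.Flat

/-!
# Consequences of vanishing on the closed fibre
-/

set_option autoImplicit false
set_option linter.style.haveILetI false
universe u

open CategoryTheory CategoryTheory.Limits AlgebraicGeometry

namespace Groth.Agent.BCCx

/-- `H^(n+1)(X_0, F_0) = 0` makes `T^n` right exact. -/
theorem preservesEpi_of_fibre_vanishing {A : Type u} [CommRing A] [IsNoetherianRing A] [IsLocalRing A]
    {X : Scheme.{u}} [X.Over (Spec (CommRingCat.of A))] [IsProper (X ↘ Spec (CommRingCat.of A))]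
    (F : X.Modules) (hF : Coh.IsCoh F) (hfl : FlatMod.IsFlatOver (X ↘ Spec (CommRingCat.of A)) F) (n : ℕ)
    (hvan : Subsingleton (CohIII.fiberH (X ↘ Spec (CommRingCat.of A)) F (IsLocalRing.closedPoint A) (n + 1))) :
    (CohIII.tensorAFunctor A F ⋙ CohIII.HAb X n).PreservesEpimorphisms := by
  haveI : F.IsQuasicoherent := hF.1
  haveI : CompactSpace X := QuasiCompact.compactSpace_of_compactSpace (X ↘ Spec (CommRingCat.of A))
  obtain ⟨N, L, hL, -, hiso⟩ := exists_natIso F hF hfl
  obtain ⟨e⟩ := hiso n ((N : ℤ) - n) (sub_sub_cancel _ _)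
  obtain ⟨e'⟩ := hiso (n + 1) ((N : ℤ) - n - 1) (by push_cast; ring)
  obtain ⟨w⟩ := nonempty_residue_closedPoint A
  obtain ⟨i⟩ := nonempty_fibreH (A := A) F (IsLocalRing.closedPoint A) (n + 1)
  have hz : IsZero ((CohIII.TFun L ((N : ℤ) - n - 1)).obj (ModuleCat.of A (IsLocalRing.ResidueField A))) := by
    rw [ModuleCat.isZero_iff_subsingleton]
    exact ((i.trans ((CohIII.tensorAFunctor A F ⋙ CohIII.HAb X (n + 1)).mapIso w).addCommGroupIsoToAddEquiv).trans
      (e'.app _).addCommGroupIsoToAddEquiv).surjective.subsingleton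
  rw [preservesEpi_iff e, TFun.preservesEpi_iff_preservesMono L (fun i => (finite_flat hL i).2)
    (sub_add_cancel _ 1), TFun.preservesMono_iff L (fun i => (finite_flat hL i).2) (sub_add_cancel _ 1)]
  exact TFun.flat_coker_of_isZero_residue L (finite_flat hL) (sub_add_cancel _ 1)
    (sub_add_cancel ((N : ℤ) - n - 1) 1) hz

end Groth.Agent.BCCx
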